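import Cfsg.Agent.Lib.Presented.Fi22Outer.Kgroup
import Cfsg.Agent.Lib.Components.FStarSubnormal
import Cfsg.Agent.S0817

/-! The fixed-point group of the diagram symmetry is the automorphism group of `Ω⁺₈(2)`. -/
set_option autoImplicit false
set_option maxRecDepth 100000

namespace CfsgLib.Presented.Fi22Outer

open CfsgLib.ThreeTrans CfsgLib.ThreeTrans.Classif
open CfsgLib.Orth
open Fi22Pts (G)

/-- the simple group in the fixed-point group -/
abbrev Om8 : Type := Cfsg.Omega (ZMod 2) (Cfsg.quadFormPlus 4 (ZMod 2))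

theorem card_Om8 : Nat.card Om8 = 174182400 := by
  classical
  show Nat.card (commutator (Cfsg.isometryGroup (ZMod 2) (Cfsg.quadFormPlus 4 (ZMod 2)))) = _
  rw [← plusQ_coe]
  have hQ := plusQ_nondegenerate (F := ZMod 2) 4
  have hi : (commutator (O (plusQ 4 (ZMod 2)))).index = 2 :=
    index_commutator_char_two hQ (reflClosure_eq_top hQ (Or.inr (by simp))) (by simp)
  have h := (commutator (O (plusQ 4 (ZMod 2)))).card_mul_index
  rw [hi, CfsgLib.CoOneType.card_O_plus] at h
  exact (show Nat.card (commutator (O (plusQ 4 (ZMod 2)))) = 174182400 by omega)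

theorem three_pow_dvd :
    3 ^ 12 ∣ Nat.card (Cfsg.POmega (ZMod 3) (Cfsg.quadFormPlus 4 (ZMod 3))) := by
  classical
  rw [← plusQ_coe]
  have hQ := plusQ_nondegenerate (F := ZMod 3) 4
  have h2 : (2 : ZMod 3) ≠ 0 := by decide
  have hn : 7 ≤ Fintype.card (Fin 4 ⊕ Fin 4) := by simp
  set Z := Subgroup.center (commutator (O (plusQ 4 (ZMod 3)))) with hZ
  have hp : IsPGroup 2 Z := by
    rintro ⟨g, hg⟩
    refine ⟨1, Subtype.ext ?_⟩
    obtain ⟨e, he, hx⟩ := CfsgLib.POmega.center_scalar hQ hn hg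
    show g ^ 2 ^ 1 = 1
    rw [pow_one, pow_two]
    refine Subtype.ext (ext_app fun x => ?_)
    show app (g.1 * g.1) x = _
    rw [app_mul, hx, hx, smul_smul, he, one_smul, Subgroup.coe_one, app_one]
  haveI : Fact (Nat.Prime 2) := ⟨Nat.prime_two⟩
  obtain ⟨k, hk⟩ := IsPGroup.iff_card.1 hp
  have h1 := (commutator (O (plusQ 4 (ZMod 3)))).card_mul_index
  have h4 : (commutator (O (plusQ 4 (ZMod 3)))).index = 4 := by
    obtain ⟨d, hd⟩ : ∃ d : ZMod 3, ¬ IsSquare d := ⟨2, by decide⟩
    exact index_commutator hQ h2 hd (by simp)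
  have hO : Nat.card (O (plusQ 4 (ZMod 3))) = 2 * 3 ^ 12 * 80 * (8 * 80 * 728) := by
    have h := CfsgLib.ClassicalGroups.card_isometry_plus (F := ZMod 3) 3
    rw [← plusQ_coe] at h
    refine h.trans ?_
    rw [ZMod.card]
    decide
  rw [h4, hO] at h1
  have h3 := Subgroup.card_eq_card_quotient_mul_card_subgroup Z
  rw [hk] at h3
  have hdvd : 3 ^ 12 ∣ Nat.card (commutator (O (plusQ 4 (ZMod 3))) ⧸ Z) * (2 ^ k * 4) :=
    ⟨2 * 80 * (8 * 80 * 728), by rw [← mul_assoc, ← h3, h1]; ring⟩
  refine (Nat.Coprime.dvd_of_dvd_mul_right ?_ hdvd : _)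
  refine Nat.Coprime.pow_left 12 ?_
  rw [show 2 ^ k * 4 = 2 ^ (k + 2) by ring]
  exact Nat.Coprime.pow_right (k + 2) (by norm_num)

/-- the structure of the group -/
structure Layer (L : Subgroup Kg) : Prop where
  split : Split EK L
  fst : L = Cfsg.generalizedFittingSubgroup Kg
  quot : ∀ [L.Normal], Nonempty (Kg ⧸ L ≃* Equiv.Perm (Fin 3))
  iso : Nonempty (L ≃* Om8)

theorem exists_layer : ∃ L : Subgroup Kg, Layer L := by
  obtain ⟨L, hL⟩ := semiK.split EK_disconnected
  haveI := hL.normal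
  obtain ⟨hq, hiso⟩ := hL.orth_case semiK a0_mem (classify_all _ (hL.good a0 a0_mem))
  refine ⟨L, hL, hL.fstar, hq, hiso.resolve_right fun ⟨e⟩ => ?_⟩
  have h1 : Nat.card L ∣ Nat.card G := (Subgroup.card_subgroup_dvd_card L).trans (Subgroup.card_subgroup_dvd_card Kg)
  rw [Nat.card_congr e.toEquiv, Fi22Order.card_eq] at h1
  have h2 := three_pow_dvd.trans h1
  norm_num at h2

theorem card_layer {L : Subgroup Kg} (h : Layer L) : Nat.card L = 174182400 := by
  obtain ⟨e⟩ := h.iso
  rw [Nat.card_congr e.toEquiv, card_Om8]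

theorem card_Kg : Nat.card Kg = 1045094400 := by
  obtain ⟨L, h⟩ := exists_layer
  haveI := h.split.normal
  obtain ⟨e⟩ := h.quot
  rw [Subgroup.card_eq_card_quotient_mul_card_subgroup L, Nat.card_congr e.toEquiv, card_layer h, Nat.card_perm,
    Nat.card_fin]
  rfl

theorem fpT_notMem {L : Subgroup Kg} (h : Layer L) {i : ℕ} (hi : i < 360) :
    (⟨fpT i, mem_Kg hi⟩ : Kg) ∉ L := h.split.not_mem _ (fpT_mem hi)

theorem card_mulAut_layer {L : Subgroup Kg} (h : Layer L) : Nat.card (MulAut L) = 6 * Nat.card L := by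
  haveI : Fact (Nat.Prime 2) := ⟨Nat.prime_two⟩
  obtain ⟨eL⟩ := h.iso
  obtain ⟨eP⟩ := DisOrth.exists_modCenter h.split.center_layer eL
  have hA := Cfsg.Agent.S0817.result (F := ZMod 2) 2 1 le_rfl (by simp [ZMod.card]) 4 le_rfl
  rw [Nat.card_congr (MulAut.congr eP).toEquiv, Nat.card_congr eP.toEquiv]
  refine hA.trans ?_
  simp

theorem conj_Kg {g : G} (hg : g ∈ Cs) {y : G} (hy : y ∈ Kg) : g * y * g⁻¹ ∈ Kg := by
  induction hy using Subgroup.closure_induction with
  | mem x hx => exact Subgroup.subset_closure (conj_Fset hg hx)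
  | one => simp
  | mul u v _ _ hu hv => rw [show g * (u * v) * g⁻¹ = g * u * g⁻¹ * (g * v * g⁻¹) by group]; exact mul_mem hu hv
  | inv u _ hu => rw [show g * u⁻¹ * g⁻¹ = (g * u * g⁻¹)⁻¹ by group]; exact inv_mem hu

/-- conjugation by the fixed-point group -/
noncomputable def actK (g : Cs) : MulAut Kg where
  toFun y := ⟨(g : G) * y * (g : G)⁻¹, conj_Kg g.2 y.2⟩
  invFun y := ⟨(g : G)⁻¹ * y * g, by simpa using conj_Kg (inv_mem g.2) y.2⟩
  left_inv y := Subtype.ext (by simp [mul_assoc])
  right_inv y := Subtype.ext (by simp [mul_assoc])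
  map_mul' x y := Subtype.ext (by simp [mul_assoc])

theorem conj_layer {L : Subgroup Kg} (h : Layer L) (g : Cs) {l : Kg} (hl : l ∈ L) : actK g l ∈ L := by
  have hm := CfsgLib.Components39.map_generalizedFitting_equiv (actK g)
  rw [← h.fst] at hm
  rw [← hm]
  exact Subgroup.mem_map_of_mem _ hl

/-- conjugation on the layer -/
noncomputable def actL {L : Subgroup Kg} (h : Layer L) : Cs →* MulAut L where
  toFun g :=
    { toFun := fun l => ⟨actK g l, conj_layer h g l.2⟩
      invFun := fun l => ⟨actK g⁻¹ l, conj_layer h g⁻¹ l.2⟩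
      left_inv := fun l => Subtype.ext (Subtype.ext (by simp [actK, mul_assoc]))
      right_inv := fun l => Subtype.ext (Subtype.ext (by simp [actK, mul_assoc]))
      map_mul' := fun x y => Subtype.ext (map_mul (actK g) _ _) }
  map_one' := MulEquiv.ext fun l => Subtype.ext (Subtype.ext (by simp [actK]))
  map_mul' g g' := MulEquiv.ext fun l => Subtype.ext (Subtype.ext (by simp [actK, mul_assoc]))

theorem actL_apply {L : Subgroup Kg} (h : Layer L) (g : Cs) (l : L) :
    (((actL h g l : L) : Kg) : G) = g * ((l : Kg) : G) * (g : G)⁻¹ := rfl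

theorem actL_injective {L : Subgroup Kg} (h : Layer L) : Function.Injective (actL h) := by
  rw [← MonoidHom.ker_eq_bot_iff]
  refine (Subgroup.eq_bot_iff_forall _).2 fun g hg => Subtype.ext ?_
  haveI := h.split.normal
  have hfix : ∀ l ∈ L, actK g l = l := fun l hl => by
    have h1 : actL h g (⟨l, hl⟩ : L) = (⟨l, hl⟩ : L) := by rw [MonoidHom.mem_ker.1 hg]; rfl
    exact congrArg Subtype.val h1
  have hK : ∀ k, actK g k = k := by
    intro k
    have : actK g k * k⁻¹ ∈ Subgroup.centralizer (L : Set Kg) := by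
      refine Subgroup.mem_centralizer_iff.2 fun l hl => ?_
      have hm : k⁻¹ * l * k ∈ L := by simpa using h.split.normal.conj_mem l hl k⁻¹
      have h1 := hfix _ hm
      rw [map_mul, map_mul, map_inv, hfix l hl] at h1
      calc l * (actK g k * k⁻¹) = actK g k * ((actK g k)⁻¹ * l * actK g k) * k⁻¹ := by group
        _ = actK g k * (k⁻¹ * l * k) * k⁻¹ := by rw [h1]
        _ = actK g k * k⁻¹ * l := by group
    rw [h.split.self, Subgroup.mem_bot, mul_inv_eq_one] at this
    exact this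
  refine eq_one_of_all fun x hx => ?_
  have := congrArg Subtype.val (hK ⟨x, Subgroup.subset_closure hx⟩)
  exact mul_inv_eq_iff_eq_mul.1 this

/-- The fixed-point group is generated by the fixed members. -/
theorem Cs_eq : Cs = Kg := by
  obtain ⟨L, h⟩ := exists_layer
  refine (Subgroup.eq_of_le_of_card_ge Kg_le_Cs ?_).symm
  haveI : Finite (MulAut L) := Nat.finite_of_card_ne_zero (by rw [card_mulAut_layer h, card_layer h]; norm_num)
  refine (Nat.card_le_card_of_injective _ (actL_injective h)).trans (le_of_eq ?_)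
  rw [card_mulAut_layer h, card_layer h, card_Kg]

theorem card_Cs : Nat.card Cs = 1045094400 := by rw [Cs_eq, card_Kg]

/-- The fixed-point group. -/
theorem Cs_equiv : Nonempty (Cs ≃* MulAut Om8) := by
  obtain ⟨L, h⟩ := exists_layer
  obtain ⟨e⟩ := h.iso
  haveI : Finite (MulAut L) := Nat.finite_of_card_ne_zero (by rw [card_mulAut_layer h, card_layer h]; norm_num)
  have hb : Function.Bijective (actL h) :=
    (Nat.bijective_iff_injective_and_card _).2 ⟨actL_injective h, by
      rw [card_Cs, card_mulAut_layer h, card_layer h]⟩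
  exact ⟨(MulEquiv.ofBijective _ hb).trans (MulAut.congr e)⟩

end CfsgLib.Presented.Fi22Outer
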