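import Cfsg.Agent.Lib.Presented.Fi22Outer.CentCheck
import Cfsg.Agent.Lib.Presented.Fi22Outer.CsStruct
import Cfsg.Agent.Lib.ThreeTrans.PolarTwins.Models
import Cfsg.Agent.Lib.Sp.Card

/-!
The fixed points of the symmetry times a fixed transposition: the centralizer of that transposition in the
fixed-point group, of shape `2 × Sp₆(2)`.
-/
set_option autoImplicit false
set_option maxRecDepth 100000
set_option synthInstance.maxSize 512

namespace CfsgLib.Presented.Fi22Outer

open CfsgLib.ThreeTrans CfsgLib.ThreeTrans.Classif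
open CfsgLib.ThreeTrans.Inst.FiTwentyTwo (P)
open Fi22UCert (rep)
open Fi22Pts (G T img pt pt_val pt_self)

/-- the product -/
noncomputable def sA : MulAut G := sAut * MulAut.conj aG

theorem sA_apply (g : G) : sA g = sAut (aG * g * aG⁻¹) := rfl

theorem sAut_aG : sAut aG = aG := sAut_fpT (by norm_num)

theorem aG_mem : aG ∈ Fset := fpT_mem (by norm_num)

theorem aG_ne_one : aG ≠ 1 := fun e => by
  have h := hset.1 aG aG_mem.1
  rw [e, orderOf_one] at h
  exact absurd h (by norm_num)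

theorem aG_mem_Cs : aG ∈ Cs := sAut_aG

/-- The members fixed by the product. -/
theorem sA_fixed {x : G} (hx : x ∈ P.D) (h : sA x = x) : ∃ i, i < 64 ∧ fpT i = x := by
  obtain ⟨j, rfl⟩ := P.tp_surj hx
  have e : P.tp j = T (j : ℕ) := by rw [T, pt_self]
  have hj := (aG_im _ j.2)
  rw [sA_apply, e, T, P.conj_tp, hj.2] at h
  have h2 : sAut (T (img [3] (j : ℕ))) = T (j : ℕ) := h
  rw [sAut_T hj.1] at h2
  have h3 := T_injective (sg_spec hj.1).1 j.2 h2
  obtain ⟨i, hi, he⟩ := m64_mem.1 ((twist_fixed_iff j.2).1 h3)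
  exact ⟨i, hi, by rw [fpT, he, e]⟩

theorem near_mem {i : ℕ} (hi : i < 64) : Commute aG (fpT i) := by
  rcases eq_or_ne i 0 with rfl | h0
  exacts [Commute.refl _, (near_spec hi h0).2.1]

theorem sA_fpT {i : ℕ} (hi : i < 64) : sA (fpT i) = fpT i := by
  rw [sA_apply, (near_mem hi).eq, mul_inv_cancel_right, sAut_fpT (by omega)]

/-- The fixed points of the product lie in the fixed-point group of the symmetry. -/
theorem sA_iff {g : G} : sA g = g ↔ g ∈ Cs ∧ Commute aG g := by
  refine ⟨fun h => ?_, fun ⟨h1, h2⟩ => by rw [sA_apply, h2.eq, mul_inv_cancel_right, mem_Cs.1 h1]⟩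
  have hfix : ∀ {y : G}, sA y = y → ∀ {x : G}, x ∈ P.D → sA x = x → ∃ i, i < 64 ∧ fpT i = y * x * y⁻¹ :=
    fun {y} hy {x} hx hx' => sA_fixed (P.conj_mem y hx) (by rw [map_mul, map_mul, map_inv, hy, hx'])
  have ha : sA aG = aG := sA_fpT (by norm_num : 0 < 64)
  obtain ⟨i, hi, he⟩ := hfix h aG_mem.1 ha
  have hcomm : Commute aG g := by
    by_cases h0 : i = 0
    · subst h0
      have e : g * aG * g⁻¹ = aG := he.symm
      exact (mul_inv_eq_iff_eq_mul.1 e).symm
    · exfalso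
      obtain ⟨-, -, j, hj, hnc⟩ := near_spec hi h0
      obtain ⟨k, hk, hk'⟩ := hfix (y := g⁻¹) (by rw [map_inv, h]) (P.tp_mem _) (sA_fpT hj)
      refine hnc ?_
      have hc := (near_mem hk).map (MulAut.conj g).toMonoidHom
      rw [hk'] at hc
      rw [he]
      simpa [mul_assoc, fpT, T] using hc
  refine ⟨?_, hcomm⟩
  rwa [sA_apply, hcomm.eq, mul_inv_cancel_right] at h

/-- the centralizer of the first transposition in the fixed-point group -/
noncomputable def Cent : Subgroup G := Cs ⊓ Subgroup.centralizer ({aG} : Set G)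

theorem mem_Cent {g : G} : g ∈ Cent ↔ g ∈ Cs ∧ Commute aG g := by
  rw [Cent, Subgroup.mem_inf, Subgroup.mem_centralizer_singleton_iff]
  exact and_congr_right fun _ => ⟨fun h => h.symm, fun h => h.eq.symm⟩

theorem mem_Cent_iff {g : G} : g ∈ Cent ↔ sA g = g := mem_Cent.trans sA_iff.symm

/-- The orbit of a member under a group of fixed points, as a number. -/
theorem card_orbit_mul {H : Subgroup G} {x : G} {S : Finset G} (hsub : ∀ g ∈ H, g * x * g⁻¹ ∈ S)
    (htr : ∀ y ∈ S, ∃ g ∈ H, g * x * g⁻¹ = y) :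
    S.card * Nat.card (H ⊓ Subgroup.centralizer ({x} : Set G) : Subgroup G) = Nat.card H := by
  let inst : MulAction H G := MulAction.compHom G ((MulAut.conj (G := G)).comp H.subtype)
  have hsm : ∀ (g : H) (y : G), g • y = (g : G) * y * (g : G)⁻¹ := fun _ _ => rfl
  have horb : MulAction.orbit H x = (S : Set G) := by
    ext y
    constructor
    · rintro ⟨g, rfl⟩
      exact hsub g g.2
    · intro hy
      obtain ⟨g, hg, rfl⟩ := htr y hy
      exact ⟨⟨g, hg⟩, rfl⟩
  have hst : (MulAction.stabilizer H x).map H.subtype = H ⊓ Subgroup.centralizer ({x} : Set G) := by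
    ext g
    rw [Subgroup.mem_map, Subgroup.mem_inf, Subgroup.mem_centralizer_singleton_iff]
    constructor
    · rintro ⟨k, hk, rfl⟩
      have e : (k : G) * x * (k : G)⁻¹ = x := hk
      exact ⟨k.2, mul_inv_eq_iff_eq_mul.1 e⟩
    · rintro ⟨hg, hc⟩
      refine ⟨⟨g, hg⟩, ?_, rfl⟩
      show g * x * g⁻¹ = x
      rw [hc, mul_inv_cancel_right]
  rw [← Set.ncard_coe_finset, ← horb, ← MulAction.index_stabilizer, ← hst,
    Subgroup.card_map_of_injective H.subtype_injective, mul_comm]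
  exact (MulAction.stabilizer H x).card_mul_index

theorem fpT_inj {i j : ℕ} (hi : i < 360) (hj : j < 360) (e : fpT i = fpT j) : fpN i = fpN j :=
  T_injective (fp_spec hi).2.2.1 (fp_spec hj).2.2.1 e

theorem fix_nodup : (fixPts.map Prod.fst).Nodup := by decide +kernel

theorem fpN_inj {i j : ℕ} (hi : i < 360) (hj : j < 360) (e : fpN i = fpN j) : i = j := by
  have h := List.nodup_iff_injective_get.1 fix_nodup
  have hi' : i < (fixPts.map Prod.fst).length := by rw [List.length_map, fix_len]; omega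
  have hj' : j < (fixPts.map Prod.fst).length := by rw [List.length_map, fix_len]; omega
  have := @h ⟨i, hi'⟩ ⟨j, hj'⟩ (by
    simp only [List.get_eq_getElem, List.getElem_map]
    rw [fpN, fpN, List.getD_eq_getElem _ _ (by simpa using hi'), List.getD_eq_getElem _ _ (by simpa using hj')] at e
    exact e)
  exact Fin.mk.inj this

theorem fpT_injOn {n : ℕ} (hn : n ≤ 360) : Set.InjOn fpT (Finset.range n : Set ℕ) := fun i hi j hj e => by
  simp only [Finset.coe_range, Set.mem_Iio] at hi hj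
  exact fpN_inj (by omega) (by omega) (fpT_inj (by omega) (by omega) e)

theorem card_Cent : Nat.card Cent = 2903040 := by
  classical
  have h := card_orbit_mul (H := Cs) (x := aG) (S := (Finset.range 360).image fpT)
    (fun g hg => by
      obtain ⟨i, hi, he⟩ := mem_Fset.1 (conj_Fset hg aG_mem)
      exact Finset.mem_image.2 ⟨i, Finset.mem_range.2 hi, he⟩)
    (fun y hy => by
      obtain ⟨i, hi, rfl⟩ := Finset.mem_image.1 hy
      obtain ⟨k, hk, hk'⟩ := exists_conj (fpT_mem (Finset.mem_range.1 hi))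
      exact ⟨k, Kg_le_Cs hk, hk'⟩)
  rw [Finset.card_image_of_injOn (fpT_injOn le_rfl), Finset.card_range, card_Cs] at h
  show Nat.card (Cs ⊓ Subgroup.centralizer ({aG} : Set G) : Subgroup G) = _
  omega

/-- the transpositions commuting with the first -/
def E63 : Set G := {x | ∃ i, i < 64 ∧ i ≠ 0 ∧ fpT i = x}

theorem E63_mem_Cent {x : G} (hx : x ∈ E63) : x ∈ Cent := by
  obtain ⟨i, hi, -, rfl⟩ := hx
  exact mem_Cent.2 ⟨sAut_fpT (by omega), near_mem hi⟩

theorem conj_E63 {g : G} (hg : g ∈ Cent) {x : G} (hx : x ∈ E63) : g * x * g⁻¹ ∈ E63 := by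
  obtain ⟨i, hi, h0, rfl⟩ := hx
  obtain ⟨j, hj, he⟩ := sA_fixed (x := g * fpT i * g⁻¹) (P.conj_mem g (P.tp_mem _))
    (by rw [map_mul, map_mul, map_inv, mem_Cent_iff.1 hg, sA_fpT hi])
  refine ⟨j, hj, fun e => h0 ?_, he⟩
  subst e
  have hc := (mem_Cent.1 hg).2
  have e2 : g * fpT i * g⁻¹ = g * aG * g⁻¹ := by rw [← hc.eq, mul_inv_cancel_right]; exact he.symm
  exact fpN_inj (by omega) (by norm_num) (fpT_inj (by omega) (by norm_num) (mul_left_cancel (mul_right_cancel e2)))

/-- the centre spanned by the first transposition -/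
noncomputable def Za : Subgroup Cent := Subgroup.zpowers ⟨aG, mem_Cent.2 ⟨aG_mem_Cs, Commute.refl _⟩⟩

theorem aG_sq : aG * aG = 1 := fpT_sq 0

theorem mem_Za {z : Cent} : z ∈ Za ↔ (z : G) = 1 ∨ (z : G) = aG := by
  constructor
  · intro h
    obtain ⟨n, rfl⟩ := Subgroup.mem_zpowers_iff.1 h
    have e2 : (⟨aG, mem_Cent.2 ⟨aG_mem_Cs, Commute.refl _⟩⟩ : Cent) * ⟨aG, mem_Cent.2 ⟨aG_mem_Cs, Commute.refl _⟩⟩ = 1 :=
      Subtype.ext aG_sq
    rcases Int.even_or_odd' n with ⟨k, rfl | rfl⟩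
    · left; rw [zpow_mul, zpow_two, e2, one_zpow]; rfl
    · right; rw [zpow_add_one, zpow_mul, zpow_two, e2, one_zpow, one_mul]
  · rintro (h | h)
    · rw [show z = 1 from Subtype.ext h]; exact one_mem _
    · rw [show z = ⟨aG, mem_Cent.2 ⟨aG_mem_Cs, Commute.refl _⟩⟩ from Subtype.ext h]; exact Subgroup.mem_zpowers _

instance : Za.Normal := by
  refine ⟨fun z hz g => mem_Za.2 ?_⟩
  rcases mem_Za.1 hz with h | h
  · left; simp [h]
  · right
    show (g : G) * z * (g : G)⁻¹ = aG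
    rw [h, ← (mem_Cent.1 g.2).2.eq, mul_inv_cancel_right]

/-- the images of the transpositions -/
def EQ : Set (Cent ⧸ Za) := QuotientGroup.mk '' {y : Cent | (y : G) ∈ E63}

/-- the group they generate -/
noncomputable def Qp : Subgroup (Cent ⧸ Za) := Subgroup.closure EQ

theorem mk_eq_iff' {x y : Cent} :
    ((x : Cent ⧸ Za)) = (y : Cent ⧸ Za) ↔ (y : G) = x ∨ (y : G) = (x : G) * aG := by
  rw [QuotientGroup.eq, mem_Za]
  show (x : G)⁻¹ * y = 1 ∨ (x : G)⁻¹ * y = aG ↔ _
  rw [inv_mul_eq_one, inv_mul_eq_iff_eq_mul, eq_comm (a := (x : G))]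

theorem E63_ne {x y : G} (hx : x ∈ E63) (hy : y ∈ E63) : y ≠ x * aG := by
  obtain ⟨i, hi, h0, rfl⟩ := hx
  obtain ⟨j, hj, -, rfl⟩ := hy
  rw [← (near_mem hi).eq]
  exact Ne.symm (not_prod hi h0 hj)

theorem mk_inj {x y : Cent} (hx : (x : G) ∈ E63) (hy : (y : G) ∈ E63) (e : (x : Cent ⧸ Za) = (y : Cent ⧸ Za)) :
    x = y :=
  Subtype.ext ((mk_eq_iff'.1 e).resolve_right (E63_ne hx hy)).symm

theorem mk_commute {x y : Cent} (hx : (x : G) ∈ E63) (hy : (y : G) ∈ E63) :
    Commute (x : Cent ⧸ Za) (y : Cent ⧸ Za) ↔ Commute (x : G) (y : G) := by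
  constructor
  · intro h
    have e : ((x * y * x⁻¹ : Cent) : Cent ⧸ Za) = (y : Cent ⧸ Za) := by
      rw [QuotientGroup.mk_mul, QuotientGroup.mk_mul, QuotientGroup.mk_inv, h.eq, mul_inv_cancel_right]
    have h2 := congrArg Subtype.val (mk_inj (conj_E63 x.2 hy) hy e)
    exact mul_inv_eq_iff_eq_mul.1 h2
  · intro h
    exact congrArg ((↑) : Cent → Cent ⧸ Za) (Subtype.ext h.eq : x * y = y * x)

/-- a member as an element of the centralizer -/
noncomputable def eC (i : Fin 63) : Cent :=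
  ⟨fpT ((i : ℕ) + 1), E63_mem_Cent ⟨(i : ℕ) + 1, by omega, by omega, rfl⟩⟩

theorem eC_mem (i : Fin 63) : (eC i : G) ∈ E63 := ⟨(i : ℕ) + 1, by omega, by omega, rfl⟩

theorem exists_eC {x : Cent} (hx : (x : G) ∈ E63) : ∃ i, eC i = x := by
  obtain ⟨j, hj, h0, he⟩ := hx
  exact ⟨⟨j - 1, by omega⟩, Subtype.ext (by show fpT (j - 1 + 1) = _; rw [show j - 1 + 1 = j by omega, he])⟩

/-- the class inside the group it generates -/
def EQp : Set Qp := {q | (q : Cent ⧸ Za) ∈ EQ}

theorem EQ_conj (g : Cent ⧸ Za) {q : Cent ⧸ Za} (hq : q ∈ EQ) : g * q * g⁻¹ ∈ EQ := by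
  obtain ⟨x, hx, rfl⟩ := hq
  obtain ⟨k, rfl⟩ := QuotientGroup.mk_surjective g
  exact ⟨k * x * k⁻¹, conj_E63 k.2 hx, by simp⟩

theorem EQp_group : Cfsg.IsThreeTranspositionGroup EQp := by
  refine ⟨⟨fun q hq => ?_, fun q hq q' hq' => ?_⟩, fun g q hq => EQ_conj _ hq, ?_⟩
  · rw [← Subgroup.orderOf_coe]
    obtain ⟨x, hx, he⟩ := hq
    obtain ⟨i, hi, h0, hx'⟩ := hx
    rw [← he]
    refine orderOf_eq_prime ?_ fun e => ?_
    · rw [pow_two, ← QuotientGroup.mk_mul, show x * x = 1 from Subtype.ext (by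
        show (x : G) * x = 1
        rw [← hx']; exact fpT_sq i), QuotientGroup.mk_one]
    · rcases mem_Za.1 ((QuotientGroup.eq_one_iff x).1 e) with h | h
      · exact P.tp_ne_one _ (hx'.trans h)
      · exact (near_spec hi h0).1 (fpT_inj (by omega) (by norm_num) (hx'.trans h))
  · obtain ⟨x, hx, hxe⟩ := hq
    obtain ⟨y, hy, hye⟩ := hq'
    obtain ⟨i, hi, -, hxi⟩ := hx
    obtain ⟨j, hj, -, hyj⟩ := hy
    have h := hset.2 (fpT i) (P.tp_mem _) (fpT j) (P.tp_mem _)
    have push : ∀ n : ℕ, (fpT i * fpT j) ^ n = 1 → (q * q') ^ n = 1 := fun n hn => by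
      refine Subtype.ext ?_
      show ((q : Cent ⧸ Za) * (q' : Cent ⧸ Za)) ^ n = 1
      rw [← hxe, ← hye, ← QuotientGroup.mk_mul, ← QuotientGroup.mk_pow,
        show (x * y) ^ n = 1 from Subtype.ext (by
          show ((x : G) * y) ^ n = 1
          rw [← hxi, ← hyj, hn]), QuotientGroup.mk_one]
    exact h.imp (push 2) (push 3)
  · rw [eq_top_iff]
    rintro ⟨q, hq⟩ -
    induction hq using Subgroup.closure_induction with
    | mem y hy => exact Subgroup.subset_closure hy
    | one => exact one_mem _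
    | mul u v hu hv ihu ihv => exact mul_mem ihu ihv
    | inv u hu ihu => exact inv_mem ihu

theorem center_Qp : Subgroup.center Qp = ⊥ := by
  refine (Subgroup.eq_bot_iff_forall _).2 fun q hq => Subtype.ext ?_
  obtain ⟨z, hz⟩ := QuotientGroup.mk_surjective (q : Cent ⧸ Za)
  show (q : Cent ⧸ Za) = 1
  rw [← hz, QuotientGroup.eq_one_iff, mem_Za]
  refine near_cases fun i hi => ?_
  by_cases h0 : i = 0
  · subst h0
    exact (mem_Cent.1 z.2).2.symm
  have hx : fpT i ∈ E63 := ⟨i, hi, h0, rfl⟩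
  set x : Cent := ⟨fpT i, E63_mem_Cent hx⟩ with hxd
  have hxq : (x : Cent ⧸ Za) ∈ EQ := ⟨x, hx, rfl⟩
  have h1 := congrArg Subtype.val (Subgroup.mem_center_iff.1 hq ⟨_, Subgroup.subset_closure hxq⟩)
  have h2 : ((z * x * z⁻¹ : Cent) : Cent ⧸ Za) = (x : Cent ⧸ Za) := by
    rw [QuotientGroup.mk_mul, QuotientGroup.mk_mul, QuotientGroup.mk_inv, hz]
    have h1' : (x : Cent ⧸ Za) * (q : Cent ⧸ Za) = (q : Cent ⧸ Za) * (x : Cent ⧸ Za) := h1
    rw [← h1', mul_inv_cancel_right]
  exact mul_inv_eq_iff_eq_mul.1 (congrArg Subtype.val (mk_inj (conj_E63 z.2 hx) hx h2))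

theorem Qp_equiv : Nonempty (Qp ≃* Matrix.symplecticGroup (Fin 3) (ZMod 2)) := by
  classical
  let pre : Qp → Fin 63 := fun q =>
    if h : ∃ i : Fin 63, (eC i : Cent ⧸ Za) = q then h.choose else ⟨0, by norm_num⟩
  have hpre : ∀ q ∈ EQp, (eC (pre q) : Cent ⧸ Za) = q := by
    intro q hq
    obtain ⟨x, hx, he⟩ := hq
    obtain ⟨i, rfl⟩ := exists_eC hx
    have h : ∃ j : Fin 63, (eC j : Cent ⧸ Za) = q := ⟨i, he⟩
    simp only [pre, dif_pos h]
    exact h.choose_spec
  let φ : Qp → Fin 3 ⊕ Fin 3 → ZMod 2 := fun q => cvec ((pre q : ℕ) + 1)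
  have hv : ∀ i : Fin 63, _ := fun i => vec_ok ⟨(i : ℕ) + 1, by omega⟩ (Nat.succ_ne_zero _)
  have hinj : Function.Injective fun i : Fin 63 => (⟨cvec ((i : ℕ) + 1), (hv i).1⟩ :
      {v : Fin 3 ⊕ Fin 3 → ZMod 2 // v ≠ 0}) := fun i j e => by
    have := ((hv i).2 ⟨(j : ℕ) + 1, by omega⟩ (Nat.succ_ne_zero _)).1 (congrArg Subtype.val e)
    exact Fin.ext (Nat.succ_injective (congrArg Fin.val this))
  have hsurj : Function.Bijective fun i : Fin 63 => (⟨cvec ((i : ℕ) + 1), (hv i).1⟩ :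
      {v : Fin 3 ⊕ Fin 3 → ZMod 2 // v ≠ 0}) :=
    (Fintype.bijective_iff_injective_and_card _).2 ⟨hinj, by decide +kernel⟩
  have hbij : Set.BijOn φ EQp {v | v ≠ 0} := by
    refine ⟨fun q _ => (hv (pre q)).1, fun q hq q' hq' e => ?_, fun v hv' => ?_⟩
    · refine Subtype.ext ?_
      rw [← hpre q hq, ← hpre q' hq', hinj (Subtype.ext e)]
    · obtain ⟨i, hi⟩ := hsurj.2 ⟨v, hv'⟩
      have hq : (eC i : Cent ⧸ Za) ∈ EQ := ⟨eC i, eC_mem i, rfl⟩
      refine ⟨⟨_, Subgroup.subset_closure hq⟩, hq, ?_⟩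
      have h1 := hpre ⟨_, Subgroup.subset_closure hq⟩ hq
      have h2 := mk_inj (eC_mem _) (eC_mem _) h1
      have h3 : pre ⟨_, Subgroup.subset_closure hq⟩ = i :=
        Fin.ext (Nat.succ_injective (fpN_inj (by omega) (by omega)
          (fpT_inj (by omega) (by omega) (congrArg Subtype.val h2))))
      show cvec ((pre _ : ℕ) + 1) = v
      rw [h3]
      exact congrArg Subtype.val hi
  have hcomm : ∀ p ∈ EQp, ∀ q ∈ EQp, (Commute p q ↔ Cfsg.sympForm 3 (ZMod 2) (φ p) (φ q) = 0) := by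
    intro p hp q hq
    set i := pre p
    set j := pre q
    have h1 : Commute p q ↔ Commute (eC i : Cent ⧸ Za) (eC j : Cent ⧸ Za) := by
      rw [hpre p hp, hpre q hq]
      exact ⟨fun h => congrArg Subtype.val h.eq, fun h => Subtype.ext h.eq⟩
    rw [h1, mk_commute (eC_mem i) (eC_mem j)]
    refine Iff.trans ?_ ((hv i).2 ⟨(j : ℕ) + 1, by omega⟩ (Nat.succ_ne_zero _)).2.symm
    show Commute (fpT ((i : ℕ) + 1)) (fpT ((j : ℕ) + 1)) ↔ _
    rw [Fi22Pts.bit_eq]
    by_cases e : fpN ((j : ℕ) + 1) = fpN ((i : ℕ) + 1)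
    · exact iff_of_true (by rw [fpT, fpT, e]) (Or.inl e)
    · rw [commute_iff (by omega) (by omega) e]
      exact ⟨Or.inr, fun h => h.resolve_left e⟩
  obtain ⟨e, -⟩ := PolarTwins.Models.sp_of_points EQp_group center_Qp (by norm_num : 1 ≤ 3) φ hbij hcomm
  exact ⟨e⟩

theorem card_Qp : Nat.card Qp = 1451520 := by
  obtain ⟨e⟩ := Qp_equiv
  rw [Nat.card_congr e.toEquiv, CfsgLib.Sp.card_symplecticGroup (ZMod.card 2)]
  decide

theorem card_Za : Nat.card Za = 2 := by
  rw [Za, Nat.card_zpowers, ← Subgroup.orderOf_coe]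
  exact hset.1 aG aG_mem.1

theorem Qp_top : Qp = ⊤ := by
  refine Subgroup.eq_top_of_card_eq Qp ?_
  have h := Subgroup.card_eq_card_quotient_mul_card_subgroup Za
  rw [card_Cent, card_Za] at h
  rw [card_Qp]
  omega

theorem quot_equiv : Nonempty (Cent ⧸ Za ≃* Cfsg.PSp 3 (ZMod 2)) := by
  obtain ⟨e⟩ := Qp_equiv
  have hz : Subgroup.center (Matrix.symplecticGroup (Fin 3) (ZMod 2)) = ⊥ := by
    rw [← CfsgLib.FieldPOmega.map_center_top e, center_Qp, Subgroup.map_bot]
  exact ⟨((Subgroup.topEquiv.symm.trans (MulEquiv.subgroupCongr Qp_top.symm)).trans e).trans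
    (QuotientGroup.quotientBot.symm.trans (QuotientGroup.quotientMulEquivOfEq hz.symm))⟩

theorem perm_three : ∀ u v : Equiv.Perm (Fin 3), u ≠ 1 → u * u = 1 → u * v = v * u → v = 1 ∨ v = u := by decide

/-- The centralizer is the product of the transposition and a symplectic group. -/
theorem Cent_equiv : Nonempty (Cent ≃* Multiplicative (ZMod 2) × Cfsg.PSp 3 (ZMod 2)) := by
  obtain ⟨L, hL⟩ := exists_layer
  haveI := hL.split.normal
  obtain ⟨f⟩ := hL.quot
  obtain ⟨eq⟩ := quot_equiv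
  -- the layer as seen from the centralizer
  have hle : ∀ z : Cent, (z : G) ∈ Kg := fun z => Cs_eq ▸ (mem_Cent.1 z.2).1
  let j : Cent →* Kg := (Cent.subtype).codRestrict Kg hle
  let χ : Cent →* Equiv.Perm (Fin 3) := f.toMonoidHom.comp ((QuotientGroup.mk' L).comp j)
  set ac : Cent := ⟨aG, mem_Cent.2 ⟨aG_mem_Cs, Commute.refl _⟩⟩ with hac
  have hu : χ ac ≠ 1 := fun e => fpT_notMem hL (by norm_num : 0 < 360) (by
    have e' : f (QuotientGroup.mk (j ac)) = f 1 := by rw [map_one]; exact e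
    exact (QuotientGroup.eq_one_iff _).1 (f.injective e'))
  have hu2 : χ ac * χ ac = 1 := by rw [← map_mul, show ac * ac = 1 from Subtype.ext aG_sq, map_one]
  have hcases : ∀ z, χ z = 1 ∨ χ z = χ ac := fun z => perm_three _ _ hu hu2 (by
    rw [← map_mul, ← map_mul, show ac * z = z * ac from Subtype.ext (mem_Cent.1 z.2).2.eq])
  set M := χ.ker with hM
  have hπ : Function.Bijective ((QuotientGroup.mk' Za).comp M.subtype) := by
    refine ⟨(injective_iff_map_eq_one _).2 fun m hm => Subtype.ext ?_, fun q => ?_⟩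
    · rcases mem_Za.1 ((QuotientGroup.eq_one_iff (m : Cent)).1 hm) with h | h
      · exact Subtype.ext h
      · exfalso
        apply hu
        rw [show ac = (m : Cent) from Subtype.ext h.symm]
        exact m.2
    · obtain ⟨z, rfl⟩ := QuotientGroup.mk_surjective q
      rcases hcases z with h | h
      · exact ⟨⟨z, h⟩, rfl⟩
      · refine ⟨⟨z * ac, ?_⟩, ?_⟩
        · show χ (z * ac) = 1
          rw [map_mul, h, hu2]
        · show ((z * ac : Cent) : Cent ⧸ Za) = z
          exact (mk_eq_iff'.2 (Or.inr rfl)).symm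
  let σ2 : Multiplicative (ZMod 2) →* Cent :=
    { toFun := fun t => if t.toAdd = 0 then 1 else ac
      map_one' := if_pos rfl
      map_mul' := fun s t => by
        have haa : ac * ac = 1 := Subtype.ext aG_sq
        have h01 : ∀ t : Multiplicative (ZMod 2), t = 1 ∨ t = Multiplicative.ofAdd 1 := by decide
        have h11 : (Multiplicative.ofAdd (1 : ZMod 2) * Multiplicative.ofAdd 1).toAdd = 0 := by decide
        have h10 : ¬ (Multiplicative.ofAdd (1 : ZMod 2)).toAdd = 0 := by decide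
        rcases h01 s with rfl | rfl <;> rcases h01 t with rfl | rfl
        · simp
        · simp
        · simp
        · rw [if_pos h11, if_neg h10, haa] }
  have hcomm : ∀ (t : Multiplicative (ZMod 2)) (m : M), Commute (σ2 t) (M.subtype m) := fun t m => by
    show Commute (if t.toAdd = 0 then (1 : Cent) else ac) (m : Cent)
    split_ifs
    exacts [Commute.one_left _, Subtype.ext (mem_Cent.1 (m : Cent).2).2.eq]
  let Φ : Multiplicative (ZMod 2) × M →* Cent := MonoidHom.noncommCoprod σ2 M.subtype hcomm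
  have hΦ : Function.Bijective Φ := by
    have t01 : ∀ t : Multiplicative (ZMod 2), t = 1 ∨ t = Multiplicative.ofAdd 1 := by decide
    refine ⟨(injective_iff_map_eq_one _).2 ?_, fun z => ?_⟩
    · rintro ⟨t, m⟩ h
      have h' : σ2 t * (m : Cent) = 1 := h
      rcases t01 t with rfl | rfl
      · rw [map_one, one_mul] at h'
        exact Prod.ext rfl (Subtype.ext h')
      · have : ac * (m : Cent) = 1 := h'
        exfalso
        apply hu
        have hm : χ (m : Cent) = 1 := m.2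
        calc χ ac = χ ac * χ (m : Cent) := by rw [hm, mul_one]
          _ = 1 := by rw [← map_mul, this, map_one]
    · rcases hcases z with h | h
      · exact ⟨(1, ⟨z, h⟩), by show σ2 1 * z = z; rw [map_one, one_mul]⟩
      · refine ⟨(Multiplicative.ofAdd 1, ⟨ac * z, ?_⟩), ?_⟩
        · show χ (ac * z) = 1
          rw [map_mul, h, hu2]
        · show ac * (ac * z) = z
          rw [← mul_assoc, show ac * ac = 1 from Subtype.ext aG_sq, one_mul]
  exact ⟨(MulEquiv.ofBijective Φ hΦ).symm.trans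
    (MulEquiv.prodCongr (MulEquiv.refl _) ((MulEquiv.ofBijective _ hπ).trans eq))⟩

end CfsgLib.Presented.Fi22Outer
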