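import Mathlib.Init

/-! Generated data: symplectic coordinates of the 63 fixed points commuting with the first. -/
set_option autoImplicit false
set_option maxRecDepth 100000

namespace CfsgLib.Presented.Fi22Outer

/-- coordinates, as bits -/
def centVec : List Nat := [0, 1, 2, 3, 4, 16, 8, 28, 32, 33, 36, 37, 34, 9, 38, 29, 35, 18, 39, 30, 19, 11, 50, 54, 31, 51, 41, 60, 55, 45, 10, 56, 43, 63, 5, 6, 7, 47, 17, 27, 59, 40, 61, 14, 44, 57, 20, 12, 24, 42, 49, 48, 21, 62, 46, 53, 52, 15, 58, 26, 13, 22, 25, 23]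

end CfsgLib.Presented.Fi22Outer
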