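import Cfsg.Agent.Lib.Presented.Fi22Outer.Kgroup
import Cfsg.Agent.Lib.Presented.Fi22Outer.CentData
import Cfsg.Prelude.Def_Classical

/-! The symmetry times the first fixed transposition: fixed points and kernel-checked facts. -/
set_option autoImplicit false
set_option maxRecDepth 100000

namespace CfsgLib.Presented.Fi22Outer

open CfsgLib.ThreeTrans.Inst.FiTwentyTwo (P)
open Fi22UCosets (ev)
open Fi22UCert (rep)
open Fi22Pts (G T img ok pt lookup allLt allLt_spec bit bit_eq adj adj_spec cell mem_cell Good maskOf chkMap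
  chkMap_spec GoodMap gpts gpts_lt tw pt_val)

/-- the first fixed transposition -/
noncomputable def aG : G := fpT 0

/-- coordinates of the points commuting with the first -/
def cvec (i : ℕ) : Fin 3 ⊕ Fin 3 → ZMod 2 :=
  Sum.elim (fun k => if (centVec.getD i 0).testBit (k : ℕ) then 1 else 0)
    (fun k => if (centVec.getD i 0).testBit (3 + (k : ℕ)) then 1 else 0)

/-- the fixed points of the product -/
noncomputable def m64 : ℕ := maskOf ((fixPts.take 64).map Prod.fst)

/-- the checks on the points -/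
noncomputable def centOK : Bool :=
  Nat.beq (fpN 0) (gpts.getD 3 0) &&
  allLt (fun p => Bool.xor (Nat.beq (sg (img [3] p)) p) (!bit m64 p)) 3510 &&
  allLt (fun i => Nat.beq i 0 || (bit (adj (fpW 0)) (fpN i) && !Nat.beq (fpN i) (fpN 0) &&
    !Nat.beq (Nat.land m64 (Nat.lor (nbm i) (maskOf [fpN i]))) m64)) 64 &&
  Nat.beq (Fi22Pts.bit (Nat.lor (adj (fpW 0)) (maskOf [fpN 0])) (fpN 64)).toNat 0

theorem cent_ok : centOK = true := by decide +kernel

/-- the products with the first are no members -/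
noncomputable def prodOK : Bool :=
  allLt (fun i => Nat.beq i 0 || allLt (fun j => !sameG (img ([3] ++ tw (fpW i))) (img (tw (fpW j)))) 64) 64

theorem prod_ok : prodOK = true := by decide +kernel

theorem aG_eq : aG = ev 3 := by
  have h := cent_ok
  simp only [centOK, Bool.and_eq_true] at h
  rw [aG, fpT, Nat.eq_of_beq_eq_true h.1.1.1, Fi22Pts.T_gpts 3 (by norm_num)]

theorem aG_im : Im aG (img [3]) := by
  have h := Im.word (w := [3]) (by decide)
  rw [evW_cons, evW_nil, mul_one, ← aG_eq] at h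
  exact h

theorem m64_mem {p : ℕ} : m64.testBit p = true ↔ ∃ i, i < 64 ∧ fpN i = p := by
  rw [m64, Fi22Pts.testBit_maskOf]
  constructor
  · intro hp
    obtain ⟨e, he, rfl⟩ := List.mem_map.1 hp
    obtain ⟨i, hi, rfl⟩ := List.getElem_of_mem he
    have hi' : i < 64 := by simp [List.length_take] at hi; omega
    refine ⟨i, hi', ?_⟩
    rw [fpN, List.getD_eq_getElem _ _ (by rw [fix_len]; omega), List.getElem_take]
  · rintro ⟨i, hi, rfl⟩
    refine List.mem_map_of_mem ?_
    have hl : i < fixPts.length := by rw [fix_len]; omega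
    rw [List.getD_eq_getElem _ _ hl]
    exact List.mem_take_iff_getElem.2 ⟨i, by omega, rfl⟩

/-- membership of a point in the fixed set of the product -/
theorem twist_fixed_iff {p : ℕ} (hp : p < rep.N) : sg (img [3] p) = p ↔ m64.testBit p = true := by
  have h := cent_ok
  simp only [centOK, Bool.and_eq_true] at h
  have h1 := allLt_spec h.1.1.2 p hp
  rw [bit_eq] at h1
  cases hb : m64.testBit p
  · rw [hb] at h1
    simp only [Bool.not_false, Bool.xor_true, Bool.not_eq_true'] at h1
    exact ⟨fun e => absurd (show Nat.beq (sg (img [3] p)) p = true by rw [e]; exact Nat.beq_refl p)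
      (by rw [h1]; decide), fun e => Bool.noConfusion e⟩
  · rw [hb] at h1
    simp only [Bool.not_true, Bool.xor_false] at h1
    exact iff_of_true (Nat.eq_of_beq_eq_true h1) rfl

theorem near_spec {i : ℕ} (hi : i < 64) (h0 : i ≠ 0) :
    fpN i ≠ fpN 0 ∧ Commute aG (fpT i) ∧ ∃ j, j < 64 ∧ ¬ Commute (fpT i) (fpT j) := by
  have h := cent_ok
  simp only [centOK, Bool.and_eq_true] at h
  have h1 := allLt_spec h.1.2 i hi
  simp only [Bool.or_eq_true, Bool.and_eq_true, Bool.not_eq_true', bit_eq] at h1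
  rcases h1 with h1 | ⟨⟨h2, h3⟩, h4⟩
  · exact absurd (Nat.eq_of_beq_eq_true h1) h0
  have hne : fpN i ≠ fpN 0 := fun e => by rw [e, Nat.beq_refl] at h3; exact Bool.noConfusion h3
  refine ⟨hne, (commute_iff (by norm_num) (by omega) hne).2 h2, ?_⟩
  by_contra! hcon
  have e : Nat.land m64 (Nat.lor (nbm i) (maskOf [fpN i])) = m64 := by
    refine Nat.eq_of_testBit_eq fun p => ?_
    show (m64 &&& (nbm i ||| maskOf [fpN i])).testBit p = _
    rw [Nat.testBit_and]
    cases hm : m64.testBit p
    · rfl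
    · obtain ⟨j, hj, rfl⟩ := m64_mem.1 hm
      rw [Bool.true_and, Nat.testBit_or, Bool.or_eq_true, Fi22Pts.testBit_maskOf, List.mem_singleton]
      by_cases e : fpN j = fpN i
      · exact Or.inr e
      · exact Or.inl ((nbm_iff (by omega) (by omega)).2 ⟨e, hcon j hj⟩)
  rw [e, Nat.beq_refl] at h4
  exact Bool.noConfusion h4

theorem not_prod {i j : ℕ} (hi : i < 64) (h0 : i ≠ 0) (hj : j < 64) : aG * fpT i ≠ fpT j := by
  intro e
  have h1 := allLt_spec prod_ok i hi
  simp only [Bool.or_eq_true] at h1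
  rcases h1 with h1 | h1
  · exact h0 (Nat.eq_of_beq_eq_true h1)
  have h2 := allLt_spec h1 j hj
  rw [Bool.not_eq_true'] at h2
  obtain ⟨hwi, hii, -, -⟩ := fp_spec (show i < 360 by omega)
  obtain ⟨hwj, hjj, -, -⟩ := fp_spec (show j < 360 by omega)
  have oki : ok ([3] ++ tw (fpW i)) = true := by rw [Fi22Pts.ok_append, Fi22Pts.ok_tw hwi]; rfl
  have ei : evW ev ([3] ++ tw (fpW i)) = aG * fpT i := by
    rw [evW_append, evW_cons, evW_nil, mul_one, Fi22Pts.evW_tw hwi, hii, ← aG_eq]; rfl
  have ej : evW ev (tw (fpW j)) = fpT j := by rw [Fi22Pts.evW_tw hwj, hjj]; rfl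
  have e1 : evW ev ([3] ++ tw (fpW i)) = evW ev (tw (fpW j)) := by rw [ei, ej, e]
  have : sameG (img ([3] ++ tw (fpW i))) (img (tw (fpW j))) = true := by
    simp only [sameG, List.all_eq_true]
    intro q hq
    have a1 := (Im.word oki q (gpts_lt q hq))
    have a2 := (Im.word (Fi22Pts.ok_tw hwj) q (gpts_lt q hq))
    have := congrArg Fin.val (a1.2.symm.trans (e1 ▸ a2.2))
    rw [pt_val a1.1, pt_val a2.1] at this
    rw [this]
    exact Nat.beq_refl _
  rw [h2] at this
  exact Bool.noConfusion this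

/-- coordinates and orthogonality -/
theorem vec_ok : ∀ i : Fin 64, i.val ≠ 0 → cvec i.val ≠ 0 ∧ ∀ j : Fin 64, j.val ≠ 0 →
    (cvec i.val = cvec j.val → i = j) ∧
      (Cfsg.sympForm 3 (ZMod 2) (cvec i.val) (cvec j.val) = 0 ↔
        (fpN j.val = fpN i.val ∨ bit (adj (fpW i.val)) (fpN j.val) = true)) := by
  decide +kernel

/-- the check of the point outside -/
theorem far_ok : (Nat.beq (Nat.land (cell (fixPts.take 64) (fpN 64))
      (Nat.xor (Vec.ones rep.N) (maskOf [fpN 64, img [3] (fpN 64)]))) 0 &&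
    bit (cell (fixPts.take 64) (fpN 64)) (fpN 64) &&
    chkMap derFix (((fixPts.take 64) ++ [(fpN 64, fpW 64)]).map fun f => (f, f))
      (classPts.map fun f => (f.1, f.1)) &&
    Nat.beq (img [3] (img [3] (fpN 64))) (fpN 64)) = true := by decide +kernel

/-- An element fixing the first 64 fixed points is trivial or the first transposition. -/
theorem near_cases {g : G} (hg : ∀ i, i < 64 → Commute g (fpT i)) : g = 1 ∨ g = aG := by
  have h := far_ok
  simp only [Bool.and_eq_true, bit_eq] at h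
  obtain ⟨⟨⟨hcell, hb⟩, hder⟩, hinv⟩ := h
  have mem : ∀ f ∈ fixPts.take 64, ∃ i, i < 64 ∧ f = (fpN i, fpW i) := by
    intro f hf
    obtain ⟨i, hi, rfl⟩ := List.getElem_of_mem hf
    have hi' : i < 64 := by simp [List.length_take] at hi; omega
    refine ⟨i, hi', ?_⟩
    have hl : i < fixPts.length := by rw [fix_len]; omega
    rw [List.getElem_take, fpN, fpW, List.getD_eq_getElem _ _ hl]
  obtain ⟨hw, himg, hlt, -⟩ := fp_spec (show 64 < 360 by norm_num)
  have key : ∀ u : G, (∀ i, i < 64 → Commute u (fpT i)) → P.φ u (pt (fpN 64)) = pt (fpN 64) → u = 1 := by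
    intro u hu h64
    refine eq_one_of_fix fun i hi => (Fi22Pts.commute_T_iff u _).2 ?_
    have hgm : GoodMap u (((fixPts.take 64) ++ [(fpN 64, fpW 64)]).map fun f => (f, f)) := by
      intro f hf
      obtain ⟨f', hf', rfl⟩ := List.mem_map.1 hf
      rcases List.mem_append.1 hf' with hf' | hf'
      · obtain ⟨k, hk, rfl⟩ := mem f' hf'
        obtain ⟨h1, h2, -, -⟩ := fp_spec (show k < 360 by omega)
        exact ⟨h1, h2, h1, h2, (Fi22Pts.commute_T_iff u _).1 (hu k hk)⟩
      · rw [List.mem_singleton] at hf'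
        subst hf'
        exact ⟨hw, himg, hw, himg, h64⟩
    refine chkMap_spec hder hgm (fpN i, fpN i) (List.mem_map.2 ⟨(fpN i, fpW i), ?_, rfl⟩)
    have hl : i < fixPts.length := by rw [fix_len]; omega
    rw [fpN, fpW, List.getD_eq_getElem _ _ hl]
    exact List.mem_take_iff_getElem.2 ⟨i, by omega, rfl⟩
  have hgood : Good (Subgroup.zpowers g) (fixPts.take 64) := by
    intro f hf
    obtain ⟨i, hi, rfl⟩ := mem f hf
    obtain ⟨h1, h2, -, -⟩ := fp_spec (show i < 360 by omega)
    refine ⟨h1, h2, fun k hk => ?_⟩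
    obtain ⟨n, rfl⟩ := Subgroup.mem_zpowers_iff.1 hk
    show P.φ (g ^ n) _ = _
    rw [map_zpow]
    exact Equiv.Perm.zpow_apply_eq_self_of_apply_eq_self ((Fi22Pts.commute_T_iff g _).1 (hg i hi)) n
  have hm := mem_cell hgood hlt hb g (Subgroup.mem_zpowers g)
  have hlt' := (aG_im _ hlt).1
  have hcases : (P.φ g (pt (fpN 64)) : ℕ) = fpN 64 ∨ (P.φ g (pt (fpN 64)) : ℕ) = img [3] (fpN 64) := by
    by_contra hcon
    push Not at hcon
    have := congrArg (fun v => v.testBit (P.φ g (pt (fpN 64)) : ℕ)) (Nat.eq_of_beq_eq_true hcell)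
    change (cell (fixPts.take 64) (fpN 64) &&&
      (Vec.ones rep.N ^^^ maskOf [fpN 64, img [3] (fpN 64)])).testBit _ = (0 : ℕ).testBit _ at this
    have hnot : (maskOf [fpN 64, img [3] (fpN 64)]).testBit (P.φ g (pt (fpN 64)) : ℕ) = false := by
      rw [← Bool.not_eq_true, Fi22Pts.testBit_maskOf]
      simp [hcon.1, hcon.2]
    rw [Nat.testBit_and, hm, Nat.testBit_xor, Vec.testBit_ones, decide_eq_true (P.φ g (pt (fpN 64))).2,
      Nat.zero_testBit, Bool.true_and, hnot] at this
    exact Bool.noConfusion this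
  have haa : aG * aG = 1 := fpT_sq 0
  rcases hcases with e | e
  · exact Or.inl (key g hg (Fin.ext (by rw [e, pt_val hlt])))
  · right
    have ha : ∀ i, i < 64 → Commute aG (fpT i) := fun i hi => by
      rcases eq_or_ne i 0 with rfl | h0
      exacts [Commute.refl _, (near_spec hi h0).2.1]
    have h1 := key (aG * g) (fun i hi => (ha i hi).mul_left (hg i hi)) (by
      have e' : P.φ g (pt (fpN 64)) = pt (img [3] (fpN 64)) := Fin.ext (by rw [e, pt_val hlt'])
      rw [map_mul, Equiv.Perm.mul_apply, e', (aG_im _ hlt').2, Nat.eq_of_beq_eq_true hinv])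
    rw [← inv_eq_of_mul_eq_one_right h1]
    exact inv_eq_of_mul_eq_one_right haa

end CfsgLib.Presented.Fi22Outer
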