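import Cfsg.Agent.Lib.Presented.Fi22Outer.Sylow
import Mathlib.GroupTheory.Sylow
import Cfsg.Agent.Lib.ThreeTrans.Uniq.AutTop22
import Cfsg.Agent.Lib.ThreeTrans.Inst.FiTwentyTwoModel

/-! The outer involutory automorphisms of the presented Fischer group on 22 letters fall into three classes. -/
set_option autoImplicit false
set_option maxRecDepth 100000

namespace CfsgLib.Presented.Fi22Outer

open CfsgLib.ThreeTrans.Inst.FiTwentyTwo (P D)
open Fi22UCosets (ev)
open Fi22UCert (rep)
open Fi22Pts (G img ok pt lookup allLt allLt_spec)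

/-- twisted conjugation -/
noncomputable def twist (h x : G) : G := sAut h * x * h⁻¹

theorem twist_twist (h g x : G) : twist h (twist g x) = twist (h * g) x := by
  simp [twist, mul_assoc]

theorem twist_inv {x : G} (hx : sAut x * x = 1) (h : G) : sAut (twist h x) * twist h x = 1 := by
  rw [twist, map_mul, map_mul, map_inv, sAut_sAut]
  calc h * sAut x * (sAut h)⁻¹ * (sAut h * x * h⁻¹) = h * (sAut x * x) * h⁻¹ := by group
    _ = 1 := by rw [hx, mul_one, mul_inv_cancel]

theorem twist_mem {h x : G} (hh : h ∈ Nser 0) (hx : x ∈ Nser 0) : twist h x ∈ Nser 0 :=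
  mul_mem (mul_mem (sAut_mem hh) hx) (inv_mem hh)

/-- one entry of the steps -/
noncomputable def entryOK (i : ℕ) (y : List ℕ) : Bool × ℕ × List ℕ × List ℕ → Bool
  | (true, ri, h, m) => Nat.blt ri (repW.getD (i + 1) []).length && geW 0 h && geW (i + 1) m &&
      sameG (fun p => sg (elT h (sg (elT y p)))) (elT ((repW.getD (i + 1) []).getD ri [] ++ m ++ h))
  | (false, k, _, m) => Nat.ble k i && geW (k + 1) m &&
      sameG (fun p => sg (elT y (sg (elT y p)))) (elT (k :: m))

/-- the word of the new representative -/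
def candW (i j e : ℕ) : List ℕ :=
  (repW.getD i []).getD j [] ++ cond (Nat.beq e 0) [] [i]

/-- all steps -/
noncomputable def stepsOK : Bool :=
  allLt (fun i => allLt (fun j => allLt (fun e =>
    entryOK i (candW i j e) (((stepData.getD i []).getD j []).getD e (true, 0, [], [])))
    2) (repW.getD i []).length) 17 &&
  allLt (fun i => (repW.getD i []).all (geW 0)) 18

theorem steps_ok : (stepsOK && ((repW.getD 0 []).length.beq 1) && ((repW.getD 0 []).getD 0 []).isEmpty) = true := by
  decide +kernel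

theorem rep_mem {i : ℕ} (hi : i < 18) {j : ℕ} (hj : j < (repW.getD i []).length) :
    okE ((repW.getD i []).getD j []) = true ∧ evW el ((repW.getD i []).getD j []) ∈ Nser 0 := by
  have h := steps_ok
  simp only [stepsOK, Bool.and_eq_true] at h
  have h1 := List.all_eq_true.1 (allLt_spec h.1.1.2 i hi) ((repW.getD i []).getD j []) (by
    rw [List.getD_eq_getElem _ _ hj]; exact List.getElem_mem _)
  exact ⟨okE_of_geW h1, mem_Nser h1⟩

theorem cand_im {i j e : ℕ} (hi : i < 17) (hj : j < (repW.getD i []).length) :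
    Im (evW el (candW i j e)) (elT (candW i j e)) := by
  refine Im.elem ?_
  have h := (rep_mem (by omega : i < 18) hj).1
  unfold candW
  cases Nat.beq e 0
  · simp only [okE, cond_false, List.all_append, Bool.and_eq_true] at h ⊢
    exact ⟨h, by simp [Nat.blt_eq, hi]⟩
  · simpa [okE] using h

theorem exists_level {x : G} (hx : x ∈ Nser 0) (hxx : sAut x * x = 1) : ∀ i, i ≤ 17 →
    ∃ h ∈ Nser 0, ∃ j < (repW.getD i []).length,
      (evW el ((repW.getD i []).getD j []))⁻¹ * twist h x ∈ Nser i := by
  intro i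
  induction i with
  | zero =>
    intro _
    have h := steps_ok
    simp only [Bool.and_eq_true] at h
    have h1 := Nat.eq_of_beq_eq_true h.1.2
    refine ⟨1, one_mem _, 0, by rw [h1]; exact Nat.one_pos, ?_⟩
    rw [List.isEmpty_iff.1 h.2, evW_nil, inv_one, one_mul]
    exact twist_mem (one_mem _) hx
  | succ i ih =>
    intro hi
    obtain ⟨h₀, hh₀, j, hj, hn⟩ := ih (by omega)
    set r := evW el ((repW.getD i []).getD j []) with hr
    have hi' : i < 17 := by omega
    have hr0 : r ∈ Nser 0 := (rep_mem (by omega) hj).2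
    -- split off the leading element
    obtain ⟨e, he, n, hn', hy⟩ : ∃ e < 2, ∃ n ∈ Nser (i + 1), twist h₀ x = evW el (candW i j e) * n := by
      rcases Nser_split hi' hn with h | ⟨m, hm, hm'⟩
      · refine ⟨0, by norm_num, _, h, ?_⟩
        simp [candW, hr]
      · refine ⟨1, by norm_num, m, hm, ?_⟩
        rw [inv_mul_eq_iff_eq_mul] at hm'
        rw [hm', hr, candW, show Nat.beq 1 0 = false from rfl, cond_false, evW_append, evW_cons, evW_nil, mul_one,
          mul_assoc]
    set y := evW el (candW i j e) with hy0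
    have hy1 : y ∈ Nser 0 := by
      have : y = twist h₀ x * n⁻¹ := by rw [hy, mul_inv_cancel_right]
      rw [this]
      exact mul_mem (twist_mem hh₀ hx) (inv_mem (Nser_anti (Nat.zero_le _) hn'))
    have h := steps_ok
    simp only [stepsOK, Bool.and_eq_true] at h
    have hchk := allLt_spec (allLt_spec (allLt_spec h.1.1.1 i hi') j hj) e he
    revert hchk
    generalize ((stepData.getD i []).getD j []).getD e (true, 0, [], []) = d
    obtain ⟨b, ri, hw, m⟩ := d
    intro hchk
    cases b
    · -- no solution here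
      simp only [entryOK, Bool.and_eq_true, Nat.ble_eq] at hchk
      obtain ⟨⟨hk, hm⟩, hs⟩ := hchk
      have hk17 : ri < 17 := by omega
      have hok : okE (ri :: m) = true := by
        have := okE_of_geW hm
        simp only [okE, List.all_cons, Bool.and_eq_true, Nat.blt_eq] at this ⊢
        exact ⟨hk17, this⟩
      have hc := cand_im (e := e) hi' hj
      have e1 : sAut y * y = el ri * evW el m := by
        rw [(hc.sAut.mul hc).eq (Im.elem hok) hs, evW_cons]
      have e2 : sAut y * y ∈ Nser (i + 1) := by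
        have h1 := twist_inv hxx h₀
        rw [hy, map_mul] at h1
        have h2 : sAut y * y = ((y⁻¹ * sAut n * y) * n)⁻¹ := by
          rw [eq_inv_iff_mul_eq_one, ← h1]; group
        rw [h2]
        exact inv_mem (mul_mem (Nser_normalized hy1 (sAut_mem hn')) hn')
      refine absurd ?_ (el_notMem hk17)
      rw [← mul_inv_cancel_right (el ri) (evW el m), ← e1]
      exact mul_mem (Nser_anti (by omega) e2) (inv_mem (mem_Nser hm))
    · simp only [entryOK, Bool.and_eq_true, Nat.blt_eq] at hchk
      obtain ⟨⟨⟨hri, hh⟩, hm⟩, hs⟩ := hchk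
      set r' := (repW.getD (i + 1) []).getD ri [] with hr'
      have hok : okE (r' ++ m ++ hw) = true := by
        have h1 := (rep_mem (by omega : i + 1 < 18) hri).1
        have h2 := okE_of_geW hm
        have h3 := okE_of_geW hh
        simp only [okE, List.all_append, Bool.and_eq_true, ← hr'] at h1 h2 h3 ⊢
        exact ⟨⟨h1, h2⟩, h3⟩
      have e1 : sAut (evW el hw) * y = evW el r' * evW el m * evW el hw := by
        have h1 := ((Im.elem (okE_of_geW hh)).sAut.mul (cand_im (e := e) hi' hj)).eq (Im.elem hok) hs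
        rw [evW_append, evW_append] at h1
        exact h1
      have hh' := mem_Nser hh
      refine ⟨evW el hw * h₀, mul_mem hh' hh₀, ri, hri, ?_⟩
      rw [← twist_twist, hy, twist, ← mul_assoc (sAut _) y n, e1]
      have hnorm := Nser_normalized (inv_mem hh') hn'
      rw [inv_inv] at hnorm
      have hM := mul_mem (mem_Nser hm) hnorm
      simpa [mul_assoc, hr'] using hM

/-! ### The targets -/

/-- the words of the three targets -/
def tgtW (c : ℕ) : List ℕ := [[], [3], [3, 8]].getD c []

/-- the target elements -/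
noncomputable def tgt (c : ℕ) : G := evW ev (tgtW c)

/-- the final check -/
noncomputable def finalOK : Bool :=
  allLt (fun j =>
    let d := finData.getD j (0, [])
    Nat.blt d.1 3 && ok d.2 &&
      sameG (fun p => sg (img d.2 (sg (img (tgtW d.1) p))))
        (fun p => elT ((repW.getD 17 []).getD j []) (img d.2 p))) (repW.getD 17 []).length

theorem final_ok : finalOK = true := by decide +kernel

theorem exists_target {x : G} (hx : x ∈ Nser 0) (hxx : sAut x * x = 1) :
    ∃ g : G, ∃ c < 3, x = twist g (tgt c) := by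
  obtain ⟨h, -, j, hj, hn⟩ := exists_level hx hxx 17 le_rfl
  rw [Nser_last, Subgroup.mem_bot, inv_mul_eq_one] at hn
  have hc := allLt_spec final_ok j hj
  simp only [Bool.and_eq_true, Nat.blt_eq] at hc
  obtain ⟨⟨hc3, hok⟩, hs⟩ := hc
  set d := finData.getD j (0, []) with hd
  have okt : ok (tgtW d.1) = true := by interval_cases d.1 <;> rfl
  have e1 : sAut (evW ev d.2) * tgt d.1 = evW el ((repW.getD 17 []).getD j []) * evW ev d.2 :=
    ((Im.word hok).sAut.mul (Im.word okt)).eq ((Im.elem (rep_mem (by norm_num) hj).1).mul (Im.word hok)) hs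
  refine ⟨h⁻¹ * evW ev d.2, d.1, hc3, ?_⟩
  rw [← twist_twist]
  have e2 : twist (evW ev d.2) (tgt d.1) = twist h x := by
    rw [twist, e1, mul_inv_cancel_right, hn]
  rw [e2, twist_twist, inv_mul_cancel, twist, map_one, one_mul, inv_one, mul_one]

/-! ### In the automorphism group -/

theorem center_bot : Subgroup.center G = ⊥ := CfsgLib.ThreeTrans.Inst.FiTwentyTwo.center_bot

theorem conj_injective : Function.Injective (MulAut.conj : G →* MulAut G) := by
  rw [← MonoidHom.ker_eq_bot_iff]
  refine le_bot_iff.1 fun g hg => ?_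
  rw [← center_bot, Subgroup.mem_center_iff]
  intro y
  have := DFunLike.congr_fun (MonoidHom.mem_ker.1 hg) y
  simp only [MulAut.conj_apply, MulAut.one_apply] at this
  exact (mul_inv_eq_iff_eq_mul.1 this).symm

theorem sAut_mul_self : sAut * sAut = 1 := MulEquiv.ext sAut_sAut

theorem sAut_inv : sAut⁻¹ = sAut := inv_eq_of_mul_eq_one_right sAut_mul_self

theorem sAut_conj (g : G) : sAut * MulAut.conj g = MulAut.conj (sAut g) * sAut := by
  refine MulEquiv.ext fun y => ?_
  show sAut (g * y * g⁻¹) = sAut g * sAut y * (sAut g)⁻¹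
  simp

theorem conj_twist (g x : G) :
    sAut * MulAut.conj (twist g x) = MulAut.conj g * (sAut * MulAut.conj x) * (MulAut.conj g)⁻¹ := by
  rw [twist, map_mul, map_mul, map_inv, ← mul_assoc, ← mul_assoc, sAut_conj, sAut_sAut, mul_assoc (MulAut.conj g) sAut]

/-- a Sylow 2-subgroup of the automorphism group, as a subgroup -/
noncomputable def autSyl : Subgroup (MulAut G) where
  carrier := {α | ∃ x ∈ Nser 0, α = MulAut.conj x ∨ α = sAut * MulAut.conj x}
  one_mem' := ⟨1, one_mem _, Or.inl (map_one _).symm⟩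
  mul_mem' := by
    rintro α β ⟨x, hx, rfl | rfl⟩ ⟨y, hy, rfl | rfl⟩
    · exact ⟨x * y, mul_mem hx hy, Or.inl (map_mul _ _ _).symm⟩
    · refine ⟨sAut x * y, mul_mem (sAut_mem hx) hy, Or.inr ?_⟩
      rw [map_mul, ← mul_assoc, ← mul_assoc, sAut_conj (sAut x), sAut_sAut]
    · exact ⟨x * y, mul_mem hx hy, Or.inr (by rw [map_mul, mul_assoc])⟩
    · refine ⟨sAut x * y, mul_mem (sAut_mem hx) hy, Or.inl ?_⟩
      rw [← mul_assoc (sAut * MulAut.conj x), sAut_conj x, mul_assoc (MulAut.conj (sAut x)), sAut_mul_self,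
        mul_one, map_mul]
  inv_mem' := by
    rintro α ⟨x, hx, rfl | rfl⟩
    · exact ⟨x⁻¹, inv_mem hx, Or.inl (map_inv _ _).symm⟩
    · refine ⟨sAut x⁻¹, sAut_mem (inv_mem hx), Or.inr ?_⟩
      rw [mul_inv_rev, sAut_inv, ← map_inv, sAut_conj (sAut x⁻¹), sAut_sAut]

theorem typeFi : Cfsg.IsOfTypeM22 G D := CfsgLib.ThreeTrans.Inst.FiTwentyTwo.typeM22

theorem card_mulAut : Nat.card (MulAut G) = 2 * 64561751654400 := by
  rw [(CfsgLib.ThreeTrans.Uniq.card_mulAut22 CfsgLib.ThreeTrans.Inst.FiTwentyTwo.isGroup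
    CfsgLib.ThreeTrans.Inst.FiTwentyTwo.primitive typeFi).1, Fi22Order.card_eq]

theorem card_autSyl (hs : sAut ∉ (MulAut.conj : G →* MulAut G).range) : Nat.card autSyl = 2 ^ 18 := by
  classical
  let f : Bool × Nser 0 → autSyl := fun p =>
    if p.1 then ⟨sAut * MulAut.conj (p.2 : G), _, p.2.2, Or.inr rfl⟩ else ⟨MulAut.conj (p.2 : G), _, p.2.2, Or.inl rfl⟩
  have hf : Function.Bijective f := by
    refine ⟨?_, ?_⟩
    · rintro ⟨b, x⟩ ⟨b', y⟩ h
      have h' := congrArg Subtype.val h
      cases b <;> cases b' <;> simp only [f, Bool.false_eq_true, if_false, if_true] at h'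
      · rw [Subtype.ext (conj_injective h')]
      · exact absurd ⟨(x : G) * (y : G)⁻¹, by rw [map_mul, h', map_inv, mul_inv_cancel_right]⟩ hs
      · exact absurd ⟨(y : G) * (x : G)⁻¹, by rw [map_mul, ← h', map_inv, mul_inv_cancel_right]⟩ hs
      · rw [Subtype.ext (conj_injective (mul_left_cancel h'))]
    · rintro ⟨α, x, hx, rfl | rfl⟩
      exacts [⟨(false, ⟨x, hx⟩), rfl⟩, ⟨(true, ⟨x, hx⟩), rfl⟩]
  rw [← Nat.card_congr (Equiv.ofBijective f hf), Nat.card_prod, card_Nser (Nat.zero_le _)]
  simp

theorem three_classes (hs : sAut ∉ (MulAut.conj : G →* MulAut G).range) {t : MulAut G} (ht : orderOf t = 2)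
    (hout : t ∉ (MulAut.conj : G →* MulAut G).range) :
    ∃ c < 3, IsConj t (sAut * MulAut.conj (tgt c)) := by
  classical
  haveI : Fact (Nat.Prime 2) := ⟨Nat.prime_two⟩
  haveI : Finite (MulAut G) := Nat.finite_of_card_ne_zero (by rw [card_mulAut]; norm_num)
  have hfac : (Nat.card (MulAut G)).factorization 2 = 18 := by
    rw [card_mulAut, show 2 * 64561751654400 = 2 ^ 18 * 492567075 by norm_num,
      Nat.factorization_mul (by norm_num) (by norm_num), Nat.Prime.factorization_pow Nat.prime_two]
    simp [Nat.factorization_eq_zero_of_not_dvd (show ¬ 2 ∣ 492567075 by norm_num)]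
  let S : Sylow 2 (MulAut G) := Sylow.ofCard autSyl (by rw [card_autSyl hs, hfac])
  have hp : IsPGroup 2 (Subgroup.zpowers t) :=
    IsPGroup.of_card (n := 1) (by rw [Nat.card_zpowers, ht, pow_one])
  obtain ⟨T', hT'⟩ := hp.exists_le_sylow
  obtain ⟨u, hu⟩ := MulAction.exists_smul_eq (MulAut G) T' S
  have hmem : u * t * u⁻¹ ∈ autSyl := by
    have h1 : u * t * u⁻¹ ∈ ((u • T' : Sylow 2 (MulAut G)) : Subgroup (MulAut G)) := by
      rw [Sylow.coe_subgroup_smul, Subgroup.mem_pointwise_smul_iff_inv_smul_mem]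
      show (MulAut.conj u)⁻¹ _ ∈ _
      rw [MulAut.conj_inv_apply]
      simpa [mul_assoc] using hT' (Subgroup.mem_zpowers t)
    rw [hu] at h1
    exact h1
  obtain ⟨x, hx, he | he⟩ := hmem
  · refine absurd ?_ hout
    have hn : (MulAut.conj : G →* MulAut G).range.Normal := ⟨by
      rintro _ ⟨g, rfl⟩ α
      exact ⟨α g, MulEquiv.ext fun y => by simp⟩⟩
    have := hn.conj_mem _ ⟨x, rfl⟩ u⁻¹
    rw [← he] at this
    simpa [mul_assoc] using this
  · have hxx : sAut x * x = 1 := by
      refine conj_injective ?_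
      have h1 : (u * t * u⁻¹) * (u * t * u⁻¹) = 1 := by
        have := pow_orderOf_eq_one t
        rw [ht, pow_two] at this
        simp [mul_assoc, ← mul_assoc t t, this]
      rw [he, ← mul_assoc, sAut_conj x, mul_assoc (MulAut.conj (sAut x)), sAut_mul_self, mul_one,
        ← map_mul] at h1
      rw [h1, map_one]
    obtain ⟨g, c, hc, hg⟩ := exists_target hx hxx
    refine ⟨c, hc, (isConj_iff.2 ⟨u, he⟩).trans ?_⟩
    rw [hg, conj_twist]
    exact (isConj_iff.2 ⟨MulAut.conj g, rfl⟩).symm

end CfsgLib.Presented.Fi22Outer
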