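import Cfsg.Agent.Lib.Presented.Fi22Pts.FixSet
import Cfsg.Agent.Lib.Presented.Fi22Outer.Data

/-!
Elements of the presented Fischer group on 22 letters given by tables, and the action of the diagram
symmetry on the points.
-/
set_option autoImplicit false
set_option maxRecDepth 8000

namespace CfsgLib.Presented.Fi22Outer

open CfsgLib.ThreeTrans.Inst.FiTwentyTwo (P a o evW_cat evW_eq_one)
open Fi22UCosets (ev phi phi_ev rep_valid)
open Fi22UCert (rep alphabet)
open Fi22Pts (G T img ok pt lookup allLt allLt_spec bit bit_eq gpts gpts_lt pt_val pt_self phi_pt eq_of_gpts)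

theorem repN : rep.N = 3510 := rfl

/-- `g` maps point `p` to point `f p` -/
def Im (g : G) (f : ℕ → ℕ) : Prop := ∀ p, p < rep.N → f p < rep.N ∧ P.φ g (pt p) = pt (f p)

theorem Im.one : Im 1 id := fun p hp => ⟨hp, by simp⟩

theorem Im.mul {g h : G} {f f' : ℕ → ℕ} (hg : Im g f) (hh : Im h f') : Im (g * h) (f ∘ f') := fun p hp => by
  obtain ⟨h1, h2⟩ := hh p hp
  obtain ⟨h3, h4⟩ := hg _ h1
  exact ⟨h3, by rw [map_mul, Equiv.Perm.mul_apply, h2, h4]; rfl⟩

theorem Im.word {w : List ℕ} (h : ok w = true) : Im (evW ev w) (img w) := fun _ hp =>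
  ⟨Fi22Pts.img_lt h hp, phi_pt h hp⟩

/-- the two maps agree on the nine points -/
def sameG (f f' : ℕ → ℕ) : Bool := gpts.all fun q => Nat.beq (f q) (f' q)

theorem Im.eq {g h : G} {f f' : ℕ → ℕ} (hg : Im g f) (hh : Im h f') (e : sameG f f' = true) : g = h := by
  refine eq_of_gpts fun q hq => ?_
  rw [(hg q (gpts_lt q hq)).2, (hh q (gpts_lt q hq)).2]
  exact congrArg pt (Nat.eq_of_beq_eq_true (List.all_eq_true.1 e q hq))

theorem Im.ne {g h : G} {f f' : ℕ → ℕ} (hg : Im g f) (hh : Im h f') (q : ℕ) (hq : q < rep.N)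
    (e : f q ≠ f' q) : g ≠ h := by
  rintro rfl
  have h1 := ((hg q hq).2.symm.trans (hh q hq).2)
  have h2 := congrArg Fin.val h1
  rw [pt_val (hg q hq).1, pt_val (hh q hq).1] at h2
  exact e h2

/-! ### Tables of words -/

/-- the table gives the word on all points -/
noncomputable def tblOK (w : List ℕ) (t : ℕ) : Bool :=
  ok w && allLt (fun i => Nat.blt (lookup t i) 3510) 3510 &&
    (Vec.slices rep.m).all fun v => Vec.force (Vec.applyNet (rep.netW w) v) fun u =>
      allLt (fun i => bit v (lookup t i) == bit u i) 3510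

theorem tblOK_spec {w : List ℕ} {t : ℕ} (h : tblOK w t = true) : Im (evW ev w) (lookup t) := by
  simp only [tblOK, Bool.and_eq_true, List.all_eq_true] at h
  obtain ⟨⟨hw, hlt⟩, hs⟩ := h
  intro i hi
  have hl : lookup t i < rep.N := by
    have := allLt_spec hlt i hi
    rw [Nat.blt_eq] at this
    exact this
  have hN := (Rep.valid_spec rep_valid).2.1
  refine ⟨hl, (phi_pt hw hi).trans (congrArg pt ?_)⟩
  refine (Vec.eq_of_slices (lt_of_lt_of_le hl hN) (lt_of_lt_of_le (Fi22Pts.img_lt hw hi) hN) fun v hv => ?_).symm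
  have h1 := hs v hv
  rw [Vec.force_eq] at h1
  have h2 := eq_of_beq (allLt_spec h1 i hi)
  rwa [bit_eq, bit_eq, Vec.testBit_applyNet (Rep.netOk_netW rep_valid w), ← Fi22Pts.img_eq] at h2

/-- the value of an element letter -/
noncomputable def el (j : ℕ) : G := evW ev (EW.getD j [])

/-- a word in the element letters on a point -/
noncomputable def elT (w : List ℕ) (p : ℕ) : ℕ :=
  List.rec (motive := fun _ => ℕ) p (fun j _ ih => Vec.force ih fun q => lookup (ET.getD j 0) q) w

/-- all letters name elements -/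
def okE (w : List ℕ) : Bool := w.all fun j => Nat.blt j 17

theorem okE_lt {w : List ℕ} (h : okE w = true) : ∀ j ∈ w, j < 17 := fun j hj => by
  have := List.all_eq_true.1 h j hj
  rwa [Nat.blt_eq] at this

theorem okE_cons {j : ℕ} {w : List ℕ} (h : okE (j :: w) = true) : j < 17 ∧ okE w = true := by
  rw [okE, List.all_cons, Bool.and_eq_true, Nat.blt_eq] at h
  exact h

end CfsgLib.Presented.Fi22Outer
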