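import Cfsg.Agent.Lib.Presented.Fi22Outer.Sigma
import Cfsg.Agent.Lib.Presented.Fi22Outer.FixedData
import Cfsg.Agent.Lib.Presented.Fi22Pts.Bound
import Cfsg.Agent.Lib.Presented.Fi22Pts.Parity
import Cfsg.Agent.Lib.ThreeTrans.Inst.FiTwentyTwoModel

/-! The transpositions fixed by the diagram symmetry: checks, and the automorphism is not inner. -/
set_option autoImplicit false
set_option maxRecDepth 100000

namespace CfsgLib.Presented.Fi22Outer

open CfsgLib.ThreeTrans.Inst.FiTwentyTwo (P a)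
open Fi22UCosets (ev)
open Fi22UCert (rep)
open Fi22Pts (G T img ok pt lookup allLt allLt_spec bit bit_eq adj adj_spec cell mem_cell Good maskOf chkMap
  chkMap_spec GoodMap gpts gpts_lt tw pt_val pt_self)

/-- the number of a fixed point -/
def fpN (i : ℕ) : ℕ := (fixPts.getD i (0, [])).1

/-- its word -/
def fpW (i : ℕ) : List ℕ := (fixPts.getD i (0, [])).2

/-- its transposition -/
noncomputable def fpT (i : ℕ) : G := T (fpN i)

theorem fix_len : fixPts.length = 360 := by decide +kernel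

theorem fix_ok : (allLt (fun i => ok (fpW i) && Nat.beq (img (fpW i) 0) (fpN i) && bit fixMask (fpN i)) 360 &&
    Nat.beq (maskOf (fixPts.map Prod.fst)) fixMask &&
    allLt (fun p => Bool.xor (Nat.beq (sg p) p) (!bit fixMask p)) 3510 &&
    Nat.beq (bitCount fixMask 3510) 360) = true := by decide +kernel

theorem fp_spec {i : ℕ} (hi : i < 360) :
    ok (fpW i) = true ∧ img (fpW i) 0 = fpN i ∧ fpN i < rep.N ∧ fixMask.testBit (fpN i) = true := by
  have h := fix_ok
  simp only [Bool.and_eq_true] at h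
  have h1 := allLt_spec h.1.1.1 i hi
  simp only [Bool.and_eq_true, bit_eq] at h1
  obtain ⟨⟨h2, h3⟩, h4⟩ := h1
  have h3' := Nat.eq_of_beq_eq_true h3
  exact ⟨h2, h3', h3' ▸ Fi22Pts.img_lt h2 (VCert.pos Fi22UCert.cert_ok), h4⟩

theorem mask_mem {p : ℕ} : fixMask.testBit p = true ↔ ∃ i, i < 360 ∧ fpN i = p := by
  have h := fix_ok
  simp only [Bool.and_eq_true] at h
  rw [← Nat.eq_of_beq_eq_true h.1.1.2, Fi22Pts.testBit_maskOf]
  constructor
  · intro hp
    obtain ⟨e, he, rfl⟩ := List.mem_map.1 hp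
    obtain ⟨i, hi, rfl⟩ := List.getElem_of_mem he
    exact ⟨i, fix_len ▸ hi, by rw [fpN, List.getD_eq_getElem _ _ hi]⟩
  · rintro ⟨i, hi, rfl⟩
    refine List.mem_map_of_mem ?_
    rw [List.getD_eq_getElem _ _ (fix_len.symm ▸ hi)]
    exact List.getElem_mem _

theorem fixed_iff {p : ℕ} (hp : p < rep.N) : sg p = p ↔ fixMask.testBit p = true := by
  have h := fix_ok
  simp only [Bool.and_eq_true] at h
  have h1 := allLt_spec h.1.2 p hp
  rw [bit_eq] at h1
  cases hb : fixMask.testBit p
  · rw [hb] at h1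
    simp only [Bool.not_false, Bool.xor_true, Bool.not_eq_true'] at h1
    exact ⟨fun e => absurd (show Nat.beq (sg p) p = true by rw [e]; exact Nat.beq_refl p) (by rw [h1]; decide),
      fun e => Bool.noConfusion e⟩
  · rw [hb] at h1
    simp only [Bool.not_true, Bool.xor_false] at h1
    exact iff_of_true (Nat.eq_of_beq_eq_true h1) rfl

theorem sAut_fpT {i : ℕ} (hi : i < 360) : sAut (fpT i) = fpT i := by
  obtain ⟨-, -, hlt, hb⟩ := fp_spec hi
  rw [fpT, sAut_T hlt, (fixed_iff hlt).2 hb]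

theorem T_injective {p q : ℕ} (hp : p < rep.N) (hq : q < rep.N) (e : T p = T q) : p = q := by
  have := congrArg Fin.val (P.tp_injective e)
  rwa [pt_val hp, pt_val hq] at this

/-- The fixed members. -/
theorem mem_fixed_iff {x : G} : x ∈ P.D ∧ sAut x = x ↔ ∃ i, i < 360 ∧ fpT i = x := by
  constructor
  · rintro ⟨hx, hs⟩
    obtain ⟨j, rfl⟩ := P.tp_surj hx
    have e : P.tp j = T (j : ℕ) := by rw [T, pt_self]
    rw [e, sAut_T j.2] at hs
    obtain ⟨i, hi, he⟩ := mask_mem.1 ((fixed_iff j.2).1 (T_injective (sg_spec j.2).1 j.2 hs))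
    exact ⟨i, hi, by rw [fpT, he, e]⟩
  · rintro ⟨i, hi, rfl⟩
    exact ⟨P.tp_mem _, sAut_fpT hi⟩

/-- the fixed points commuting with one -/
noncomputable def nbm (i : ℕ) : ℕ := Nat.land (adj (fpW i)) fixMask

theorem nbm_iff {i j : ℕ} (hi : i < 360) (hj : j < 360) :
    (nbm i).testBit (fpN j) = true ↔ fpN j ≠ fpN i ∧ Commute (fpT i) (fpT j) := by
  obtain ⟨hw, himg, -, -⟩ := fp_spec hi
  obtain ⟨-, -, hlt, hb⟩ := fp_spec hj
  show (adj (fpW i) &&& fixMask).testBit _ = true ↔ _
  rw [Nat.testBit_and, Bool.and_eq_true, and_iff_left hb, adj_spec hw hlt, himg]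
  rfl

theorem commute_iff {i j : ℕ} (hi : i < 360) (hj : j < 360) (hne : fpN j ≠ fpN i) :
    Commute (fpT i) (fpT j) ↔ (adj (fpW i)).testBit (fpN j) = true := by
  obtain ⟨hw, himg, -, -⟩ := fp_spec hi
  rw [adj_spec hw (fp_spec hj).2.2.1, himg]
  exact ⟨fun h => ⟨hne, h⟩, fun h => h.2⟩

/-! ### The centralizer of a class -/

/-- the first 120 fixed points -/
def classPts : List (ℕ × List ℕ) := fixPts.take 120

theorem class_ok : (Nat.beq (Nat.land (cell classPts 0) (Nat.xor (Vec.ones rep.N) (maskOf [0, 154]))) 0 &&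
    bit (cell classPts 0) 0 &&
    chkMap derId (classPts.map (fun f => (f, f)) ++ [((0, []), (0, []))]) (gpts.map fun q => (q, q)) &&
    chkMap derSig (classPts.map (fun f => (f, f)) ++ [((0, []), sigBase)]) (gpts.map fun q => (q, sg q)) &&
    ok sigBase.2 && Nat.beq (img sigBase.2 0) sigBase.1 && Nat.beq sigBase.1 154) = true := by decide +kernel

theorem class_mem {f : ℕ × List ℕ} (hf : f ∈ classPts) : ∃ i, i < 120 ∧ f = (fpN i, fpW i) := by
  obtain ⟨i, hi, rfl⟩ := List.getElem_of_mem hf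
  have hi' : i < 120 := by simp [classPts, List.length_take] at hi; omega
  refine ⟨i, hi', ?_⟩
  have hl : i < fixPts.length := by rw [fix_len]; omega
  rw [show classPts[i] = fixPts[i] from List.getElem_take, fpN, fpW, List.getD_eq_getElem _ _ hl]

/-- An element fixing the first 120 fixed points is trivial or acts as the symmetry. -/
theorem class_cases {g : G} (hg : ∀ i, i < 120 → P.φ g (pt (fpN i)) = pt (fpN i)) :
    g = 1 ∨ ∀ q ∈ gpts, P.φ g (pt q) = pt (sg q) := by
  have h := class_ok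
  simp only [Bool.and_eq_true, bit_eq] at h
  obtain ⟨⟨⟨⟨⟨⟨hcell, hb⟩, hid⟩, hsig⟩, hw⟩, himg⟩, hval⟩ := h
  have hgood : Good (Subgroup.zpowers g) classPts := by
    intro f hf
    obtain ⟨i, hi, rfl⟩ := class_mem hf
    obtain ⟨h1, h2, -, -⟩ := fp_spec (show i < 360 by omega)
    refine ⟨h1, h2, fun k hk => ?_⟩
    obtain ⟨n, rfl⟩ := Subgroup.mem_zpowers_iff.1 hk
    show P.φ (g ^ n) _ = _
    rw [map_zpow]
    exact Equiv.Perm.zpow_apply_eq_self_of_apply_eq_self (hg i hi) n
  have h0 : (0 : ℕ) < rep.N := VCert.pos Fi22UCert.cert_ok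
  have hm := mem_cell hgood h0 hb g (Subgroup.mem_zpowers g)
  have hcases : (P.φ g (pt 0) : ℕ) = 0 ∨ (P.φ g (pt 0) : ℕ) = 154 := by
    by_contra hcon
    push Not at hcon
    have := congrArg (fun v => v.testBit (P.φ g (pt 0) : ℕ)) (Nat.eq_of_beq_eq_true hcell)
    change (cell classPts 0 &&& (Vec.ones rep.N ^^^ maskOf [0, 154])).testBit _ = (0 : ℕ).testBit _ at this
    rw [Nat.testBit_and, hm, Nat.testBit_xor, Vec.testBit_ones, decide_eq_true (P.φ g (pt 0)).2,
      Nat.zero_testBit, Bool.true_and] at this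
    have hnot : (maskOf [0, 154]).testBit (P.φ g (pt 0) : ℕ) = false := by
      rw [← Bool.not_eq_true, Fi22Pts.testBit_maskOf]
      simp [hcon.1, hcon.2]
    rw [hnot] at this
    exact Bool.noConfusion this
  have good : ∀ (q : ℕ × List ℕ), ok q.2 = true → img q.2 0 = q.1 → P.φ g (pt 0) = pt q.1 →
      GoodMap g (classPts.map (fun f => (f, f)) ++ [((0, []), q)]) := by
    intro q hq1 hq2 hq3 f hf
    rw [List.mem_append, List.mem_map, List.mem_singleton] at hf
    rcases hf with ⟨f', hf', rfl⟩ | rfl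
    · obtain ⟨i, hi, rfl⟩ := class_mem hf'
      obtain ⟨h1, h2, -, -⟩ := fp_spec (show i < 360 by omega)
      exact ⟨h1, h2, h1, h2, hg i hi⟩
    · exact ⟨rfl, rfl, hq1, hq2, hq3⟩
  rcases hcases with e | e
  · left
    refine Fi22Pts.center_trivial fun q hq => ?_
    exact chkMap_spec hid (good (0, []) rfl rfl (Fin.ext (by rw [e, pt_val h0]))) (q, q)
      (List.mem_map.2 ⟨q, hq, rfl⟩)
  · right
    intro q hq
    have hlt : (154 : ℕ) < rep.N := by decide +kernel
    exact chkMap_spec hsig (good sigBase hw (Nat.eq_of_beq_eq_true himg)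
      (Fin.ext (by rw [e, Nat.eq_of_beq_eq_true hval, pt_val hlt]))) (q, sg q) (List.mem_map.2 ⟨q, hq, rfl⟩)

theorem sign_σP : Equiv.Perm.sign σP = -1 := by
  classical
  have h := fix_ok
  simp only [Bool.and_eq_true] at h
  have hcount : ((Finset.range rep.N).filter fun p => fixMask.testBit p = true).card = 360 := by
    rw [repN, ← bitCount_eq]
    exact Nat.eq_of_beq_eq_true h.2
  have hfix : (Finset.univ.filter fun i : Fin rep.N => σP i = i).card = 360 := by
    rw [← hcount, ← Finset.card_map Fin.valEmbedding]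
    refine congrArg Finset.card ?_
    ext n
    simp only [Finset.mem_map, Finset.mem_filter, Finset.mem_univ, true_and, Fin.valEmbedding_apply, Finset.mem_range]
    constructor
    · rintro ⟨i, hi, rfl⟩
      refine ⟨i.2, (fixed_iff i.2).1 ?_⟩
      have := congrArg Fin.val hi
      rw [← pt_self i, σP_pt i.2, pt_val (sg_spec i.2).1, pt_val i.2] at this
      exact this
    · rintro ⟨hn, hb⟩
      refine ⟨⟨n, hn⟩, ?_, rfl⟩
      rw [← pt_self ⟨n, hn⟩, σP_pt hn]
      exact congrArg pt ((fixed_iff hn).2 hb)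
  have hsupp : σP.support.card = 3150 := by
    have := Finset.card_filter_add_card_filter_not (s := (Finset.univ : Finset (Fin rep.N))) (fun i => σP i = i)
    rw [hfix, Finset.card_univ, Fintype.card_fin] at this
    have hN := repN
    have e : σP.support = Finset.univ.filter fun i => ¬ σP i = i := by ext i; simp
    rw [e]
    omega
  have hne : σP ≠ 1 := by
    intro e
    rw [e, Equiv.Perm.support_one, Finset.card_empty] at hsupp
    omega
  have hsq : σP ^ 2 = 1 := by rw [pow_two, σP_inv]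
  have : Fact (Nat.Prime 2) := ⟨Nat.prime_two⟩
  obtain ⟨n, hn⟩ := Equiv.Perm.cycleType_prime_order (orderOf_eq_prime hsq hne ▸ Nat.prime_two)
  rw [orderOf_eq_prime hsq hne] at hn
  have hsum := Equiv.Perm.sum_cycleType σP
  rw [hn, Multiset.sum_replicate, smul_eq_mul, hsupp] at hsum
  rw [Equiv.Perm.sign_of_cycleType, hn, Multiset.sum_replicate, Multiset.card_replicate, smul_eq_mul,
    show n + 1 = 1575 by omega]
  exact Odd.neg_one_pow ⟨2362, by norm_num⟩

theorem not_σP {g : G} (h : ∀ q ∈ gpts, P.φ g (pt q) = pt (sg q)) : False := by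
  have e : ∀ i, P.φ g i = σP i := by
    have hgen : ∀ x, x < 9 → g * ev x * g⁻¹ = sAut (ev x) := by
      intro x hx
      have hlt : gpts.getD x 0 < rep.N := gpts_lt _ (by
        rw [List.getD_eq_getElem _ _ (show x < gpts.length from hx)]; exact List.getElem_mem _)
      rw [← Fi22Pts.T_gpts x hx, sAut_T hlt, T, P.conj_tp, h _ (by
        rw [List.getD_eq_getElem _ _ (show x < gpts.length from hx)]; exact List.getElem_mem _)]
      rfl
    have hall : (MulAut.conj g).toMonoidHom = sAut.toMonoidHom :=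
      MonoidHom.eq_of_eqOn_dense Fi22UCosets.gen_top (by
        rintro _ ⟨x, hx, rfl⟩
        exact hgen x (eps_eq ▸ hx))
    intro i
    refine P.tp_injective ?_
    rw [← P.conj_tp, ← pt_self i, σP_pt i.2]
    show (MulAut.conj g).toMonoidHom (T (i : ℕ)) = T (sg (i : ℕ))
    rw [hall, MulEquiv.coe_toMonoidHom, sAut_T i.2]
  have := Fi22Pts.sign_phi g
  rw [Equiv.ext e, sign_σP] at this
  exact absurd this (by decide)

/-- The first class has trivial centralizer. -/
theorem eq_one_of_fix {g : G} (hg : ∀ i, i < 120 → Commute g (fpT i)) : g = 1 :=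
  (class_cases fun i hi => (Fi22Pts.commute_T_iff g _).1 (hg i hi)).resolve_right fun h => not_σP h

theorem sAut_outer : sAut ∉ (MulAut.conj : G →* MulAut G).range := by
  rintro ⟨g, hg⟩
  have e : ∀ p, p < rep.N → P.φ g (pt p) = pt (sg p) := fun p hp => by
    refine P.tp_injective ?_
    rw [← P.conj_tp]
    show MulAut.conj g (T p) = T (sg p)
    rw [hg, sAut_T hp]
  exact not_σP fun q hq => e q (gpts_lt q hq)

end CfsgLib.Presented.Fi22Outer
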