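import Cfsg.Agent.Lib.Presented.Fi22Outer.Fixed
import Cfsg.Agent.Lib.ThreeTrans.Classif.DisconnectedCase
import Cfsg.Agent.Lib.ThreeTrans.Classif.Final
import Cfsg.Agent.Lib.CoOneType.Plus
import Cfsg.Agent.Lib.ClassicalGroups.OrthCard
import Cfsg.Agent.Lib.Presented.Fi22Order

/-!
The fixed-point group of the diagram symmetry: it is generated by the fixed transpositions and is the
automorphism group of `Ω⁺₈(2)`.
-/
set_option autoImplicit false
set_option maxRecDepth 100000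

namespace CfsgLib.Presented.Fi22Outer

open CfsgLib.ThreeTrans CfsgLib.ThreeTrans.Classif
open CfsgLib.ThreeTrans.Inst.FiTwentyTwo (P a)
open Fi22UCert (rep)
open Fi22Pts (G T allLt allLt_spec bit bit_eq adj adj_spec maskOf pt)

/-- the fixed members -/
def Fset : Set G := {x | x ∈ P.D ∧ sAut x = x}

theorem mem_Fset {x : G} : x ∈ Fset ↔ ∃ i, i < 360 ∧ fpT i = x := mem_fixed_iff

theorem fpT_mem {i : ℕ} (hi : i < 360) : fpT i ∈ Fset := mem_Fset.2 ⟨i, hi, rfl⟩

/-- the fixed-point group of the symmetry -/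
noncomputable def Cs : Subgroup G := sAut.toMonoidHom.eqLocus (MonoidHom.id G)

theorem mem_Cs {g : G} : g ∈ Cs ↔ sAut g = g := Iff.rfl

/-- the group generated by the fixed members -/
noncomputable def Kg : Subgroup G := Subgroup.closure Fset

theorem Kg_le_Cs : Kg ≤ Cs := (Subgroup.closure_le _).2 fun _ hx => hx.2

theorem conj_Fset {g : G} (hg : g ∈ Cs) {x : G} (hx : x ∈ Fset) : g * x * g⁻¹ ∈ Fset :=
  ⟨P.conj_mem g hx.1, by rw [map_mul, map_mul, map_inv, hx.2, mem_Cs.1 hg]⟩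

theorem mem_Kg {i : ℕ} (hi : i < 360) : fpT i ∈ Kg := Subgroup.subset_closure (fpT_mem hi)

/-- the class inside the group -/
def EK : Set Kg := {y | (y : G) ∈ Fset}

/-! ### Conjugacy -/

/-- the tree of non-commuting pairs, parents first -/
noncomputable def treeOK : List ℕ → List (ℕ × ℕ) → Bool
  | seen, [] => allLt (fun i => seen.any fun j => Nat.beq j i) 360
  | seen, (c, p) :: r => Nat.blt c 360 && Nat.blt p 360 && (seen.any fun j => Nat.beq j p) &&
      !Nat.beq (fpN c) (fpN p) && !bit (adj (fpW p)) (fpN c) && treeOK (c :: seen) r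

theorem tree_ok : treeOK [0] fixTree = true := by decide +kernel

theorem hset : Cfsg.IsThreeTranspositionSet P.D := CfsgLib.ThreeTrans.Inst.FiTwentyTwo.isGroup.1

theorem fpT_sq (i : ℕ) : fpT i * fpT i = 1 := mul_self hset (P.tp_mem _)

theorem tree_spec : ∀ {l : List (ℕ × ℕ)} {seen : List ℕ}, treeOK seen l = true →
    (∀ j ∈ seen, j < 360 ∧ ∃ k ∈ Kg, k * fpT 0 * k⁻¹ = fpT j) →
      ∀ i, i < 360 → ∃ k ∈ Kg, k * fpT 0 * k⁻¹ = fpT i
  | [], seen, h, hs, i, hi => by
    have h1 := List.any_eq_true.1 (allLt_spec h i hi)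
    obtain ⟨j, hj, e⟩ := h1
    rw [← Nat.eq_of_beq_eq_true e]
    exact (hs j hj).2
  | (c, p) :: r, seen, h, hs, i, hi => by
    simp only [treeOK, Bool.and_eq_true, Bool.not_eq_true', Nat.blt_eq, List.any_eq_true, bit_eq] at h
    obtain ⟨⟨⟨⟨⟨hc, hp⟩, ⟨j, hj, hje⟩⟩, hne⟩, hadj⟩, hr⟩ := h
    refine tree_spec hr (fun j' hj' => ?_) i hi
    rcases List.mem_cons.1 hj' with rfl | hj'
    · refine ⟨hc, ?_⟩
      obtain ⟨k, hk, hk'⟩ := (hs j hj).2
      rw [Nat.eq_of_beq_eq_true hje] at hk'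
      have hne' : fpN j' ≠ fpN p := fun e => by rw [e, Nat.beq_refl] at hne; exact Bool.noConfusion hne
      have hnc : ¬ Commute (fpT p) (fpT j') := fun hcomm => by
        rw [(commute_iff hp hc hne').1 hcomm] at hadj
        exact Bool.noConfusion hadj
      have hb := braid hset (P.tp_mem _) (P.tp_mem _) hnc
      refine ⟨fpT p * fpT j' * k, mul_mem (mul_mem (mem_Kg hp) (mem_Kg hc)) hk, ?_⟩
      have e1 : fpT p * fpT j' * k * fpT 0 * (fpT p * fpT j' * k)⁻¹ =
          fpT p * fpT j' * (k * fpT 0 * k⁻¹) * (fpT j')⁻¹ * (fpT p)⁻¹ := by group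
      have i1 : (fpT p)⁻¹ = fpT p := inv_eq_of_mul_eq_one_right (fpT_sq p)
      have i2 : (fpT j')⁻¹ = fpT j' := inv_eq_of_mul_eq_one_right (fpT_sq j')
      rw [e1, hk', i1, i2]
      change fpT p * fpT j' * fpT p * fpT j' * fpT p = fpT j'
      have hb' : fpT p * fpT j' * fpT p = fpT j' * fpT p * fpT j' := hb
      rw [hb', mul_assoc (fpT j' * fpT p), fpT_sq, mul_one, mul_assoc (fpT j'), fpT_sq, mul_one]
    · exact hs j' hj'

theorem exists_conj {x : G} (hx : x ∈ Fset) : ∃ k ∈ Kg, k * fpT 0 * k⁻¹ = x := by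
  obtain ⟨i, hi, rfl⟩ := mem_Fset.1 hx
  exact tree_spec tree_ok (fun j hj => by
    rw [List.mem_singleton] at hj
    subst hj
    exact ⟨by norm_num, 1, one_mem _, by group⟩) i hi

theorem exists_conj' {x y : G} (hx : x ∈ Fset) (hy : y ∈ Fset) : ∃ k ∈ Kg, k * x * k⁻¹ = y := by
  obtain ⟨k, hk, rfl⟩ := exists_conj hx
  obtain ⟨l, hl, rfl⟩ := exists_conj hy
  exact ⟨l * k⁻¹, mul_mem hl (inv_mem hk), by group⟩

/-! ### Three cosets and no cores -/

/-- the checks -/
noncomputable def colOK : Bool :=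
  allLt (fun i => fixCol.any (fun C => bit C (fpN i)) &&
    fixCol.all (fun C => cond (bit C (fpN i)) (Nat.beq (Nat.land (nbm i) C) (nbm i)) true)) 360 &&
  fixCol.all (fun C => cond (bit C (fpN 0)) (!bit C (fpN 359)) true) &&
  allLt (fun i => Nat.beq i 0 || (!Nat.beq (Nat.lor (nbm i) (maskOf [fpN i])) (Nat.lor (nbm 0) (maskOf [fpN 0])) &&
    !Nat.beq (nbm i) (nbm 0))) 360

theorem col_ok : (colOK && Nat.beq (fpN 0) 16 && !Nat.beq (fpN 0) (fpN 1) && bit (nbm 0) (fpN 1)) = true := by decide +kernel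

instance : Finite G := Nat.finite_of_card_ne_zero (by rw [Fi22Order.card_eq]; norm_num)

theorem EK_set : Cfsg.IsThreeTranspositionSet EK := by
  refine ⟨fun x hx => ?_, fun x hx y hy => ?_⟩
  · rw [← Subgroup.orderOf_coe]
    exact hset.1 _ hx.1
  · rcases hset.2 _ hx.1 _ hy.1 with h | h
    · exact Or.inl (Subtype.ext (by simpa using h))
    · exact Or.inr (Subtype.ext (by simpa using h))

theorem EK_closed : ConjClosed EK := ⟨EK_set, fun g x hx => conj_Fset (Kg_le_Cs g.2) hx⟩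

/-- the base member -/
noncomputable def a0 : Kg := ⟨fpT 0, mem_Kg (by norm_num)⟩

theorem a0_mem : a0 ∈ EK := fpT_mem (by norm_num)

theorem EK_class : Cfsg.IsThreeTranspositionClass EK := by
  refine ⟨EK_set, ⟨a0, a0_mem, ?_⟩, ?_⟩
  · ext x
    constructor
    · intro hx
      obtain ⟨k, hk, hk'⟩ := exists_conj hx
      exact isConj_iff.2 ⟨⟨k, hk⟩, Subtype.ext hk'⟩
    · intro hx
      obtain ⟨k, rfl⟩ := isConj_iff.1 hx
      exact EK_closed.conj k a0 a0_mem
  · rw [eq_top_iff]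
    rintro ⟨x, hx⟩ -
    induction hx using Subgroup.closure_induction with
    | mem y hy => exact Subgroup.subset_closure hy
    | one => exact one_mem _
    | mul u v hu hv ihu ihv => exact mul_mem ihu ihv
    | inv u hu ihu => exact inv_mem ihu

theorem eq_one_of_all {g : G} (h : ∀ x ∈ Fset, Commute g x) : g = 1 :=
  eq_one_of_fix fun i hi => h _ (fpT_mem (by omega))

theorem center_Kg : Subgroup.center Kg = ⊥ := by
  refine (Subgroup.eq_bot_iff_forall _).2 fun z hz => Subtype.ext ?_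
  exact eq_one_of_all fun x hx => (congrArg Subtype.val
    (Subgroup.mem_center_iff.1 hz ⟨x, Subgroup.subset_closure hx⟩)).symm

theorem eq_a0_of_rel {v : Kg} (h : VRel EK a0 v ∨ WRel EK a0 v) : v = a0 := by
  have hok := col_ok
  simp only [colOK, Bool.and_eq_true] at hok
  have hv : v ∈ EK := h.elim (fun h => h.2.1) fun h => h.2.1
  obtain ⟨i, hi, he⟩ := mem_Fset.1 hv
  by_contra hne
  have hi0 : i ≠ 0 := fun e => hne (Subtype.ext (by rw [← he, e]; rfl))
  have h1 := allLt_spec hok.1.1.1.2 i hi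
  simp only [Bool.or_eq_true, Bool.and_eq_true, Bool.not_eq_true'] at h1
  rcases h1 with h1 | h1
  · exact hi0 (Nat.eq_of_beq_eq_true h1)
  have hne' : fpN i ≠ fpN 0 := fun e => hne (Subtype.ext (by rw [← he, fpT, e]; rfl))
  -- commuting is read off the bit vectors
  have key : ∀ {j : ℕ}, j < 360 → ∀ p, ((nbm j).testBit p = true ↔
      ∃ k, k < 360 ∧ fpN k = p ∧ fpN k ≠ fpN j ∧ Commute (fpT j) (fpT k)) := by
    intro j hj p
    constructor
    · intro hp
      have hp' : fixMask.testBit p = true := by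
        have h2 : (adj (fpW j) &&& fixMask).testBit p = true := hp
        rw [Nat.testBit_and, Bool.and_eq_true] at h2
        exact h2.2
      obtain ⟨k, hk, rfl⟩ := mask_mem.1 hp'
      exact ⟨k, hk, rfl, (nbm_iff hj hk).1 hp⟩
    · rintro ⟨k, hk, rfl, h2, h3⟩
      exact (nbm_iff hj hk).2 ⟨h2, h3⟩
  have cK : ∀ {x y : Kg}, Commute x y ↔ Commute (x : G) y := fun {x y} =>
    ⟨fun h => congrArg Subtype.val h.eq, fun h => Subtype.ext h⟩
  have beqt : ∀ {u w : ℕ}, u = w → Nat.beq u w = false → False := fun e e' => by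
    rw [e, Nat.beq_refl] at e'; exact Bool.noConfusion e'
  rcases h with h | h
  · refine beqt (Nat.eq_of_testBit_eq fun p => ?_) h1.1
    show (nbm i ||| maskOf [fpN i]).testBit p = (nbm 0 ||| maskOf [fpN 0]).testBit p
    rw [Bool.eq_iff_iff, Nat.testBit_or, Nat.testBit_or, Bool.or_eq_true, Bool.or_eq_true, key hi, key (by norm_num),
      Fi22Pts.testBit_maskOf, Fi22Pts.testBit_maskOf, List.mem_singleton, List.mem_singleton]
    have iff' : ∀ k, k < 360 → (Commute (fpT i) (fpT k) ↔ Commute (fpT 0) (fpT k)) := fun k hk => by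
      have h2 := h.2.2 ⟨fpT k, mem_Kg hk⟩ (fpT_mem hk)
      rw [cK, cK, ← he] at h2
      exact h2
    have cc : Commute (fpT 0) (fpT i) := (iff' i hi).1 (Commute.refl _)
    constructor
    · rintro (⟨k, hk, rfl, -, h3⟩ | rfl)
      · by_cases e : fpN k = fpN 0
        · exact Or.inr e
        · exact Or.inl ⟨k, hk, rfl, e, (iff' k hk).1 h3⟩
      · exact Or.inl ⟨i, hi, rfl, hne', cc⟩
    · rintro (⟨k, hk, rfl, -, h3⟩ | rfl)
      · by_cases e : fpN k = fpN i
        · exact Or.inr e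
        · exact Or.inl ⟨k, hk, rfl, e, (iff' k hk).2 h3⟩
      · exact Or.inl ⟨0, by norm_num, rfl, Ne.symm hne', cc.symm⟩
  · refine beqt (Nat.eq_of_testBit_eq fun p => ?_) h1.2
    rw [Bool.eq_iff_iff, key hi, key (by norm_num)]
    have iff' : ∀ k, k < 360 → ((fpN k ≠ fpN i ∧ Commute (fpT i) (fpT k)) ↔
        (fpN k ≠ fpN 0 ∧ Commute (fpT 0) (fpT k))) := fun k hk => by
      have h2 := Set.ext_iff.1 h.2.2 ⟨fpT k, mem_Kg hk⟩
      simp only [Set.mem_ofPred_eq, ne_eq, Subtype.ext_iff, cK] at h2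
      have hk' : (⟨fpT k, mem_Kg hk⟩ : Kg) ∈ EK := fpT_mem hk
      rw [and_iff_right hk', and_iff_right hk'] at h2
      have inj : ∀ m, m < 360 → (fpT k = fpT m ↔ fpN k = fpN m) := fun m hm =>
        ⟨fun e => T_injective (fp_spec hk).2.2.1 (fp_spec hm).2.2.1 e, fun e => by rw [fpT, fpT, e]⟩
      rw [← he] at h2
      rw [ne_eq, ne_eq, ← inj i hi, ← inj 0 (by norm_num)]
      exact h2.symm
    constructor
    · rintro ⟨k, hk, rfl, h2, h3⟩
      exact ⟨k, hk, rfl, (iff' k hk).1 ⟨h2, h3⟩⟩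
    · rintro ⟨k, hk, rfl, h2, h3⟩
      exact ⟨k, hk, rfl, (iff' k hk).2 ⟨h2, h3⟩⟩

theorem pCore_Kg {p : ℕ} (hrel : ∀ v ∈ EK, a0 * v ∈ Cfsg.pCore p Kg → VRel EK a0 v ∨ WRel EK a0 v) :
    Cfsg.pCore p Kg = ⊥ := by
  refine (Subgroup.eq_bot_iff_forall _).2 fun x hx => ?_
  have hN := Cfsg.pCore_normal p Kg
  have hcomm : ∀ z ∈ Cfsg.pCore p Kg, z * a0 * z⁻¹ = a0 := by
    intro z hz
    refine eq_a0_of_rel (hrel _ (EK_closed.conj z a0 a0_mem) ?_)
    have h1 := mul_mem (hN.conj_mem z hz a0) (inv_mem hz)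
    rw [inv_eq EK_set a0_mem] at h1
    simpa [mul_assoc] using h1
  refine Subtype.ext (eq_one_of_all fun y hy => ?_)
  obtain ⟨k, hk, rfl⟩ := exists_conj hy
  have h1 := hcomm _ (hN.conj_mem x hx (⟨k, hk⟩ : Kg)⁻¹)
  rw [inv_inv] at h1
  have h2 := congrArg (fun w : Kg => k * (w : G) * k⁻¹) h1
  simp only [Subgroup.coe_mul, InvMemClass.coe_inv, mul_inv_rev, inv_inv] at h2
  show (x : G) * (k * fpT 0 * k⁻¹) = k * fpT 0 * k⁻¹ * x
  rw [← mul_inv_eq_iff_eq_mul]
  refine Eq.trans ?_ h2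
  show _ = k * (k⁻¹ * (x : G) * k * fpT 0 * (k⁻¹ * ((x : G)⁻¹ * k))) * k⁻¹
  group

theorem EK_disconnected : ¬ (Cfsg.commutingGraph EK).Connected := by
  intro hcon
  have hok := col_ok
  simp only [colOK, Bool.and_eq_true, List.all_eq_true] at hok
  have h0 := allLt_spec hok.1.1.1.1.1 0 (by norm_num)
  rw [Bool.and_eq_true, List.any_eq_true] at h0
  obtain ⟨⟨C, hC, hC0⟩, -⟩ := h0
  have h359 := hok.1.1.1.1.2 C hC
  rw [hC0, cond_true, bit_eq, Bool.not_eq_true'] at h359
  have step : ∀ u w : EK, (Cfsg.commutingGraph EK).Adj u w → ∀ i, i < 360 → fpT i = ((u : Kg) : G) →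
      C.testBit (fpN i) = true → ∀ j, j < 360 → fpT j = ((w : Kg) : G) → C.testBit (fpN j) = true := by
    intro u w huw i hi hu hb j hj hw
    have hne := huw.ne
    have hc : Commute ((u : Kg) : G) ((w : Kg) : G) := by
      simp only [Cfsg.commutingGraph, SimpleGraph.fromRel_adj] at huw
      rcases huw.2 with h | h
      · exact congrArg Subtype.val h.eq
      · exact (congrArg Subtype.val h.eq : _ = _).symm
    rw [← hu, ← hw] at hc
    have hne' : fpN j ≠ fpN i := fun e => hne (Subtype.ext (Subtype.ext (by rw [← hu, ← hw, fpT, fpT, e])))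
    have h1 := (nbm_iff hi hj).2 ⟨hne', hc⟩
    have h2 := allLt_spec hok.1.1.1.1.1 i hi
    rw [Bool.and_eq_true, List.all_eq_true] at h2
    have h3 := h2.2 C hC
    rw [bit_eq, hb, cond_true] at h3
    rw [← Nat.eq_of_beq_eq_true h3] at h1
    have h4 : (nbm i &&& C).testBit (fpN j) = true := h1
    rw [Nat.testBit_and, Bool.and_eq_true] at h4
    exact h4.2
  obtain ⟨w⟩ := hcon.preconnected ⟨a0, a0_mem⟩ ⟨⟨fpT 359, mem_Kg (by norm_num)⟩, fpT_mem (by norm_num)⟩
  have key : ∀ {u v : EK}, (Cfsg.commutingGraph EK).Walk u v → ∀ i, i < 360 → fpT i = ((u : Kg) : G) →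
      C.testBit (fpN i) = true → ∀ j, j < 360 → fpT j = ((v : Kg) : G) → C.testBit (fpN j) = true := by
    intro u v p
    induction p with
    | nil =>
      intro i hi hu hb j hj hv
      rwa [T_injective (fp_spec hj).2.2.1 (fp_spec hi).2.2.1 (hv.trans hu.symm)]
    | cons hxy _ ih =>
      intro i hi hu hb j hj hv
      obtain ⟨m, hm, hm'⟩ := mem_Fset.1 (Subtype.mem _ : _ ∈ EK)
      exact ih m hm hm' (step _ _ hxy i hi hu hb m hm hm') j hj hv
  rw [key w 0 (by norm_num) rfl (by rwa [← bit_eq]) 359 (by norm_num) rfl] at h359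
  exact Bool.noConfusion h359

theorem semiK : Semi EK := by
  refine semi_of_disconnected EK_class center_Kg (pCore_Kg fun v hv h => Or.inl ?_)
    (pCore_Kg fun v hv h => Or.inr ?_) EK_disconnected
  · exact vRel_of_mul_mem EK_closed a0_mem hv h
  · exact wRel_of_mul_mem EK_closed a0_mem hv h

end CfsgLib.Presented.Fi22Outer
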