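import Cfsg.Agent.Lib.Presented.Fi22Outer.Pair
import Cfsg.Agent.Lib.ClassicalGroups.OrthCard
import Cfsg.Agent.Lib.LocalEven.PReducedBasic

/-!
The fixed points of the symmetry times a commuting pair have shape `2^6.O⁻₆(2)`.
-/
set_option autoImplicit false
set_option maxRecDepth 100000
set_option synthInstance.maxSize 512

namespace CfsgLib.Presented.Fi22Outer

open CfsgLib.ThreeTrans.Inst.FiTwentyTwo (P)
open CfsgLib.Orth (app refl mkO ext_app app_mkO app_mul app_one app_refl reflClosure)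
open Fi22UCosets (ev)
open Fi22UCert (rep)
open Fi22Pts (G T img ok pt allLt allLt_spec tw)

/-- the quadratic form -/
noncomputable abbrev Q6 : QuadraticForm (ZMod 2) (Six → ZMod 2) := CfsgLib.Orth.minusQ 2 (ZMod 2) 1 1

theorem Q6_apply (v : Six → ZMod 2) : Q6 v = Cfsg.quadFormMinus 2 (ZMod 2) 1 1 v :=
  congrFun (CfsgLib.Orth.minusQ_coe 2 1 1) v

/-! ### The coordinate map -/

theorem flat_ok : ∀ {l : List ℕ}, (∀ k ∈ l, k < 36) → ok (l.flatMap zW) = true
  | [], _ => rfl
  | k :: l, h => by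
    have hk := h k List.mem_cons_self
    rw [List.flatMap_cons, Fi22Pts.ok_append, flat_ok fun x hx => h x (List.mem_cons_of_mem k hx), zW,
      Fi22Pts.ok_append, Fi22Pts.ok_tw (p_spec (by omega)).1, Fi22Pts.ok_tw (p_spec (by omega)).1]
    rfl

theorem evW_zW {k : ℕ} (hk : k < 36) : evW ev (zW k) = zT k := by
  obtain ⟨h1, h2, -, -⟩ := p_spec (show 2 * k < 72 by omega)
  obtain ⟨h3, h4, -, -⟩ := p_spec (show 2 * k + 1 < 72 by omega)
  rw [zW, evW_append, Fi22Pts.evW_tw h1, Fi22Pts.evW_tw h3, h2, h4]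
  rfl

theorem zW_ok {k : ℕ} (hk : k < 36) : ok (zW k) = true := by
  simpa using flat_ok (l := [k]) (by simpa using hk)

theorem flat_closed {H : Subgroup G} (hH : ∀ k, k < 36 → zT k ∈ H) :
    ∀ {l : List ℕ}, (∀ k ∈ l, k < 36) → evW ev (l.flatMap zW) ∈ H
  | [], _ => one_mem _
  | k :: l, h => by
    rw [List.flatMap_cons, evW_append, evW_zW (h k List.mem_cons_self)]
    exact mul_mem (hH k (h k List.mem_cons_self)) (flat_closed hH fun x hx => h x (List.mem_cons_of_mem k hx))

theorem sixL_all (i : Six) : i ∈ sixL := by rcases i with (i | i) | i <;> fin_cases i <;> simp [sixL]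

theorem x_lt (i : Six) : ∀ k ∈ baseZ.getD (sixN i) [], k < 36 := by
  have h := x_ok
  simp only [xOK, Bool.and_eq_true, List.all_eq_true] at h
  intro k hk
  exact Nat.le_of_ble_eq_true ((h.1 i (sixL_all i)).1.1 k hk)

theorem xW_ok (i : Six) : ok (xW i) = true := flat_ok (x_lt i)

/-- a coordinate involution -/
noncomputable def xG (i : Six) : G := evW ev (xW i)

theorem xG_sq (i : Six) : xG i * xG i = 1 := by
  have h := x_ok
  simp only [xOK, Bool.and_eq_true, List.all_eq_true] at h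
  have hk : ok (xW i ++ xW i) = true := by rw [Fi22Pts.ok_append, xW_ok]; rfl
  rw [xG, ← evW_append]
  refine Im.eq (Im.word hk) Im.one ?_
  simp only [sameG, List.all_eq_true]
  exact (List.all_eq_true.1 (show sameG (img (xW i ++ xW i)) id = true by
    simpa [sameG, List.all_eq_true] using (h.1 i (sixL_all i)).1.2))

theorem xG_comm (i j : Six) : Commute (xG i) (xG j) := by
  have h := x_ok
  simp only [xOK, Bool.and_eq_true, List.all_eq_true] at h
  show xG i * xG j = xG j * xG i
  rw [xG, xG, ← evW_append, ← evW_append]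
  exact Im.eq (Im.word (by rw [Fi22Pts.ok_append, xW_ok, xW_ok]; rfl))
    (Im.word (by rw [Fi22Pts.ok_append, xW_ok, xW_ok]; rfl)) ((h.1 i (sixL_all i)).2 j (sixL_all j))

/-- a factor -/
noncomputable def fac (i : Six) (c : ZMod 2) : G := if c = 1 then xG i else 1

theorem fac_add (i : Six) (c d : ZMod 2) : fac i (c + d) = fac i c * fac i d := by
  have h01 : ∀ c : ZMod 2, c = 0 ∨ c = 1 := by decide
  have h11 : ((1 : ZMod 2) + 1) ≠ 1 := by decide
  rcases h01 c with rfl | rfl <;> rcases h01 d with rfl | rfl <;> simp [fac, xG_sq, h11]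

theorem fac_comm (i j : Six) (c d : ZMod 2) : Commute (fac i c) (fac j d) := by
  unfold fac
  split_ifs
  exacts [xG_comm i j, Commute.one_right _, Commute.one_left _, Commute.one_right _]

/-- product along a list -/
noncomputable def facL (l : List Six) (v : Six → ZMod 2) : G := (l.map fun i => fac i (v i)).prod

theorem facL_add (u v : Six → ZMod 2) : ∀ l, facL l (u + v) = facL l u * facL l v
  | [] => by simp [facL]
  | i :: l => by
    have ih := facL_add u v l
    simp only [facL, List.map_cons, List.prod_cons, Pi.add_apply] at ih ⊢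
    rw [fac_add, ih]
    refine Commute.mul_mul_mul_comm ?_ _ _
    refine Commute.list_prod_right _ _ fun x hx => ?_
    obtain ⟨j, -, rfl⟩ := List.mem_map.1 hx
    exact fac_comm _ _ _ _

theorem facL_word (v : Six → ZMod 2) : ∀ l : List Six,
    ok (l.flatMap fun i => if v i = 1 then xW i else []) = true ∧
      evW ev (l.flatMap fun i => if v i = 1 then xW i else []) = facL l v
  | [] => ⟨rfl, rfl⟩
  | i :: l => by
    obtain ⟨h1, h2⟩ := facL_word v l
    have e : facL (i :: l) v = fac i (v i) * facL l v := by simp [facL]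
    constructor
    · rw [List.flatMap_cons, Fi22Pts.ok_append, h1]
      split_ifs
      · rw [xW_ok]; rfl
      · rfl
    · rw [List.flatMap_cons, evW_append, h2, e, fac]
      split_ifs <;> rfl

/-- the coordinate map -/
noncomputable def psi (v : Six → ZMod 2) : G := facL sixL v

theorem psi_add (u v : Six → ZMod 2) : psi (u + v) = psi u * psi v := facL_add u v sixL

theorem psi_zero : psi 0 = 1 := by
  have h := psi_add 0 0
  rw [add_zero] at h
  exact left_eq_mul.1 h

theorem psi_word (v : Six → ZMod 2) : ok (psiW v) = true ∧ evW ev (psiW v) = psi v := facL_word v sixL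

theorem psi_single (i : Six) : psi (Pi.single i 1) = xG i := by
  rw [← (psi_word _).2, psiW_single, xG]

theorem psi_pvec {k : ℕ} (hk : k < 36) : psi (pvec k) = zT k := by
  have h := x_ok
  simp only [xOK, Bool.and_eq_true] at h
  rw [← (psi_word _).2, ← evW_zW hk]
  exact Im.eq (Im.word (psi_word _).1) (Im.word (zW_ok hk)) (allLt_spec h.2 k hk)

theorem psi_eq_one {v : Six → ZMod 2} (h : psi v = 1) : v = 0 := by
  by_contra hv
  have h1 := psiW_ne v hv
  have h2 : sameG (img (psiW v)) id = true := by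
    simp only [sameG, List.all_eq_true]
    intro q hq
    obtain ⟨a1, a2⟩ := Im.word (psi_word v).1 q (Fi22Pts.gpts_lt q hq)
    rw [(psi_word v).2, h, map_one, Equiv.Perm.one_apply] at a2
    have := congrArg Fin.val a2
    rw [Fi22Pts.pt_val (Fi22Pts.gpts_lt q hq), Fi22Pts.pt_val a1] at this
    rw [← this]
    exact Nat.beq_refl q
  rw [h1] at h2
  exact Bool.noConfusion h2

theorem neg_eq (v : Six → ZMod 2) : v + v = 0 := funext fun i => by
  have : ∀ c : ZMod 2, c + c = 0 := by decide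
  exact this _

theorem psi_injective : Function.Injective psi := fun u v h => by
  have h2 : psi (u + v) = 1 := by rw [psi_add, h, ← psi_add, neg_eq, psi_zero]
  have h3 := psi_eq_one h2
  calc u = u + (v + v) := by rw [neg_eq, add_zero]
    _ = v := by rw [← add_assoc, h3, zero_add]

/-- as a homomorphism -/
noncomputable def psiHom : Multiplicative (Six → ZMod 2) →* G where
  toFun v := psi v.toAdd
  map_one' := psi_zero
  map_mul' u v := psi_add _ _

/-- the 2-core -/
noncomputable def Opair : Subgroup G := psiHom.range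

theorem mem_Opair {g : G} : g ∈ Opair ↔ ∃ v, psi v = g :=
  ⟨fun ⟨v, h⟩ => ⟨v.toAdd, h⟩, fun ⟨v, h⟩ => ⟨Multiplicative.ofAdd v, h⟩⟩

theorem zT_mem_Opair {k : ℕ} (hk : k < 36) : zT k ∈ Opair := mem_Opair.2 ⟨_, psi_pvec hk⟩

theorem Opair_le {H : Subgroup G} (hH : ∀ k, k < 36 → zT k ∈ H) : Opair ≤ H := by
  intro g hg
  obtain ⟨v, rfl⟩ := mem_Opair.1 hg
  refine list_prod_mem fun x hx => ?_
  obtain ⟨i, -, rfl⟩ := List.mem_map.1 hx
  rw [fac]
  split_ifs
  exacts [flat_closed hH (x_lt i), one_mem _]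

theorem Opair_le_Csab : Opair ≤ Csab := Opair_le fun _ hk => zT_mem hk

theorem conj_Opair {g : G} (hg : g ∈ Csab) (v : Six → ZMod 2) : ∃ w, psi w = g * psi v * g⁻¹ := by
  have h : Opair ≤ Opair.comap (MulAut.conj g).toMonoidHom := Opair_le fun k hk => by
    obtain ⟨l, hl, e⟩ := conj_zT hg hk
    show g * zT k * g⁻¹ ∈ Opair
    exact e ▸ zT_mem_Opair hl
  exact mem_Opair.1 (h (mem_Opair.2 ⟨v, rfl⟩))

/-! ### The action -/

/-- conjugation in coordinates -/
noncomputable def actV (g : Csab) (v : Six → ZMod 2) : Six → ZMod 2 := (conj_Opair g.2 v).choose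

theorem actV_spec (g : Csab) (v : Six → ZMod 2) : psi (actV g v) = g * psi v * (g : G)⁻¹ :=
  (conj_Opair g.2 v).choose_spec

/-- conjugation as a linear map -/
noncomputable def actL6 (g : Csab) : (Six → ZMod 2) →ₗ[ZMod 2] (Six → ZMod 2) :=
  AddMonoidHom.toZModLinearMap 2 (AddMonoidHom.mk' (actV g) fun u v => psi_injective (by
    rw [psi_add, actV_spec, actV_spec, actV_spec, psi_add]; group))

theorem actL6_spec (g : Csab) (v : Six → ZMod 2) : psi (actL6 g v) = g * psi v * (g : G)⁻¹ := actV_spec g v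

theorem actL6_inv (g : Csab) : (actL6 g).comp (actL6 g⁻¹) = LinearMap.id := LinearMap.ext fun v => psi_injective (by
  rw [LinearMap.comp_apply, actL6_spec, actL6_spec, Subgroup.coe_inv, LinearMap.id_apply]; group)

theorem act_Q (g : Csab) (v : Six → ZMod 2) : Q6 (actL6 g v) = Q6 v := by
  have one : ∀ (h : Csab) (u : Six → ZMod 2), Q6 u = 1 → Q6 (actL6 h u) = 1 := by
    intro h u hu
    rw [Q6_apply] at hu ⊢
    obtain ⟨k, rfl⟩ := (pvec_iff u).1 hu
    obtain ⟨l, hl, e⟩ := conj_zT h.2 k.2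
    exact (pvec_iff _).2 ⟨⟨l, hl⟩, psi_injective (by rw [actL6_spec, psi_pvec hl, psi_pvec k.2, e])⟩
  have h01 : ∀ c d : ZMod 2, (c = 1 ↔ d = 1) → c = d := by decide
  refine h01 _ _ ⟨fun h => ?_, one g v⟩
  have h2 := one g⁻¹ _ h
  have e := LinearMap.congr_fun (actL6_inv g⁻¹) v
  rw [inv_inv, LinearMap.comp_apply, LinearMap.id_apply] at e
  rwa [e] at h2

/-- the action on the form -/
noncomputable def rho : Csab →* CfsgLib.Orth.O Q6 where
  toFun g := mkO (actL6 g) (actL6 g⁻¹) (actL6_inv g) (by simpa using actL6_inv g⁻¹) (act_Q g)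
  map_one' := ext_app fun x => psi_injective (by simp [app_mkO, actL6_spec])
  map_mul' g h := ext_app fun x => psi_injective (by
    rw [app_mul, app_mkO, app_mkO, app_mkO, actL6_spec, actL6_spec, actL6_spec, Subgroup.coe_mul]; group)

theorem rho_spec (g : Csab) (v : Six → ZMod 2) : psi (app (rho g) v) = g * psi v * (g : G)⁻¹ := by
  show psi (app (mkO (actL6 g) (actL6 g⁻¹) (actL6_inv g) (by simpa using actL6_inv g⁻¹) (act_Q g)) v) = _
  rw [app_mkO, actL6_spec]

theorem rho_pT {i : ℕ} (hi : i < 72) : rho ⟨pT i, pT_mem hi⟩ = refl Q6 (pvec (i / 2)) := by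
  have hk : i / 2 < 36 := by omega
  refine ext_app fun x => LinearMap.congr_fun (f := app (rho ⟨pT i, pT_mem hi⟩)) ?_ x
  refine LinearMap.pi_ext' fun j => LinearMap.ext_ring ?_
  show app _ (Pi.single j 1) = app _ (Pi.single j 1)
  refine psi_injective ?_
  rw [rho_spec, app_refl, psi_single]
  have hQ : Q6 (pvec (i / 2)) = 1 := by
    rw [Q6_apply]; exact (pvec_iff _).2 ⟨⟨_, hk⟩, rfl⟩
  rw [hQ, inv_one, one_mul]
  have hc := allLt_spec refl_ok i hi
  rw [List.all_eq_true] at hc
  have hc := hc j (sixL_all j)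
  obtain ⟨hw, himg, -, -⟩ := p_spec hi
  have ht := Fi22Pts.ok_tw hw
  have e1 : evW ev (tw (pW i) ++ xW j ++ tw (pW i)) = pT i * xG j * (pT i)⁻¹ := by
    rw [evW_append, evW_append, Fi22Pts.evW_tw hw, himg,
      inv_eq_of_mul_eq_one_right (CfsgLib.ThreeTrans.mul_self hset (pT_mem_D i))]
    rfl
  have hpol : polB (Pi.single j 1) (pvec (i / 2)) =
      decide (QuadraticMap.polar Q6 (Pi.single j 1) (pvec (i / 2)) = 1) := by
    simp only [polB, QuadraticMap.polar, Q6_apply]
  have hw2 : ∀ b : Bool, ok (xW j ++ cond b (zW (i / 2)) []) = true := fun b => by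
    cases b <;> simp [Fi22Pts.ok_append, xW_ok, zW_ok hk]
  have e2 : pT i * xG j * (pT i)⁻¹ = evW ev (xW j ++ cond (polB (Pi.single j 1) (pvec (i / 2))) (zW (i / 2)) []) := by
    rw [← e1]
    exact Im.eq (Im.word (by rw [Fi22Pts.ok_append, Fi22Pts.ok_append, ht, xW_ok]; rfl)) (Im.word (hw2 _)) hc
  show pT i * xG j * (pT i)⁻¹ = _
  rw [e2, hpol, evW_append]
  have h01 : ∀ c : ZMod 2, c = 0 ∨ c = 1 := by decide
  rcases h01 (QuadraticMap.polar Q6 (Pi.single j 1) (pvec (i / 2))) with h | h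
  · rw [h, zero_smul, sub_zero, psi_single]
    simp [xG]
  · rw [h, one_smul, sub_eq_add_neg, neg_eq_of_add_eq_zero_left (neg_eq _), psi_add, psi_single, psi_pvec hk]
    simp [xG, evW_zW hk]

theorem rho_surjective : Function.Surjective rho := by
  classical
  rw [← MonoidHom.range_eq_top, eq_top_iff, ← Cfsg.Agent.InvolForm57.minus_gen 2 CfsgLib.ThreeTrans.MinusSix.aniso]
  refine (Subgroup.closure_le _).2 ?_
  rintro _ ⟨v, rfl⟩
  have h01 : ∀ c : ZMod 2, c = 0 ∨ c = 1 := by decide
  rcases h01 (Q6 v) with h | h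
  · have e : refl Q6 v = 1 := ext_app fun x => by
      rw [app_refl, app_one, h, inv_zero, zero_mul, zero_smul, sub_zero]
    exact e ▸ one_mem _
  · rw [Q6_apply] at h
    obtain ⟨k, rfl⟩ := (pvec_iff v).1 h
    exact ⟨⟨pT (2 * k), pT_mem (by omega)⟩, by rw [rho_pT (by omega), show 2 * (k : ℕ) / 2 = k by omega]⟩

theorem card_O6 : Nat.card (CfsgLib.Orth.O Q6) = 51840 := by
  have h := CfsgLib.ClassicalGroups.card_isometry_minus CfsgLib.ThreeTrans.MinusSix.aniso 2
  rw [← CfsgLib.Orth.minusQ_coe] at h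
  rw [show Nat.card (CfsgLib.Orth.O Q6) = _ from h, ZMod.card]
  decide

theorem card_Opair : Nat.card Opair = 64 := by
  show Nat.card psiHom.range = 64
  rw [← Nat.card_congr (MonoidHom.ofInjective (f := psiHom) fun u v h => Multiplicative.toAdd.injective
    (psi_injective h)).toEquiv, Nat.card_congr Multiplicative.toAdd, Nat.card_eq_fintype_card]
  decide

theorem card_OpairSub : Nat.card (Opair.subgroupOf Csab) = 64 := by
  rw [Nat.card_congr (Subgroup.subgroupOfEquivOfLe Opair_le_Csab).toEquiv, card_Opair]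

theorem Opair_le_ker : Opair.subgroupOf Csab ≤ rho.ker := fun g hg => by
  obtain ⟨u, hu⟩ := mem_Opair.1 (Subgroup.mem_subgroupOf.1 hg)
  refine ext_app fun x => psi_injective ?_
  rw [rho_spec, app_one, ← hu, ← psi_add, add_comm u x, psi_add, mul_inv_cancel_right]

theorem ker_rho : rho.ker = Opair.subgroupOf Csab := by
  refine (Subgroup.eq_of_le_of_card_ge Opair_le_ker ?_).symm
  have h := Subgroup.card_eq_card_quotient_mul_card_subgroup rho.ker
  rw [Nat.card_congr (QuotientGroup.quotientKerEquivOfSurjective rho rho_surjective).toEquiv, card_O6,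
    card_Csab] at h
  rw [card_OpairSub]
  omega

/-- The largest normal 2-subgroup. -/
theorem pCore_Csab : Cfsg.pCore 2 Csab = rho.ker := by
  haveI : Fact (Nat.Prime 2) := ⟨Nat.prime_two⟩
  refine le_antisymm ?_ (le_sSup ⟨inferInstance, IsPGroup.of_card (n := 6) (by rw [ker_rho, card_OpairSub]; norm_num)⟩)
  refine sSup_le ?_
  rintro N ⟨hn, hp⟩ x hx
  haveI := hn
  rw [MonoidHom.mem_ker]
  refine ext_app fun v => psi_injective ?_
  rw [rho_spec, app_one]
  suffices h : Opair ≤ Subgroup.centralizer ({(x : G)} : Set G) by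
    have := Subgroup.mem_centralizer_singleton_iff.1 (h (mem_Opair.2 ⟨v, rfl⟩))
    rw [← this, mul_inv_cancel_right]
  refine Opair_le fun k hk => Subgroup.mem_centralizer_singleton_iff.2 ?_
  have mv : ∀ {i : ℕ} (hi : i < 72), ∃ j, j < 72 ∧ j / 2 = i / 2 ∧ pT j = x * pT i * (x : G)⁻¹ := fun {i} hi => by
    obtain ⟨j, hj, e⟩ := conj_pT x.2 hi
    refine ⟨j, hj, twin_of_mem hp hj hi ?_, e⟩
    have : x * ((⟨pT i, pT_mem hi⟩ : Csab) * x⁻¹ * (⟨pT i, pT_mem hi⟩ : Csab)⁻¹) ∈ N :=
      mul_mem hx (hn.conj_mem _ (inv_mem hx) _)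
    convert this using 1
    refine Subtype.ext ?_
    show pT j * pT i = x * (pT i * (x : G)⁻¹ * (pT i)⁻¹)
    rw [e, inv_eq_of_mul_eq_one_right (CfsgLib.ThreeTrans.mul_self hset (pT_mem_D i))]
    group
  obtain ⟨i, hi, hi2, ei⟩ := mv (show 2 * k < 72 by omega)
  obtain ⟨j, hj, hj2, ej⟩ := mv (show 2 * k + 1 < 72 by omega)
  have hne : i ≠ j := fun e => by
    subst e
    have := pT_inj (by omega) (by omega) (mul_left_cancel (mul_right_cancel (ei.symm.trans ej)))
    omega
  have hz := zT_comm hi hj hne (by omega)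
  rw [ei, ej, show i / 2 = k by omega] at hz
  have e2 : (x : G) * zT k * (x : G)⁻¹ = zT k := by
    rw [← hz]
    conv_lhs => rw [hz, zT]
    group
  exact (mul_inv_eq_iff_eq_mul.1 e2).symm

/-- The shape of the fixed group. -/
theorem Pair_structure : ∃ O : Subgroup G, O = (Cfsg.pCore 2 Csab).map Csab.subtype ∧
    Cfsg.IsElementaryAbelian 2 O ∧ Nat.card O = 64 ∧ ∃ _ : (O.subgroupOf Csab).Normal,
      Nonempty (Csab ⧸ O.subgroupOf Csab ≃* Cfsg.isometryGroup (ZMod 2) (Cfsg.quadFormMinus 2 (ZMod 2) 1 1)) := by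
  refine ⟨Opair, ?_, ⟨⟨⟨fun a b => ?_⟩⟩, fun a ha => ?_⟩, card_Opair, ?_⟩
  · rw [pCore_Csab, ker_rho, Subgroup.map_subgroupOf_eq_of_le Opair_le_Csab]
  · obtain ⟨u, hu⟩ := mem_Opair.1 a.2
    obtain ⟨v, hv⟩ := mem_Opair.1 b.2
    refine Subtype.ext ?_
    show (a : G) * b = b * a
    rw [← hu, ← hv, ← psi_add, ← psi_add, add_comm]
  · obtain ⟨u, rfl⟩ := mem_Opair.1 ha
    rw [pow_two, ← psi_add, neg_eq, psi_zero]
  · haveI hn : (Opair.subgroupOf Csab).Normal := ker_rho ▸ inferInstance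
    refine ⟨hn, ?_⟩
    rw [← CfsgLib.Orth.minusQ_coe]
    exact ⟨(QuotientGroup.quotientMulEquivOfEq ker_rho.symm).trans
      (QuotientGroup.quotientKerEquivOfSurjective rho rho_surjective)⟩

end CfsgLib.Presented.Fi22Outer
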