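import Cfsg.Agent.Lib.Presented.Fi22Outer.Classes
import Cfsg.Agent.Lib.Presented.Fi22Outer.PairQuot

/-! The outer involutions of the presented Fischer group on 22 letters and their centralizers. -/
set_option autoImplicit false
set_option maxRecDepth 100000
set_option synthInstance.maxSize 512

namespace CfsgLib.Presented.Fi22Outer

open CfsgLib.ThreeTrans.Inst.FiTwentyTwo (P)
open Fi22UCosets (ev)
open Fi22Pts (G)

theorem orderOf_sAut : orderOf sAut = 2 := by
  refine orderOf_eq_prime (by rw [pow_two, sAut_mul_self]) fun e => sAut_outer ?_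
  exact ⟨1, by rw [map_one, e]⟩

theorem tgt_zero : tgt 0 = 1 := rfl

theorem tgt_one : tgt 1 = aG := by
  show evW ev [3] = aG
  rw [evW_cons, evW_nil, mul_one, aG_eq]

theorem tgt_two : tgt 2 = aG * bG := by
  show evW ev [3, 8] = aG * bG
  rw [evW_cons, evW_cons, evW_nil, mul_one, aG_eq]
  rfl

/-- Conjugate automorphisms have equally many fixed elements. -/
theorem card_fix_eq {f g : MulAut G} (h : IsConj f g) {H K : Subgroup G} (hH : ∀ x, x ∈ H ↔ f x = x)
    (hK : ∀ x, x ∈ K ↔ g x = x) : Nat.card H = Nat.card K := by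
  obtain ⟨c, rfl⟩ := isConj_iff.1 h
  refine Nat.card_congr (c.toEquiv.subtypeEquiv fun x => ?_)
  rw [hH, hK]
  simp

/-- The statement for the presented group. -/
theorem model : ∃ (s : MulAut G) (a b : G) (C : Subgroup G), orderOf s = 2 ∧
    s ∉ (MulAut.conj : G →* MulAut G).range ∧ (∀ g : G, g ∈ C ↔ s g = g) ∧ Nonempty (C ≃* MulAut Om8) ∧
    a ∈ P.D ∧ b ∈ P.D ∧ a ≠ b ∧ Commute a b ∧ s a = a ∧ s b = b ∧
    (∀ t : MulAut G, orderOf t = 2 → t ∉ (MulAut.conj : G →* MulAut G).range →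
      (IsConj t s ∨ IsConj t (s * MulAut.conj a) ∨ IsConj t (s * MulAut.conj (a * b)))) ∧
    ¬ IsConj s (s * MulAut.conj a) ∧ ¬ IsConj s (s * MulAut.conj (a * b)) ∧
    ¬ IsConj (s * MulAut.conj a) (s * MulAut.conj (a * b)) ∧
    (∀ g : G, (s * MulAut.conj a) g = g ↔ g ∈ C ⊓ Subgroup.centralizer ({a} : Set G)) ∧
    Nonempty ((C ⊓ Subgroup.centralizer ({a} : Set G) : Subgroup G) ≃*
      Multiplicative (ZMod 2) × Cfsg.PSp 3 (ZMod 2)) ∧
    ∃ Cab O : Subgroup G, (∀ g : G, g ∈ Cab ↔ (s * MulAut.conj (a * b)) g = g) ∧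
      O = (Cfsg.pCore 2 Cab).map Cab.subtype ∧ Cfsg.IsElementaryAbelian 2 O ∧ Nat.card O = 64 ∧
      ∃ _ : (O.subgroupOf Cab).Normal, Nonempty (Cab ⧸ O.subgroupOf Cab ≃*
        Cfsg.isometryGroup (ZMod 2) (Cfsg.quadFormMinus 2 (ZMod 2) 1 1)) := by
  refine ⟨sAut, aG, bG, Cs, orderOf_sAut, sAut_outer, fun _ => mem_Cs, Cs_equiv, aG_mem.1, bG_mem.1, bG_ne.symm,
    ab_commute, sAut_aG, sAut_bG, fun t ht hout => ?_, fun h => ?_, fun h => ?_, fun h => ?_,
    fun g => mem_Cent_iff.symm, Cent_equiv, Csab, ?_⟩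
  · obtain ⟨c, hc, h⟩ := three_classes sAut_outer ht hout
    interval_cases c
    · rw [tgt_zero, map_one, mul_one] at h
      exact Or.inl h
    · rw [tgt_one] at h
      exact Or.inr (Or.inl h)
    · rw [tgt_two] at h
      exact Or.inr (Or.inr h)
  · have := card_fix_eq h (fun _ => mem_Cs) (fun _ => mem_Cent_iff)
    rw [card_Cs, card_Cent] at this
    exact absurd this (by norm_num)
  · have := card_fix_eq h (fun _ => mem_Cs) (fun _ => mem_Csab)
    rw [card_Cs, card_Csab] at this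
    exact absurd this (by norm_num)
  · have := card_fix_eq h (fun _ => mem_Cent_iff) (fun _ => mem_Csab)
    rw [card_Cent, card_Csab] at this
    exact absurd this (by norm_num)
  · obtain ⟨O, hO⟩ := Pair_structure
    exact ⟨O, fun g => mem_Csab, hO⟩

end CfsgLib.Presented.Fi22Outer
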