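import Cfsg.Agent.Lib.Presented.Fi22Outer.Kgroup
import Cfsg.Agent.Lib.Presented.Fi22Outer.PairData
import Cfsg.Agent.Lib.ThreeTrans.MinusSix

/-! The symmetry times a commuting pair: the 72 fixed members and their twins, kernel-checked facts. -/
set_option autoImplicit false
set_option maxRecDepth 100000
set_option synthInstance.maxSize 512

namespace CfsgLib.Presented.Fi22Outer

open CfsgLib.ThreeTrans (braid mul_self)
open CfsgLib.ThreeTrans.Inst.FiTwentyTwo (P)
open Fi22UCosets (ev)
open Fi22UCert (rep)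
open Fi22Pts (G T img ok pt allLt allLt_spec bit bit_eq adj adj_spec maskOf gpts gpts_lt tw pt_val)

/-! ### Orbits along trees -/

/-- a tree of related numbers reaching all of a list -/
def treeR (nc : ℕ → ℕ → Bool) (n : ℕ) (all : List ℕ) : List ℕ → List (ℕ × ℕ) → Bool
  | seen, [] => all.all fun i => seen.any fun j => Nat.beq i j
  | seen, (c, p) :: r => Nat.blt c n && Nat.blt p n && seen.any (fun j => Nat.beq p j) && nc p c &&
      treeR nc n all (c :: seen) r

theorem treeR_spec {nc : ℕ → ℕ → Bool} {n : ℕ} {all : List ℕ} {R : ℕ → Prop}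
    (step : ∀ p c, p < n → c < n → nc p c = true → R p → R c) :
    ∀ {l : List (ℕ × ℕ)} {seen : List ℕ}, treeR nc n all seen l = true → (∀ j ∈ seen, R j) → ∀ i ∈ all, R i
  | [], seen, h, hs, i, hi => by
    simp only [treeR, List.all_eq_true, List.any_eq_true] at h
    obtain ⟨j, hj, e⟩ := h i hi
    rw [Nat.eq_of_beq_eq_true e]
    exact hs j hj
  | (c, p) :: r, seen, h, hs, i, hi => by
    simp only [treeR, Bool.and_eq_true, Nat.blt_eq, List.any_eq_true] at h
    obtain ⟨⟨⟨⟨hc, hp⟩, ⟨j, hj, hje⟩⟩, hnc⟩, hr⟩ := h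
    refine treeR_spec step hr (fun j' hj' => ?_) i hi
    rcases List.mem_cons.1 hj' with rfl | hj'
    · exact step p _ hp hc hnc (by rw [Nat.eq_of_beq_eq_true hje]; exact hs j hj)
    · exact hs j' hj'

/-- One of two non-commuting members is conjugate to the other under their product. -/
theorem conj_braid {x y : G} (hx : x ∈ P.D) (hy : y ∈ P.D) (h : ¬ Commute x y) :
    x * y * x * (x * y)⁻¹ = y := by
  have i1 : x⁻¹ = x := inv_eq_of_mul_eq_one_right (mul_self hset hx)
  have i2 : y⁻¹ = y := inv_eq_of_mul_eq_one_right (mul_self hset hy)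
  rw [mul_inv_rev, i1, i2, ← mul_assoc, braid hset hx hy h, mul_assoc (y * x), mul_self hset hy, mul_one,
    mul_assoc y, mul_self hset hx, mul_one]

/-- related numbers give non-commuting members -/
theorem step_conj {H : Subgroup G} {x0 x y : G} (hx : x ∈ P.D) (hy : y ∈ P.D) (h : ¬ Commute x y)
    (hxH : x ∈ H) (hyH : y ∈ H) (hr : ∃ k ∈ H, k * x0 * k⁻¹ = x) : ∃ k ∈ H, k * x0 * k⁻¹ = y := by
  obtain ⟨k, hk, e⟩ := hr
  refine ⟨x * y * k, mul_mem (mul_mem hxH hyH) hk, ?_⟩
  rw [show x * y * k * x0 * (x * y * k)⁻¹ = x * y * (k * x0 * k⁻¹) * (x * y)⁻¹ by group, e,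
    conj_braid hx hy h]

/-! ### The points -/

/-- number of a point -/
def pN (i : ℕ) : ℕ := (pairPts.getD i (0, [])).1

/-- its word -/
def pW (i : ℕ) : List ℕ := (pairPts.getD i (0, [])).2

/-- its transposition -/
noncomputable def pT (i : ℕ) : G := T (pN i)

/-- second of the pair -/
noncomputable def bG : G := ev 8

/-- recognizes non-commuting points -/
noncomputable def pNC (p c : ℕ) : Bool := !Nat.beq (pN c) (pN p) && !bit (adj (pW p)) (pN c)

/-- the checks on the points -/
noncomputable def pairOK : Bool :=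
  allLt (fun i => ok (pW i) && Nat.beq (img (pW i) 0) (pN i) &&
    Nat.beq (Nat.land pairMask (Nat.lor (adj (pW i)) (maskOf [pN i]))) (pairCm.getD (Nat.div i 2) 0)) 72 &&
  allLt (fun p => Bool.xor (Nat.beq (sg (img [3, 8] p)) p) (!bit pairMask p)) 3510 &&
  Nat.beq (maskOf (pairPts.map Prod.fst)) pairMask && Nat.beq (pN 0) (fpN 0) &&
  treeR pNC 72 (List.range 72) [0] pairTree

theorem pair_ok : pairOK = true := by decide +kernel

theorem pair_len : pairPts.length = 72 ∧ pairCm.length = 36 := by decide +kernel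

theorem pair_nodup : (pairPts.map Prod.fst).Nodup ∧ pairCm.Nodup := by decide +kernel

theorem pN_inj {i j : ℕ} (hi : i < 72) (hj : j < 72) (e : pN i = pN j) : i = j := by
  have hi' : i < (pairPts.map Prod.fst).length := by rw [List.length_map, pair_len.1]; exact hi
  have hj' : j < (pairPts.map Prod.fst).length := by rw [List.length_map, pair_len.1]; exact hj
  refine (pair_nodup.1.getElem_inj_iff (hi := hi') (hj := hj')).1 ?_
  rw [List.getElem_map, List.getElem_map]
  rwa [pN, pN, List.getD_eq_getElem _ _ (by simpa using hi'), List.getD_eq_getElem _ _ (by simpa using hj')] at e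

theorem pcm_inj {k l : ℕ} (hk : k < 36) (hl : l < 36) (e : pairCm.getD k 0 = pairCm.getD l 0) : k = l := by
  have hk' : k < pairCm.length := by rw [pair_len.2]; exact hk
  have hl' : l < pairCm.length := by rw [pair_len.2]; exact hl
  refine (pair_nodup.2.getElem_inj_iff (hi := hk') (hj := hl')).1 ?_
  rwa [List.getD_eq_getElem _ _ hk', List.getD_eq_getElem _ _ hl'] at e

theorem pmask_mem {p : ℕ} : pairMask.testBit p = true ↔ ∃ i, i < 72 ∧ pN i = p := by
  have h := pair_ok
  simp only [pairOK, Bool.and_eq_true] at h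
  rw [← Nat.eq_of_beq_eq_true h.1.1.2, Fi22Pts.testBit_maskOf]
  constructor
  · intro hp
    obtain ⟨e, he, rfl⟩ := List.mem_map.1 hp
    obtain ⟨i, hi, rfl⟩ := List.getElem_of_mem he
    exact ⟨i, pair_len.1 ▸ hi, by rw [pN, List.getD_eq_getElem _ _ hi]⟩
  · rintro ⟨i, hi, rfl⟩
    refine List.mem_map_of_mem ?_
    rw [List.getD_eq_getElem _ _ (pair_len.1.symm ▸ hi)]
    exact List.getElem_mem _

theorem p_spec {i : ℕ} (hi : i < 72) : ok (pW i) = true ∧ img (pW i) 0 = pN i ∧ pN i < rep.N ∧
    pairMask.testBit (pN i) = true := by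
  have h := pair_ok
  simp only [pairOK, Bool.and_eq_true] at h
  have h1 := allLt_spec h.1.1.1.1 i hi
  simp only [Bool.and_eq_true] at h1
  have h2 := Nat.eq_of_beq_eq_true h1.1.2
  exact ⟨h1.1.1, h2, h2 ▸ Fi22Pts.img_lt h1.1.1 (VCert.pos Fi22UCert.cert_ok), pmask_mem.2 ⟨i, hi, rfl⟩⟩

theorem pair_fixed_iff {p : ℕ} (hp : p < rep.N) : sg (img [3, 8] p) = p ↔ pairMask.testBit p = true := by
  have h := pair_ok
  simp only [pairOK, Bool.and_eq_true] at h
  have h1 := allLt_spec h.1.1.1.2 p hp
  rw [bit_eq] at h1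
  cases hb : pairMask.testBit p
  · rw [hb] at h1
    simp only [Bool.not_false, Bool.xor_true, Bool.not_eq_true'] at h1
    exact ⟨fun e => absurd (show Nat.beq (sg (img [3, 8] p)) p = true by rw [e]; exact Nat.beq_refl p)
      (by rw [h1]; decide), fun e => Bool.noConfusion e⟩
  · rw [hb] at h1
    simp only [Bool.not_true, Bool.xor_false] at h1
    exact iff_of_true (Nat.eq_of_beq_eq_true h1) rfl

theorem pT_zero : pT 0 = fpT 0 := by
  have h := pair_ok
  simp only [pairOK, Bool.and_eq_true] at h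
  rw [pT, fpT, Nat.eq_of_beq_eq_true h.1.2]

/-- The mask of a pair lists the members commuting with it. -/
theorem pcm_spec {i r : ℕ} (hi : i < 72) (hr : r < 72) :
    (pairCm.getD (i / 2) 0).testBit (pN r) = true ↔ Commute (pT i) (pT r) := by
  have h := pair_ok
  simp only [pairOK, Bool.and_eq_true] at h
  have h1 := allLt_spec h.1.1.1.1 i hi
  simp only [Bool.and_eq_true] at h1
  have e : pairMask &&& (adj (pW i) ||| maskOf [pN i]) = pairCm.getD (i / 2) 0 :=
    Nat.eq_of_beq_eq_true h1.2
  obtain ⟨hw, himg, -, -⟩ := p_spec hi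
  obtain ⟨-, -, hlt, hb⟩ := p_spec hr
  rw [← e, Nat.testBit_and, hb, Bool.true_and, Nat.testBit_or, Bool.or_eq_true, Fi22Pts.testBit_maskOf,
    List.mem_singleton, adj_spec hw hlt, himg]
  constructor
  · rintro (⟨-, hc⟩ | e')
    · exact hc
    · rw [pT, pT, e']
  · intro hc
    by_cases e' : pN r = pN i
    · exact Or.inr e'
    · exact Or.inl ⟨e', hc⟩

/-- Twins are the members commuting with the same members. -/
theorem twin_iff {i j : ℕ} (hi : i < 72) (hj : j < 72) :
    i / 2 = j / 2 ↔ ∀ r, r < 72 → (Commute (pT i) (pT r) ↔ Commute (pT j) (pT r)) := by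
  constructor
  · intro e r hr
    rw [← pcm_spec hi hr, e, pcm_spec hj hr]
  · intro h
    refine pcm_inj (by omega) (by omega) (Nat.eq_of_testBit_eq fun p => ?_)
    have hsub : ∀ k, k < 72 → (pairCm.getD (k / 2) 0).testBit p = true → pairMask.testBit p = true := by
      intro k hk hp
      have h := pair_ok
      simp only [pairOK, Bool.and_eq_true] at h
      have h1 := allLt_spec h.1.1.1.1 k hk
      simp only [Bool.and_eq_true] at h1
      have e' : pairMask &&& (adj (pW k) ||| maskOf [pN k]) = pairCm.getD (k / 2) 0 := Nat.eq_of_beq_eq_true h1.2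
      rw [← e'] at hp
      rw [Nat.testBit_and, Bool.and_eq_true] at hp
      exact hp.1
    cases hm : pairMask.testBit p
    · have e1 : ∀ k, k < 72 → (pairCm.getD (k / 2) 0).testBit p = false := fun k hk => by
        cases hb : (pairCm.getD (k / 2) 0).testBit p
        · rfl
        · rw [hsub k hk hb] at hm
          exact Bool.noConfusion hm
      rw [e1 i hi, e1 j hj]
    · obtain ⟨r, hr, rfl⟩ := pmask_mem.1 hm
      rw [Bool.eq_iff_iff, pcm_spec hi hr, pcm_spec hj hr]
      exact h r hr

theorem pNC_spec {p c : ℕ} (hp : p < 72) (hc : c < 72) (h : pNC p c = true) : ¬ Commute (pT p) (pT c) := by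
  simp only [pNC, Bool.and_eq_true, Bool.not_eq_true', bit_eq] at h
  obtain ⟨hw, himg, -, -⟩ := p_spec hp
  obtain ⟨-, -, hlt, -⟩ := p_spec hc
  have hne : pN c ≠ pN p := fun e => by rw [e, Nat.beq_refl] at h; exact Bool.noConfusion h.1
  intro hcm
  rw [(adj_spec hw hlt).2 ⟨himg ▸ hne, himg ▸ hcm⟩] at h
  exact Bool.noConfusion h.2

/-! ### Neighbours of the first fixed point -/

/-- recognizes non-commuting neighbours -/
noncomputable def nNC (p c : ℕ) : Bool := !Nat.beq (fpN c) (fpN p) && !bit (adj (fpW p)) (fpN c)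

/-- the check -/
noncomputable def nearOK : Bool :=
  treeR nNC 64 ((List.range 64).tail) [secondIx] nearTree && Nat.beq (fpN secondIx) (gpts.getD 8 0) &&
    Nat.blt secondIx 64 && !Nat.beq secondIx 0 &&
    nearTree.all (fun e => !Nat.beq e.1 0 && !Nat.beq e.2 0)

theorem near_ok : nearOK = true := by decide +kernel

theorem second_spec : secondIx < 64 ∧ secondIx ≠ 0 ∧ fpT secondIx = bG := by
  have h := near_ok
  simp only [nearOK, Bool.and_eq_true, Nat.blt_eq, Bool.not_eq_true'] at h
  refine ⟨h.1.1.2, fun e => by rw [e] at h; exact Bool.noConfusion h.1.2, ?_⟩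
  rw [fpT, Nat.eq_of_beq_eq_true h.1.1.1.2, Fi22Pts.T_gpts 8 (by norm_num)]
  rfl

theorem nNC_spec {p c : ℕ} (hp : p < 360) (hc : c < 360) (h : nNC p c = true) : ¬ Commute (fpT p) (fpT c) := by
  simp only [nNC, Bool.and_eq_true, Bool.not_eq_true', bit_eq] at h
  have hne : fpN c ≠ fpN p := fun e => by rw [e, Nat.beq_refl] at h; exact Bool.noConfusion h.1
  intro hcm
  rw [(commute_iff hp hc hne).1 hcm] at h
  exact Bool.noConfusion h.2

/-! ### Coordinates -/

/-- positions of the coordinates -/
abbrev Six : Type := (Fin 2 ⊕ Fin 2) ⊕ Fin 2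

/-- number of a position -/
def sixN : Six → ℕ := Sum.elim (Sum.elim (fun i => i.1) fun i => 2 + i.1) fun i => 4 + i.1

/-- the positions -/
def sixL : List Six := [.inl (.inl 0), .inl (.inl 1), .inl (.inr 0), .inl (.inr 1), .inr 0, .inr 1]

/-- coordinates of a pair -/
def pvec (k : ℕ) : Six → ZMod 2 := fun i => if (pairVec.getD k 0).testBit (sixN i) then 1 else 0

/-- word of the product of a pair -/
def zW (k : ℕ) : List ℕ := tw (pW (2 * k)) ++ tw (pW (2 * k + 1))

/-- word of a coordinate involution -/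
def xW (i : Six) : List ℕ := (baseZ.getD (sixN i) []).flatMap zW

/-- word of a vector -/
def psiW (v : Six → ZMod 2) : List ℕ := sixL.flatMap fun i => if v i = 1 then xW i else []

theorem pvec_iff : ∀ v : Six → ZMod 2,
    Cfsg.quadFormMinus 2 (ZMod 2) 1 1 v = 1 ↔ ∃ k : Fin 36, pvec k = v := by decide +kernel

/-- words multiply as the group requires -/
noncomputable def xOK : Bool :=
  sixL.all (fun i => (baseZ.getD (sixN i) []).all (fun k => Nat.blt k 36) &&
    sameG (img (xW i ++ xW i)) id && sixL.all fun j => sameG (img (xW i ++ xW j)) (img (xW j ++ xW i))) &&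
  allLt (fun k => sameG (img (psiW (pvec k))) (img (zW k))) 36

theorem x_ok : xOK = true := by decide +kernel

theorem psiW_single : ∀ i : Six, psiW (Pi.single i 1) = xW i := by decide +kernel

theorem psiW_ne : ∀ v : Six → ZMod 2, v ≠ 0 → sameG (img (psiW v)) id = false := by decide +kernel

/-- the value of the polar form -/
def polB (u v : Six → ZMod 2) : Bool :=
  decide (Cfsg.quadFormMinus 2 (ZMod 2) 1 1 (u + v) - Cfsg.quadFormMinus 2 (ZMod 2) 1 1 u -
    Cfsg.quadFormMinus 2 (ZMod 2) 1 1 v = 1)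

/-- members act as reflections -/
noncomputable def reflOK : Bool :=
  allLt (fun i => sixL.all fun j =>
    sameG (img (tw (pW i) ++ xW j ++ tw (pW i)))
      (img (xW j ++ cond (polB (Pi.single j 1) (pvec (Nat.div i 2))) (zW (Nat.div i 2)) []))) 72

theorem refl_ok : reflOK = true := by decide +kernel

end CfsgLib.Presented.Fi22Outer
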