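import Cfsg.Agent.Lib.Presented.Fi22Outer.Cent
import Cfsg.Agent.Lib.Presented.Fi22Outer.PairCheck

/-!
The fixed points of the symmetry times a commuting pair of fixed transpositions: order and the twin pairs.
-/
set_option autoImplicit false
set_option maxRecDepth 100000
set_option synthInstance.maxSize 512

namespace CfsgLib.Presented.Fi22Outer

open CfsgLib.ThreeTrans.Inst.FiTwentyTwo (P)
open Fi22UCosets (ev)
open Fi22UCert (rep)
open Fi22Pts (G T img ok pt pt_val pt_self)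

theorem bG_mem : bG ∈ Fset := by
  obtain ⟨h, -, e⟩ := second_spec
  exact e ▸ fpT_mem (by omega)

theorem ab_commute : Commute aG bG := by
  obtain ⟨h, -, e⟩ := second_spec
  exact e ▸ near_mem h

theorem sAut_bG : sAut bG = bG := bG_mem.2

theorem bG_sq : bG * bG = 1 := CfsgLib.ThreeTrans.mul_self hset bG_mem.1

theorem bG_ne : bG ≠ aG := by
  obtain ⟨h, h0, e⟩ := second_spec
  exact fun e' => h0 (fpN_inj (by omega) (by norm_num) (fpT_inj (by omega) (by norm_num) (e.trans e')))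

/-- Fixed members give conjugate products: the fixed points lie in the fixed-point group. -/
theorem fix_twist {y : G} (hy : y ∈ Fset) {g : G} (h : sAut (y * g * y⁻¹) = g) : g ∈ Cs ∧ Commute y g := by
  obtain ⟨k, hk, e⟩ := exists_conj hy
  have hks : sAut k = k := mem_Cs.1 (Kg_le_Cs hk)
  have e' : k * aG * k⁻¹ = y := e
  have key : sA (k⁻¹ * g * k) = k⁻¹ * g * k := by
    rw [sA_apply, show aG * (k⁻¹ * g * k) * aG⁻¹ = k⁻¹ * (y * g * y⁻¹) * k by rw [← e']; group,
      map_mul, map_mul, map_inv, hks, h]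
  obtain ⟨h1, h2⟩ := sA_iff.1 key
  refine ⟨?_, ?_⟩
  · have := mul_mem (mul_mem (Kg_le_Cs hk) h1) (inv_mem (Kg_le_Cs hk))
    rwa [show k * (k⁻¹ * g * k) * k⁻¹ = g by group] at this
  · have := h2.map (MulAut.conj k).toMonoidHom
    simpa [mul_assoc, ← e'] using this

/-- the product -/
noncomputable def sAB : MulAut G := sAut * MulAut.conj (aG * bG)

theorem sAB_apply (g : G) : sAB g = sAut (aG * bG * g * (aG * bG)⁻¹) := rfl

theorem ab_im : Im (aG * bG) (img [3, 8]) := by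
  have h := Im.word (w := [3, 8]) (by decide)
  rw [evW_cons, evW_cons, evW_nil, mul_one, ← aG_eq] at h
  exact h

/-- its fixed points -/
noncomputable def Csab : Subgroup G := sAB.toMonoidHom.eqLocus (MonoidHom.id G)

theorem mem_Csab {g : G} : g ∈ Csab ↔ sAB g = g := Iff.rfl

theorem sAB_pT {i : ℕ} (hi : i < 72) : sAB (pT i) = pT i := by
  obtain ⟨-, -, hlt, hb⟩ := p_spec hi
  have hj := ab_im _ hlt
  show sAut (aG * bG * P.tp (pt (pN i)) * (aG * bG)⁻¹) = _
  rw [P.conj_tp, hj.2]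
  show sAut (T (img [3, 8] (pN i))) = _
  rw [sAut_T hj.1, (pair_fixed_iff hlt).2 hb, pT]

theorem pT_mem_D (i : ℕ) : pT i ∈ P.D := P.tp_mem _

theorem pT_mem {i : ℕ} (hi : i < 72) : pT i ∈ Csab := sAB_pT hi

theorem sAB_fixed {x : G} (hx : x ∈ P.D) (h : sAB x = x) : ∃ i, i < 72 ∧ pT i = x := by
  obtain ⟨j, rfl⟩ := P.tp_surj hx
  have e : P.tp j = T (j : ℕ) := by rw [T, pt_self]
  have hj := ab_im _ j.2
  rw [sAB_apply, e, T, P.conj_tp, hj.2] at h
  have h2 : sAut (T (img [3, 8] (j : ℕ))) = T (j : ℕ) := h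
  rw [sAut_T hj.1] at h2
  have h3 := T_injective (sg_spec hj.1).1 j.2 h2
  obtain ⟨i, hi, he⟩ := pmask_mem.1 ((pair_fixed_iff j.2).1 h3)
  exact ⟨i, hi, by rw [pT, he, e]⟩

theorem pT_inj {i j : ℕ} (hi : i < 72) (hj : j < 72) (e : pT i = pT j) : i = j :=
  pN_inj hi hj (T_injective (p_spec hi).2.2.1 (p_spec hj).2.2.1 e)

/-- The fixed group permutes the 72 members. -/
theorem conj_pT {g : G} (hg : g ∈ Csab) {i : ℕ} (hi : i < 72) : ∃ j, j < 72 ∧ pT j = g * pT i * g⁻¹ :=
  sAB_fixed (P.conj_mem g (pT_mem_D i)) (by rw [map_mul, map_mul, map_inv, mem_Csab.1 hg, sAB_pT hi])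

theorem stab_eq : Csab ⊓ Subgroup.centralizer ({aG} : Set G) = Cent ⊓ Subgroup.centralizer ({bG} : Set G) := by
  ext g
  rw [Subgroup.mem_inf, Subgroup.mem_inf, Subgroup.mem_centralizer_singleton_iff,
    Subgroup.mem_centralizer_singleton_iff, mem_Csab, mem_Cent, sAB_apply]
  constructor
  · rintro ⟨h, hc⟩
    have hc' : Commute aG g := hc.symm
    have hbt : sAut (bG * g * bG⁻¹) = g := by
      rwa [ab_commute.eq, mul_assoc bG aG g, hc'.eq, ← mul_assoc, mul_inv_rev, ← mul_assoc,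
        mul_assoc (bG * g) aG, mul_inv_cancel, mul_one] at h
    obtain ⟨h1, h2⟩ := fix_twist bG_mem hbt
    exact ⟨⟨h1, hc'⟩, h2.eq.symm⟩
  · rintro ⟨⟨h1, h2⟩, h3⟩
    refine ⟨?_, h2.eq.symm⟩
    have hb : Commute (aG * bG) g := h2.mul_left (Commute.symm h3)
    rw [hb.eq, mul_inv_cancel_right, mem_Cs.1 h1]

theorem exists_conj_E63 {x : G} (hx : x ∈ E63) : ∃ k ∈ Cent, k * bG * k⁻¹ = x := by
  obtain ⟨i, hi, h0, rfl⟩ := hx
  have h := near_ok
  simp only [nearOK, Bool.and_eq_true, List.all_eq_true, Bool.not_eq_true'] at h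
  have hmem : ∀ {j : ℕ}, j < 64 → j ≠ 0 → fpT j ∈ Cent := fun {j} hj hj0 => E63_mem_Cent ⟨j, hj, hj0, rfl⟩
  have := treeR_spec (R := fun j => j < 64 ∧ (j ≠ 0 → ∃ k ∈ Cent, k * bG * k⁻¹ = fpT j))
    (nc := nNC) (n := 64) (all := (List.range 64).tail)
    (fun p c hp hc hnc hr => ⟨hc, fun hc0 => by
      have hnc' := nNC_spec (show p < 360 by omega) (show c < 360 by omega) hnc
      have hp0 : p ≠ 0 := fun e => hnc' (e ▸ near_mem hc)
      exact step_conj (P.tp_mem _) (P.tp_mem _) hnc' (hmem hp hp0) (hmem hc hc0) (hr.2 hp0)⟩)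
    h.1.1.1.1 (fun j hj => by
      rw [List.mem_singleton] at hj
      subst hj
      exact ⟨second_spec.1, fun _ => ⟨1, one_mem _, by rw [second_spec.2.2]; group⟩⟩)
    i (by
      obtain ⟨n, rfl⟩ := Nat.exists_eq_succ_of_ne_zero h0
      rw [List.range_succ_eq_map, List.tail_cons]
      exact List.mem_map_of_mem (List.mem_range.2 (by omega)))
  exact this.2 h0

theorem card_stab : Nat.card (Cent ⊓ Subgroup.centralizer ({bG} : Set G) : Subgroup G) = 46080 := by
  classical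
  have hE : ∀ x : G, x ∈ E63 ↔ x ∈ (Finset.Ico 1 64).image fpT := by
    intro x
    simp only [E63, Set.mem_ofPred_eq, Finset.mem_image, Finset.mem_Ico]
    exact ⟨fun ⟨i, h1, h2, h3⟩ => ⟨i, ⟨by omega, h1⟩, h3⟩, fun ⟨i, ⟨h2, h1⟩, h3⟩ => ⟨i, h1, by omega, h3⟩⟩
  have hb : bG ∈ E63 := ⟨secondIx, second_spec.1, second_spec.2.1, second_spec.2.2⟩
  have h := card_orbit_mul (H := Cent) (x := bG) (S := (Finset.Ico 1 64).image fpT)
    (fun g hg => (hE _).1 (conj_E63 hg hb))
    (fun y hy => exists_conj_E63 ((hE _).2 hy))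
  rw [Finset.card_image_of_injOn ((fpT_injOn (n := 64) (by norm_num)).mono fun i hi => by
    simp only [Finset.coe_Ico, Set.mem_Ico, Finset.coe_range, Set.mem_Iio] at hi ⊢
    omega), Nat.card_Ico, card_Cent] at h
  omega

theorem exists_conj_pT {i : ℕ} (hi : i < 72) : ∃ k ∈ Csab, k * aG * k⁻¹ = pT i := by
  have h := pair_ok
  simp only [pairOK, Bool.and_eq_true] at h
  exact treeR_spec (R := fun j => ∃ k ∈ Csab, k * aG * k⁻¹ = pT j)
    (fun p c hp hc hnc hr => step_conj (pT_mem_D p) (pT_mem_D c) (pNC_spec hp hc hnc) (pT_mem hp) (pT_mem hc) hr)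
    h.2 (fun j hj => by
      rw [List.mem_singleton] at hj
      subst hj
      exact ⟨1, one_mem _, by rw [pT_zero]; show 1 * aG * 1⁻¹ = aG; group⟩) i (List.mem_range.2 hi)

theorem card_Csab : Nat.card Csab = 3317760 := by
  classical
  have h := card_orbit_mul (H := Csab) (x := aG) (S := (Finset.range 72).image pT)
    (fun g hg => by
      obtain ⟨j, hj, e⟩ := conj_pT hg (show 0 < 72 by norm_num)
      rw [pT_zero] at e
      exact Finset.mem_image.2 ⟨j, Finset.mem_range.2 hj, e⟩)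
    (fun y hy => by
      obtain ⟨i, hi, rfl⟩ := Finset.mem_image.1 hy
      exact exists_conj_pT (Finset.mem_range.1 hi))
  rw [Finset.card_image_of_injOn (fun i hi j hj e => pT_inj (Finset.mem_range.1 hi) (Finset.mem_range.1 hj) e),
    Finset.card_range, stab_eq, card_stab] at h
  omega

/-! ### Twins -/

/-- the product of a pair -/
noncomputable def zT (k : ℕ) : G := pT (2 * k) * pT (2 * k + 1)

theorem twin_commute {i j : ℕ} (hi : i < 72) (hj : j < 72) (h : i / 2 = j / 2) : Commute (pT i) (pT j) :=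
  ((twin_iff hi hj).1 h j hj).2 (Commute.refl _)

theorem zT_comm {i j : ℕ} (hi : i < 72) (hj : j < 72) (hne : i ≠ j) (h : i / 2 = j / 2) :
    pT i * pT j = zT (i / 2) := by
  rcases Nat.even_or_odd' i with ⟨c, rfl | rfl⟩
  · rw [show j = 2 * c + 1 by omega, show 2 * c / 2 = c by omega]; rfl
  · rw [show j = 2 * c by omega, show (2 * c + 1) / 2 = c by omega,
      (twin_commute (i := 2 * c + 1) (j := 2 * c) (by omega) (by omega) (by omega)).eq]
    rfl

theorem zT_mem {k : ℕ} (hk : k < 36) : zT k ∈ Csab := mul_mem (pT_mem (by omega)) (pT_mem (by omega))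

/-- The fixed group preserves twins. -/
theorem conj_twin {g : G} (hg : g ∈ Csab) {i j i' j' : ℕ} (hi : i < 72) (hj : j < 72) (hi' : i' < 72) (hj' : j' < 72)
    (ei : pT i' = g * pT i * g⁻¹) (ej : pT j' = g * pT j * g⁻¹) (h : i / 2 = j / 2) : i' / 2 = j' / 2 := by
  refine (twin_iff hi' hj').2 fun r hr => ?_
  obtain ⟨r', hr', er⟩ := conj_pT (inv_mem hg) hr
  have e : pT r = g * pT r' * g⁻¹ := by rw [er]; group
  rw [ei, ej, e, CfsgLib.ThreeTrans.commute_conj_iff, CfsgLib.ThreeTrans.commute_conj_iff]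
  exact (twin_iff hi hj).1 h r' hr'

theorem conj_zT {g : G} (hg : g ∈ Csab) {k : ℕ} (hk : k < 36) : ∃ l, l < 36 ∧ g * zT k * g⁻¹ = zT l := by
  obtain ⟨i, hi, ei⟩ := conj_pT hg (show 2 * k < 72 by omega)
  obtain ⟨j, hj, ej⟩ := conj_pT hg (show 2 * k + 1 < 72 by omega)
  have hne : i ≠ j := fun e => by
    have : pT (2 * k) = pT (2 * k + 1) := by
      subst e
      exact mul_left_cancel (mul_right_cancel (ei.symm.trans ej))
    have := pT_inj (by omega) (by omega) this
    omega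
  have h := conj_twin hg (show 2 * k < 72 by omega) (show 2 * k + 1 < 72 by omega) hi hj ei ej (by omega)
  refine ⟨i / 2, by omega, ?_⟩
  rw [← zT_comm hi hj hne h, ei, ej, zT]
  group

/-- Members whose product lies in a normal 2-subgroup are twins. -/
theorem twin_of_mem {N : Subgroup Csab} [N.Normal] (hN : IsPGroup 2 N) {i j : ℕ} (hi : i < 72) (hj : j < 72)
    (h : (⟨pT i * pT j, mul_mem (pT_mem hi) (pT_mem hj)⟩ : Csab) ∈ N) : i / 2 = j / 2 := by
  refine (twin_iff hi hj).2 fun r hr => ?_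
  -- no element of order three
  have hthree : ∀ x : Csab, x ∈ N → orderOf (x : G) ≠ 3 := fun x hx e => by
    obtain ⟨n, hn⟩ := hN ⟨x, hx⟩
    have h1 : (x : G) ^ 2 ^ n = 1 := congrArg (fun y : N => ((y : Csab) : G)) hn
    have h2 := orderOf_dvd_of_pow_eq_one h1
    rw [e] at h2
    exact absurd (Nat.prime_three.dvd_of_dvd_pow h2) (by norm_num)
  have key : ∀ {p q : ℕ} (hp : p < 72) (hq : q < 72),
      (⟨pT p * pT q, mul_mem (pT_mem hp) (pT_mem hq)⟩ : Csab) ∈ N → Commute (pT q) (pT r) →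
        Commute (pT p) (pT r) := by
    intro p q hp hq hpq hqr
    by_contra hpr
    set d : Csab := ⟨pT r, pT_mem hr⟩
    set x : Csab := ⟨pT p * pT q, mul_mem (pT_mem hp) (pT_mem hq)⟩
    have hx : x * (d * x * d⁻¹)⁻¹ ∈ N := mul_mem hpq (inv_mem (‹N.Normal›.conj_mem x hpq d))
    refine hthree _ hx ?_
    have hi1 : ∀ m, (pT m)⁻¹ = pT m := fun m => inv_eq_of_mul_eq_one_right (CfsgLib.ThreeTrans.mul_self hset (pT_mem_D m))
    show orderOf (pT p * pT q * (pT r * (pT p * pT q) * (pT r)⁻¹)⁻¹) = 3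
    rw [mul_inv_rev, mul_inv_rev, mul_inv_rev, inv_inv, hi1, hi1, hi1,
      show pT p * pT q * (pT r * (pT q * pT p * pT r)) = pT p * (pT q * pT r * pT q) * pT p * pT r by group,
      hqr.eq, mul_assoc (pT r) (pT q) (pT q), CfsgLib.ThreeTrans.mul_self hset (pT_mem_D q), mul_one]
    have hpp : pT p * pT r * pT p * pT r = (pT p * pT r) ^ 2 := by rw [pow_two]; group
    rw [hpp, orderOf_pow, CfsgLib.ThreeTrans.orderOf_mul_of_not_commute hset (pT_mem_D p) (pT_mem_D r) hpr]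
    rfl
  have hji : (⟨pT j * pT i, mul_mem (pT_mem hj) (pT_mem hi)⟩ : Csab) ∈ N := by
    convert inv_mem h using 1
    refine Subtype.ext ?_
    show _ = (pT i * pT j)⁻¹
    rw [mul_inv_rev, inv_eq_of_mul_eq_one_right (CfsgLib.ThreeTrans.mul_self hset (pT_mem_D i)),
      inv_eq_of_mul_eq_one_right (CfsgLib.ThreeTrans.mul_self hset (pT_mem_D j))]
  exact ⟨fun hc => key hj hi hji hc, fun hc => key hi hj h hc⟩

end CfsgLib.Presented.Fi22Outer
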