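import Cfsg.Agent.Lib.Presented.Fi22Outer.Eval

/-! The automorphism of the presented Fischer group on 22 letters given by the diagram symmetry. -/
set_option autoImplicit false
set_option maxRecDepth 100000

namespace CfsgLib.Presented.Fi22Outer

open CfsgLib.ThreeTrans.Inst.FiTwentyTwo (P a o evW_cat evW_eq_one)
open Fi22UCosets (ev phi phi_ev rep_valid)
open Fi22UCert (rep alphabet relWords)
open Fi22Pts (G T img ok pt lookup allLt allLt_spec gpts gwords tables stepT pt_val pt_self pt_zero phi_pt)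

/-- the symmetry on the letters -/
def swL (x : ℕ) : ℕ := [6, 5, 4, 3, 2, 1, 0, 7, 8].getD x x

/-- images of the generators -/
noncomputable def sGen (g : Cfsg.Spor.Fi22.Gen) : G := ev (swL (Fi22UCosets.idxOf g))

theorem eps_eq : alphabet.eps = 9 := by decide +kernel

theorem L_eps : Fi22UCosets.letters.A.eps = 9 := eps_eq

theorem idx_gen {x : ℕ} (hx : x < 9) :
    Fi22UCosets.idxOf (Fi22UCosets.genOf x).1 = x ∧ (Fi22UCosets.genOf x).2 = true := by
  interval_cases x <;> exact ⟨rfl, rfl⟩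

theorem swL_lt {x : ℕ} (hx : x < 9) : swL x < 9 := by interval_cases x <;> decide

theorem swL_swL {x : ℕ} (hx : x < 9) : swL (swL x) = x := by interval_cases x <;> decide

theorem lev_eq {x : ℕ} (hx : x < 9) : Fi22UCosets.letters.ev sGen x = ev (swL x) := by
  obtain ⟨h1, h2⟩ := idx_gen hx
  show (if x < Fi22UCosets.letters.A.eps then
    cond (Fi22UCosets.genOf x).2 (sGen (Fi22UCosets.genOf x).1) (sGen (Fi22UCosets.genOf x).1)⁻¹ else 1) = _
  rw [L_eps, if_pos hx, h2, cond_true, sGen, h1]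

theorem idx_lt (g : Cfsg.Spor.Fi22.Gen) : Fi22UCosets.idxOf g < 9 := by cases g <;> decide

theorem sGen_sq : ∀ g ∈ Fi22UCosets.letters.nodes, sGen g * sGen g = 1 := fun g _ =>
  Fi22Pts.letters_sq _ (swL_lt (idx_lt g))

theorem swapped_words : (relWords.all fun w => (w.all fun x => Nat.blt x 9) && rep.relsOK [w.map swL]) = true := by
  decide +kernel

theorem rels_swapped {w : List ℕ} (hw : w ∈ relWords) : evW (Fi22UCosets.letters.ev sGen) w = 1 := by
  have h := List.all_eq_true.1 swapped_words w hw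
  simp only [Bool.and_eq_true, List.all_eq_true, Nat.blt_eq] at h
  have e : evW (Fi22UCosets.letters.ev sGen) w = evW ev (w.map swL) := by
    unfold evW
    rw [List.map_map]
    exact congrArg List.prod (List.map_congr_left fun x hx => lev_eq (h.1 x hx))
  rw [e]
  exact evW_eq_one h.2

theorem sGen_kills : ∀ r ∈ Cfsg.Spor.coxRelators Cfsg.Spor.Fi22.edges ∪ {r | r ∈ Cfsg.Spor.Fi22.extra},
    FreeGroup.lift sGen r = 1 :=
  Letters.kills Fi22UCosets.letters_valid Fi22UCosets.nodes_valid Fi22UCosets.full sGen_sq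
    (fun w hw => rels_swapped (Fi22UCosets.relWords_eq ▸ List.mem_append_left _ hw))
    (fun w hw => rels_swapped (Fi22UCosets.relWords_eq ▸ List.mem_append_right _ hw))

/-- the endomorphism -/
noncomputable def sHom : G →* G := PresentedGroup.toGroup sGen_kills

theorem sHom_ev {x : ℕ} (hx : x < 9) : sHom (ev x) = ev (swL x) := by
  obtain ⟨h1, h2⟩ := idx_gen hx
  have e : ev x = PresentedGroup.of (Fi22UCosets.genOf x).1 := by
    simp only [Fi22UCosets.ev, Letters.ev, L_eps, if_pos hx]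
    show cond (Fi22UCosets.genOf x).2 (PresentedGroup.of (Fi22UCosets.genOf x).1 : G)
      (PresentedGroup.of (Fi22UCosets.genOf x).1 : G)⁻¹ = _
    rw [h2, cond_true]
  have e2 : sHom (PresentedGroup.of (Fi22UCosets.genOf x).1) = sGen (Fi22UCosets.genOf x).1 :=
    PresentedGroup.toGroup.of sGen_kills
  rw [e, e2, sGen, h1]

theorem sHom_sHom (g : G) : sHom (sHom g) = g := by
  have h : sHom.comp sHom = MonoidHom.id G := by
    refine MonoidHom.eq_of_eqOn_dense Fi22UCosets.gen_top ?_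
    rintro _ ⟨x, hx, rfl⟩
    have hx' : x < 9 := eps_eq ▸ hx
    show sHom (sHom (ev x)) = ev x
    rw [sHom_ev hx', sHom_ev (swL_lt hx'), swL_swL hx']
  exact DFunLike.congr_fun h g

/-- the automorphism -/
noncomputable def sAut : MulAut G where
  toFun := sHom
  invFun := sHom
  left_inv := sHom_sHom
  right_inv := sHom_sHom
  map_mul' := map_mul sHom

theorem sAut_apply (g : G) : sAut g = sHom g := rfl

theorem sAut_sAut (g : G) : sAut (sAut g) = g := sHom_sHom g

theorem sAut_word {w : List ℕ} (h : ok w = true) : sAut (evW ev w) = evW ev (w.map swL) := by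
  rw [sAut_apply]
  unfold evW
  rw [map_list_prod, List.map_map, List.map_map]
  exact congrArg List.prod (List.map_congr_left fun x hx => sHom_ev (eps_eq ▸ Fi22Pts.lt_of_ok h x hx))

/-! ### The permutation of the points -/

/-- the symmetry on the points -/
noncomputable def sg (p : ℕ) : ℕ := lookup sigT p

theorem sig_ok : (allLt (fun p => Nat.blt (sg p) 3510 && Nat.beq (sg (sg p)) p) 3510 &&
    (List.range 9).all (fun x => allLt (fun p => Nat.beq (sg (stepT x p)) (stepT (swL x) (sg p))) 3510) &&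
    Nat.beq (sg 0) (gpts.getD (swL 0) 0)) = true := by decide +kernel

theorem sg_spec {p : ℕ} (hp : p < rep.N) : sg p < rep.N ∧ sg (sg p) = p := by
  have h := sig_ok
  simp only [Bool.and_eq_true] at h
  have h1 := allLt_spec h.1.1 p hp
  simp only [Bool.and_eq_true, Nat.blt_eq] at h1
  exact ⟨h1.1, Nat.eq_of_beq_eq_true h1.2⟩

/-- the permutation -/
noncomputable def σP : Equiv.Perm (Fin rep.N) :=
  Function.Involutive.toPerm (fun i => pt (sg (i : ℕ))) fun i => by
    obtain ⟨h1, h2⟩ := sg_spec i.2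
    show pt (sg (pt (sg (i : ℕ)) : ℕ)) = i
    rw [pt_val h1, h2, pt_self]

theorem σP_pt {p : ℕ} (hp : p < rep.N) : σP (pt p) = pt (sg p) := by
  show pt (sg (pt p : ℕ)) = _
  rw [pt_val hp]

theorem σP_inv : σP * σP = 1 := by
  refine Equiv.ext fun i => ?_
  show σP (σP i) = i
  obtain ⟨h1, h2⟩ := sg_spec i.2
  show pt (sg (pt (sg (i : ℕ)) : ℕ)) = i
  rw [pt_val h1, h2, pt_self]

theorem phi_sHom (g : G) : P.φ (sHom g) = σP * P.φ g * σP := by
  have h : P.φ.comp sHom = (MulAut.conj σP).toMonoidHom.comp P.φ := by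
    refine MonoidHom.eq_of_eqOn_dense Fi22UCosets.gen_top ?_
    rintro _ ⟨x, hx, rfl⟩
    have hx' : x < 9 := eps_eq ▸ hx
    show P.φ (sHom (ev x)) = σP * P.φ (ev x) * σP⁻¹
    have inv : σP⁻¹ = σP := inv_eq_of_mul_eq_one_right σP_inv
    rw [sHom_ev hx', inv]
    refine Equiv.ext fun i => ?_
    have okx : ∀ y, y < 9 → ok [y] = true := fun y hy => by simp [ok, Fi22Pts.ok, Nat.blt_eq, hy]
    have st : ∀ y, y < 9 → ∀ p, p < rep.N → P.φ (ev y) (pt p) = pt (stepT y p) ∧ stepT y p < rep.N := by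
      intro y hy p hp
      have h1 := phi_pt (okx y hy) hp
      have h2 := Fi22Pts.img_lt (okx y hy) hp
      have e1 : img [y] p = stepT y p := by
        show Vec.force p (fun q => stepT y q) = _
        rw [Vec.force_eq]
      rw [evW_cons, evW_nil, mul_one, e1] at h1
      exact ⟨h1, e1 ▸ h2⟩
    rw [← pt_self i]
    obtain ⟨h1, h2⟩ := sg_spec i.2
    obtain ⟨h3, h4⟩ := st x hx' _ h1
    rw [Equiv.Perm.mul_apply, Equiv.Perm.mul_apply, σP_pt i.2, h3, σP_pt h4, (st _ (swL_lt hx') _ i.2).1]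
    have hs := sig_ok
    simp only [Bool.and_eq_true, List.all_eq_true, List.mem_range] at hs
    have h5 := Nat.eq_of_beq_eq_true (allLt_spec (hs.1.2 x hx') _ h1)
    rw [h2] at h5
    rw [h5]
  have := DFunLike.congr_fun h g
  rw [show (MulAut.conj σP).toMonoidHom.comp P.φ g = σP * P.φ g * σP⁻¹ from rfl,
    inv_eq_of_mul_eq_one_right σP_inv] at this
  exact this

theorem Im.sAut {g : G} {f : ℕ → ℕ} (h : Im g f) : Im (sAut g) (fun p => sg (f (sg p))) := fun p hp => by
  obtain ⟨h1, -⟩ := sg_spec hp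
  obtain ⟨h2, h3⟩ := h _ h1
  refine ⟨(sg_spec h2).1, ?_⟩
  rw [sAut_apply, phi_sHom, Equiv.Perm.mul_apply, Equiv.Perm.mul_apply, σP_pt hp, h3, σP_pt h2]

theorem sAut_T {p : ℕ} (hp : p < rep.N) : sAut (T p) = T (sg p) := by
  obtain ⟨g, hg⟩ := P.trans (pt p)
  have e : T p = g * a * g⁻¹ := by rw [T, ← hg]; exact P.tp_phi g
  have ha : sAut a = T (sg 0) := by
    have h := sig_ok
    simp only [Bool.and_eq_true] at h
    rw [Nat.eq_of_beq_eq_true h.2, Fi22Pts.T_gpts _ (swL_lt (by norm_num))]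
    show sHom (evW ev [0]) = _
    rw [evW_cons, evW_nil, mul_one, sHom_ev (by norm_num)]
  have h0 : (0 : ℕ) < rep.N := VCert.pos Fi22UCert.cert_ok
  rw [e, map_mul, map_mul, map_inv, ha, T, P.conj_tp]
  show P.tp _ = P.tp _
  rw [← σP_pt h0, ← σP_pt hp, pt_zero, ← hg, sAut_apply, phi_sHom, Equiv.Perm.mul_apply, Equiv.Perm.mul_apply,
    ← Equiv.Perm.mul_apply σP σP, σP_inv, Equiv.Perm.one_apply]
  rfl

end CfsgLib.Presented.Fi22Outer
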