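import Mathlib.Init

/-! Generated data: relations, orbit words and twisted classes in the Sylow 2-subgroup. -/
set_option autoImplicit false
set_option maxRecDepth 100000

namespace CfsgLib.Presented.Fi22Outer

/-- squares -/
def sqW : List (List Nat) := [[8, 9, 13, 14], [6], [7, 8, 9, 11, 13, 16], [], [9, 13, 14], [], [], [], [16], [], [16], [], [], [], [], [], []]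

/-- images under the symmetry -/
def sW : List (List Nat) := [[0, 4, 5, 7, 9, 12, 13, 15], [1, 6, 7, 8, 9, 11, 13], [2, 6, 7, 8, 9, 11, 14, 15, 16], [3], [4, 7, 9, 12, 13, 15, 16], [5, 7, 9, 12, 13, 15, 16], [6, 10, 11, 12, 13, 14, 15], [7], [8, 10, 11, 12, 13, 14, 15], [9, 15], [10, 13, 14, 16], [11, 13, 14, 16], [12], [13, 15], [14, 15], [15], [16]]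

/-- conjugates -/
def cjW : List (List (List Nat)) := [
  [[0], [0, 4, 8, 15, 16], [0, 5, 8, 13, 15], [0, 5, 11, 12], [0, 9, 10, 13, 14, 15, 16], [0, 11, 12], [0, 8, 15, 16], [0, 9, 14, 15], [0, 15], [0, 14, 15], [0, 12, 14, 15], [0, 12], [0], [0, 14, 16], [0, 16], [0], [0]],
  [[1, 4, 8, 9, 12, 13, 15, 16], [1], [1, 6, 7, 8, 9, 11, 13], [1, 7, 12, 13, 14, 15], [1, 8, 9, 10, 12, 13, 15, 16], [1, 7, 11, 13, 14, 15], [1], [1, 11, 13, 14, 15], [1, 10, 16], [1, 12, 14, 16], [1], [1, 13, 16], [1], [1, 16], [1, 15, 16], [1, 16], [1]],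
  [[2, 5, 8, 12, 13, 15], [2, 6, 7, 8, 9, 11, 14, 15, 16], [2], [2, 7, 12], [2, 7, 8, 11, 12, 13, 15, 16], [2, 9, 11, 12, 14, 15], [2, 10, 11, 12, 13, 14, 15], [2, 11, 16], [2, 11, 12, 15, 16], [2, 12, 14, 15], [2, 13, 14, 16], [2, 14, 15, 16], [2, 16], [2, 15, 16], [2, 16], [2, 16], [2]],
  [[3, 5, 11, 12], [3, 7, 12, 13, 14, 15], [3, 7, 12], [3], [3, 7, 12, 13, 14, 15], [3], [3, 11, 13, 14, 16], [3], [3, 11], [3], [3, 13, 14], [3], [3], [3], [3], [3], [3]],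
  [[4, 9, 10, 13, 14, 15], [4, 8, 9, 10, 12, 13, 15], [4, 7, 8, 11, 12, 13, 14], [4, 7, 12, 13, 14, 15], [4], [4, 9, 13, 14, 15], [4, 10, 12, 14], [4, 15], [4, 12, 14, 16], [4, 15], [4, 15, 16], [4, 14, 15], [4], [4, 15], [4], [4], [4]],
  [[5, 11, 12], [5, 7, 11, 13, 14, 15], [5, 9, 11, 12, 14, 15], [5], [5, 9, 13, 14, 15], [5], [5, 11, 14], [5], [5, 12], [5], [5, 14, 16], [5], [5], [5], [5], [5], [5]],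
  [[6, 8, 15], [6], [6, 10, 11, 12, 13, 14, 15], [6, 11, 13, 14, 16], [6, 10, 12, 14, 16], [6, 11, 14], [6], [6, 13, 15], [6, 16], [6, 15, 16], [6], [6, 16], [6], [6], [6, 16], [6], [6]],
  [[7, 9, 14, 15], [7, 11, 13, 14, 15], [7, 11, 16], [7], [7, 15], [7], [7, 13, 15], [7], [7, 14, 15, 16], [7], [7, 15], [7], [7], [7], [7], [7], [7]],
  [[8, 15], [8, 10], [8, 11, 12, 15, 16], [8, 11], [8, 12, 14, 16], [8, 12], [8, 16], [8, 14, 15, 16], [8], [8, 16], [8, 16], [8], [8], [8, 16], [8], [8], [8]],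
  [[9, 14, 15], [9, 12, 14, 16], [9, 12, 14, 15], [9], [9, 15], [9], [9, 15, 16], [9], [9, 16], [9], [9], [9], [9], [9], [9], [9], [9]],
  [[10, 12, 14, 15], [10], [10, 13, 14, 16], [10, 13, 14], [10, 15, 16], [10, 14, 16], [10], [10, 15], [10, 16], [10], [10], [10, 16], [10], [10], [10], [10], [10]],
  [[11, 12], [11, 13, 16], [11, 14, 15, 16], [11], [11, 14, 15], [11], [11, 16], [11], [11], [11], [11, 16], [11], [11], [11], [11], [11], [11]],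
  [[12], [12], [12, 16], [12], [12], [12], [12], [12], [12], [12], [12], [12], [12], [12], [12], [12], [12]],
  [[13, 14, 16], [13, 16], [13, 15, 16], [13], [13, 15], [13], [13], [13], [13, 16], [13], [13], [13], [13], [13], [13], [13], [13]],
  [[14, 16], [14, 15, 16], [14, 16], [14], [14], [14], [14, 16], [14], [14], [14], [14], [14], [14], [14], [14], [14], [14]],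
  [[15], [15, 16], [15, 16], [15], [15], [15], [15], [15], [15], [15], [15], [15], [15], [15], [15], [15], [15]],
  [[16], [16], [16], [16], [16], [16], [16], [16], [16], [16], [16], [16], [16], [16], [16], [16], [16]]]

/-- orbits of the nine points -/
def lbData : List (Nat × List (List Nat)) := [
  (0, [[], [6, 9], [7], [5, 8, 9, 13, 14], [1, 2], [6], [1, 2, 5, 9, 11, 12, 14, 15], [2, 5, 7, 9, 12, 14, 15, 16], [1, 5, 14, 15, 16], [2, 5, 6, 9, 10, 11, 13], [2, 5, 9, 11, 12, 14, 15], [1, 5, 7, 8, 10, 11, 12, 13, 14, 15], [1, 5, 6, 7, 13, 15], [8, 9, 13, 14], [5], [5, 9, 13], [7, 9], [4, 5], [1, 5, 11, 13, 16], [0, 7, 8, 11, 12, 13, 14, 15, 16], [7, 10, 15], [5, 12], [5, 13], [6, 7, 13, 15], [9], [1,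 2, 5, 7, 9, 11, 12, 13, 14, 16], [5, 7, 8, 9, 11, 12, 13, 16], [0, 3, 5, 6, 7, 8, 9, 12, 16], [0, 5, 7, 11, 14, 16], [0, 1, 4, 5, 8, 9, 13, 15, 16], [1, 3, 7, 12, 13, 14, 15], [0, 2, 5, 8, 9, 13, 15, 16], [0, 1, 4, 7, 8, 12, 13, 15], [0, 1, 2, 4, 5, 6, 9, 10, 12, 13, 14, 15], [0, 3, 4, 5, 7, 9, 10, 11, 13, 16], [0, 9], [0, 7, 9, 14, 15], [0, 6, 7, 8, 9, 13, 14], [1, 12], [1], [0, 4, 8, 9, 10, 12, 13, 16], [1, 7, 11, 13, 14, 15], [0, 4, 9, 10, 13, 14, 15], [0, 1, 11, 12, 13, 16], [5, 7, 8, 9, 13, 14], [0, 2, 9, 12], [0, 4, 7, 10, 13], [0, 1, 2, 5, 6, 9, 10, 11], [0, 5, 9, 14, 15], [0, 3, 5, 7, 9, 11, 12, 14, 15], [0, 2, 5, 8, 12, 13, 15], [0, 2, 5], [8], [1, 2, 12, 16], [2, 4, 5, 7, 8, 16], [1, 2, 6,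 7, 8, 9, 11, 14, 15, 16], [7, 8, 9, 13, 14], [5, 7], [2, 5], [4, 5, 6, 10, 11, 12, 14, 16], [0, 1, 5, 7, 12, 14, 15, 16], [0, 1, 4, 8, 9, 11, 14, 15, 16], [0, 2, 3, 7, 8, 9, 13, 15, 16], [1, 5, 7, 10, 11, 13, 16], [2, 5, 9, 11], [1, 5, 7, 11, 13, 14, 15], [2, 5, 9, 12, 16], [1, 5], [4, 5, 14], [0, 8, 9, 13, 14], [0, 1, 5, 7, 11, 13, 14, 15], [6, 9, 15, 16], [2, 4, 7, 8, 11, 12, 13, 14], [0, 1], [0, 5, 9], [0, 1, 3, 4, 5, 8, 12, 13, 14, 15, 16], [0, 2, 4, 5, 7, 9, 10, 11, 14], [0, 2, 9], [0, 2, 8, 9, 12, 13, 15, 16], [2, 8, 9, 13, 14], [0, 2, 5, 6, 10, 11, 14, 16], [0, 2, 5, 8, 10, 14, 16], [0, 1, 4, 8, 9, 12, 13, 15, 16], [0, 7, 9, 10, 12, 15], [0, 6, 7, 8, 9, 15, 16], [0, 2, 3, 5, 7, 8, 13, 15], [5,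 6, 7, 13, 15], [2, 11, 14, 15, 16], [0, 2, 3, 5, 7, 9, 12], [2, 10, 13, 14, 16], [0, 7], [0, 2, 5, 8, 9, 12, 13, 15], [1, 6], [1, 8, 10], [0, 1, 2, 4, 5, 7, 8, 9, 12, 13, 15], [0, 6, 8, 11, 12, 15, 16], [0, 2, 5, 7, 8, 9, 11, 13, 15], [0, 6, 8, 15], [0], [0, 3, 5, 11, 12], [0, 1, 8, 10, 15, 16], [0, 2, 3, 8, 12, 13, 15], [0, 2, 4, 5, 7, 8, 9, 10, 12, 16], [1, 9], [1, 8, 9, 13, 14], [0, 2], [0, 3, 5, 10, 11, 13, 14, 15, 16], [0, 1, 3, 4, 5, 7, 8, 9, 14], [0, 1, 2, 5, 6, 7, 8, 11, 13, 14, 16], [0, 4, 6, 8, 9, 13, 14], [0, 1, 8, 9, 10, 13, 14], [2, 9], [0, 5, 10, 12, 15, 16], [0, 1, 2, 4, 7, 9, 16], [2, 7, 11, 16], [0, 1, 7, 9, 11, 12, 13, 14, 15, 16], [0, 5], [0, 6, 7, 13, 15], [0, 1, 2, 4, 5, 6, 8,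 9, 11, 14, 16], [2, 8, 11, 12, 15, 16], [0, 11, 12], [0, 4, 5, 10, 11, 12, 14, 15, 16], [2], [1, 9, 12, 14, 16], [5, 9], [5, 6, 7, 11, 14], [1, 2, 5, 6, 8, 12, 15], [2, 4, 5, 7, 8, 9, 12, 13, 15]]),
  (2, [[2, 4, 13, 15], [], [1, 4, 13, 15, 16], [1, 2, 7, 8, 9, 11, 13, 14, 15], [10, 13], [2, 4, 10, 15, 16], [11, 16], [1, 4, 10, 15, 16], [11], [2, 4, 6, 8, 10, 11, 14, 16], [10, 14, 16], [1, 4, 11, 14, 15], [6, 10], [1, 4, 12, 14], [1, 2, 6, 7, 8, 9, 11, 13, 14, 15], [1, 4, 6, 15], [3, 6, 10], [2, 4, 6, 10, 12, 14, 16], [8, 12], [16], [1, 3, 4, 7, 8, 10, 12, 15, 16], [8, 15], [2, 4, 8, 11, 12, 13, 15, 16], [1, 4, 6, 10, 12, 14, 16], [6, 14, 16], [2, 3, 4, 7, 8, 14, 16], [6, 13], [1, 4, 8, 10, 13, 14],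 [2, 4, 8, 12, 13, 15], [6, 11, 14], [1, 4, 13, 15], [12, 15]]),
  (6, [[], [3], [10, 11, 12, 13, 15, 16], [6, 8, 11, 12, 14, 16], [10, 11, 12, 14, 15, 16], [1, 2, 7, 8, 9, 11, 12, 13, 14], [3, 6, 8, 11, 12, 13, 16], [1, 2, 3, 7, 8, 9, 12, 13, 14], [1, 2, 6, 7, 9, 10, 11, 12, 14, 15, 16], [1, 2, 3, 6, 7, 9, 10, 12, 14, 15, 16], [6, 8, 10, 13, 14, 15, 16], [6, 8, 10, 15, 16], [1, 2, 3, 7, 8, 9, 10, 11, 14, 15, 16], [1, 2, 7, 8, 9, 10, 13, 15], [1, 2, 6, 7, 9], [1, 2, 6, 7, 9, 13, 14]]),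
  (16, [[]]),
  (40, [[]]),
  (88, [[]]),
  (154, [[]]),
  (43, [[], [3, 13, 14]]),
  (92, [[]])]

/-- representatives at every level -/
def repW : List (List (List Nat)) := [
  [[]],
  [[], [0]],
  [[], [1], [0], [0, 1]],
  [[], [2], [1], [1, 2], [0], [0, 2], [0, 1], [0, 1, 2]],
  [[], [3], [2], [2, 3], [1], [1, 3], [1, 2], [1, 2, 3], [0], [0, 3], [0, 2], [0, 2, 3], [0, 1], [0, 1, 3], [0, 1, 2], [0, 1, 2, 3]],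
  [[], [3], [2], [2, 3], [1], [1, 4], [1, 3], [1, 3, 4], [1, 2], [1, 2, 4], [1, 2, 3], [1, 2, 3, 4], [0, 1], [0, 1, 3], [0, 1, 2], [0, 1, 2, 3]],
  [[], [5], [3], [3, 5], [2], [2, 5], [2, 3], [2, 3, 5], [1], [1, 4], [1, 3], [1, 3, 5], [1, 3, 4], [1, 3, 4, 5], [1, 2], [1, 2, 5], [1, 2, 4], [1, 2, 4, 5], [1, 2, 3], [1, 2, 3, 4], [0, 1, 3], [0, 1, 2]],
  [[], [5], [3], [3, 5], [1], [1, 4], [1, 3], [1, 3, 5], [1, 3, 4], [1, 3, 4, 5], [1, 2], [1, 2, 6], [1, 2, 5], [1, 2, 5, 6], [1, 2, 4], [1, 2, 4, 6], [1, 2, 4, 5], [1, 2, 4, 5, 6], [1, 2, 3], [1, 2, 3, 6], [1, 2, 3, 4], [1, 2, 3, 4, 6], [0, 1, 3], [0, 1, 3, 6], [0, 1, 2], [0, 1, 2, 6]],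
  [[], [3], [1, 4], [1, 3], [1, 3, 5], [1, 3, 4], [1, 3, 4, 7], [1, 3, 4, 5], [1, 3, 4, 5, 7], [1, 2], [1, 2, 7], [1, 2, 6], [1, 2, 6, 7], [1, 2, 5], [1, 2, 5, 6], [1, 2, 4], [1, 2, 4, 6], [1, 2, 4, 5], [1, 2, 4, 5, 6], [1, 2, 3], [1, 2, 3, 6], [0, 1, 3], [0, 1, 3, 7], [0, 1, 3, 6], [0, 1, 3, 6, 7], [0, 1, 2], [0, 1, 2, 7], [0, 1, 2, 6], [0, 1, 2, 6, 7]],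
  [[], [8], [3], [3, 8], [1, 4], [1, 4, 8], [1, 3, 4], [1, 3, 4, 7], [1, 3, 4, 5], [1, 3, 4, 5, 7], [1, 2], [1, 2, 7], [1, 2, 6], [1, 2, 6, 8], [1, 2, 6, 7], [1, 2, 6, 7, 8], [1, 2, 5], [1, 2, 5, 6], [1, 2, 5, 6, 8], [1, 2, 4], [1, 2, 4, 6], [1, 2, 4, 5], [1, 2, 4, 5, 6], [1, 2, 3], [1, 2, 3, 8], [1, 2, 3, 6], [1, 2, 3, 6, 8], [0, 1, 3, 6], [0, 1, 3, 6, 7], [0, 1, 2], [0, 1, 2, 7]],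
  [[], [9], [8], [8, 9], [3], [3, 8], [1, 4], [1, 4, 9], [1, 4, 8], [1, 4, 8, 9], [1, 3, 4], [1, 3, 4, 9], [1, 3, 4, 7], [1, 3, 4, 5], [1, 3, 4, 5, 9], [1, 3, 4, 5, 7], [1, 2], [1, 2, 9], [1, 2, 7], [1, 2, 7, 9], [1, 2, 6], [1, 2, 6, 9], [1, 2, 6, 8], [1, 2, 6, 8, 9], [1, 2, 6, 7], [1, 2, 6, 7, 8], [1, 2, 5], [1, 2, 5, 6], [1, 2, 5, 6, 8], [1, 2, 4, 5], [1, 2, 4, 5, 6], [1, 2, 3], [1, 2, 3, 9], [1, 2, 3, 8], [1, 2, 3, 8, 9], [1, 2, 3, 6], [1, 2, 3, 6, 9], [1, 2, 3, 6, 8], [1, 2, 3, 6, 8, 9], [0, 1, 3, 6], [0, 1, 2, 7]],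
  [[], [9], [3], [1, 4], [1, 4, 10], [1, 4, 9], [1, 4, 9, 10], [1, 4, 8], [1, 4, 8, 10], [1, 4, 8, 9], [1, 4, 8, 9, 10], [1, 3, 4], [1, 3, 4, 10], [1, 3, 4, 9], [1, 3, 4, 9, 10], [1, 3, 4, 7], [1, 3, 4, 7, 10], [1, 3, 4, 5], [1, 3, 4, 5, 10], [1, 3, 4, 5, 9], [1, 3, 4, 5, 9, 10], [1, 3, 4, 5, 7], [1, 3, 4, 5, 7, 10], [1, 2], [1, 2, 9], [1, 2, 7], [1, 2, 7, 9], [1, 2, 6], [1, 2, 6, 9], [1, 2, 6, 8], [1, 2, 6, 8, 9], [1, 2, 6, 7], [1, 2, 6, 7, 10], [1, 2, 6, 7, 8], [1, 2, 5], [1, 2, 5, 10], [1, 2, 5, 6], [1, 2, 5, 6, 8], [1, 2, 4, 5, 6], [1, 2, 3], [1, 2, 3, 9], [1, 2, 3, 8], [1, 2, 3, 8, 10], [1, 2, 3, 8, 9], [1, 2, 3, 8, 9, 10], [1, 2, 3, 6], [1, 2, 3, 6, 10], [1, 2, 3, 6, 9], [1, 2, 3, 6, 9, 10],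 [1, 2, 3, 6, 8], [1, 2, 3, 6, 8, 9], [0, 1, 3, 6]],
  [[], [11], [9], [9, 11], [3], [3, 11], [1, 4, 8], [1, 4, 8, 10], [1, 4, 8, 9], [1, 4, 8, 9, 10], [1, 3, 4], [1, 3, 4, 10], [1, 3, 4, 9], [1, 3, 4, 9, 10], [1, 3, 4, 5], [1, 3, 4, 5, 10], [1, 3, 4, 5, 9], [1, 3, 4, 5, 9, 10], [1, 2], [1, 2, 9], [1, 2, 7], [1, 2, 7, 9], [1, 2, 6], [1, 2, 6, 11], [1, 2, 6, 9], [1, 2, 6, 9, 11], [1, 2, 6, 8], [1, 2, 6, 8, 9], [1, 2, 6, 7], [1, 2, 6, 7, 10], [1, 2, 6, 7, 8], [1, 2, 5, 6], [1, 2, 5, 6, 8], [1, 2, 4, 5, 6], [1, 2, 4, 5, 6, 11], [1, 2, 3, 8], [1, 2, 3, 8, 10], [1, 2, 3, 8, 9], [1, 2, 3, 8, 9, 10], [1, 2, 3, 6], [1, 2, 3, 6, 10], [1, 2, 3, 6, 9], [1, 2, 3, 6, 9, 10], [0, 1, 3, 6], [0, 1, 3, 6, 11]],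
  [[], [12], [11], [11, 12], [9], [9, 12], [9, 11], [9, 11, 12], [3], [3, 12], [3, 11], [3, 11, 12], [1, 4, 8, 9], [1, 4, 8, 9, 10], [1, 3, 4, 9], [1, 3, 4, 9, 10], [1, 3, 4, 5, 9], [1, 3, 4, 5, 9, 10], [1, 2], [1, 2, 12], [1, 2, 9], [1, 2, 7], [1, 2, 7, 12], [1, 2, 7, 9], [1, 2, 6], [1, 2, 6, 12], [1, 2, 6, 11], [1, 2, 6, 11, 12], [1, 2, 6, 9], [1, 2, 6, 9, 11], [1, 2, 6, 8], [1, 2, 6, 8, 9], [1, 2, 6, 7], [1, 2, 6, 7, 12], [1, 2, 6, 7, 10], [1, 2, 6, 7, 10, 12], [1, 2, 6, 7, 8], [1, 2, 5, 6], [1, 2, 4, 5, 6], [1, 2, 4, 5, 6, 12], [1, 2, 4, 5, 6, 11], [1, 2, 3, 8], [1, 2, 3, 8, 10], [1, 2, 3, 8, 9], [1, 2, 3, 8, 9, 10], [1, 2, 3, 6], [1, 2, 3, 6, 12], [1, 2, 3, 6, 10], [1, 2, 3, 6, 10, 12], [1, 2,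 3, 6, 9], [1, 2, 3, 6, 9, 10], [0, 1, 3, 6]],
  [[], [12], [9], [9, 12], [3], [3, 12], [1, 4, 8, 9, 10], [1, 3, 4, 9], [1, 3, 4, 9, 13], [1, 3, 4, 9, 10], [1, 3, 4, 5, 9], [1, 3, 4, 5, 9, 10], [1, 2], [1, 2, 12], [1, 2, 9], [1, 2, 6], [1, 2, 6, 12], [1, 2, 6, 11], [1, 2, 6, 11, 12], [1, 2, 6, 9], [1, 2, 6, 9, 11], [1, 2, 6, 8], [1, 2, 6, 8, 13], [1, 2, 6, 8, 9], [1, 2, 6, 7], [1, 2, 6, 7, 12], [1, 2, 6, 7, 10], [1, 2, 6, 7, 10, 12], [1, 2, 6, 7, 8], [1, 2, 4, 5, 6], [1, 2, 4, 5, 6, 13], [1, 2, 4, 5, 6, 12], [1, 2, 4, 5, 6, 12, 13], [1, 2, 4, 5, 6, 11], [1, 2, 3, 8, 10], [1, 2, 3, 8, 9, 10], [1, 2, 3, 6], [1, 2, 3, 6, 12], [1, 2, 3, 6, 9], [0, 1, 3, 6], [0, 1, 3, 6, 13]],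
  [[], [14], [12], [12, 14], [9], [9, 14], [9, 12], [9, 12, 14], [3], [3, 14], [3, 12], [3, 12, 14], [1, 4, 8, 9, 10], [1, 3, 4, 9], [1, 3, 4, 9, 13], [1, 3, 4, 9, 13, 14], [1, 3, 4, 9, 10], [1, 3, 4, 5, 9], [1, 2], [1, 2, 14], [1, 2, 12], [1, 2, 12, 14], [1, 2, 9], [1, 2, 9, 14], [1, 2, 6], [1, 2, 6, 14], [1, 2, 6, 12], [1, 2, 6, 12, 14], [1, 2, 6, 11], [1, 2, 6, 11, 12], [1, 2, 6, 9], [1, 2, 6, 9, 14], [1, 2, 6, 9, 11], [1, 2, 6, 8], [1, 2, 6, 8, 13], [1, 2, 6, 8, 9], [1, 2, 6, 7], [1, 2, 6, 7, 12], [1, 2, 6, 7, 10], [1, 2, 6, 7, 10, 12], [1, 2, 4, 5, 6], [1, 2, 4, 5, 6, 13], [1, 2, 4, 5, 6, 12], [1, 2, 4, 5, 6, 12, 13], [1, 2, 3, 8, 10], [1, 2, 3, 8, 10, 14], [1, 2, 3, 8, 9, 10], [1, 2, 3, 8, 9,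 10, 14], [1, 2, 3, 6], [1, 2, 3, 6, 12], [1, 2, 3, 6, 9], [0, 1, 3, 6]],
  [[], [12], [9, 14], [9, 12, 14], [3], [3, 12], [1, 4, 8, 9, 10], [1, 4, 8, 9, 10, 15], [1, 3, 4, 9], [1, 3, 4, 9, 15], [1, 3, 4, 9, 13], [1, 3, 4, 9, 13, 15], [1, 3, 4, 9, 13, 14], [1, 3, 4, 9, 13, 14, 15], [1, 3, 4, 9, 10], [1, 3, 4, 9, 10, 15], [1, 3, 4, 5, 9], [1, 3, 4, 5, 9, 15], [1, 2], [1, 2, 15], [1, 2, 14], [1, 2, 12], [1, 2, 12, 15], [1, 2, 12, 14], [1, 2, 9], [1, 2, 9, 14], [1, 2, 6], [1, 2, 6, 14], [1, 2, 6, 12], [1, 2, 6, 12, 14], [1, 2, 6, 11], [1, 2, 6, 11, 12], [1, 2, 6, 8], [1, 2, 6, 8, 13], [1, 2, 6, 7], [1, 2, 6, 7, 12], [1, 2, 4, 5, 6], [1, 2, 4, 5, 6, 12], [1, 2, 3, 8, 10], [1, 2, 3, 8, 10, 14], [1, 2, 3,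 8, 9, 10], [1, 2, 3, 8, 9, 10, 14], [1, 2, 3, 6], [1, 2, 3, 6, 12], [0, 1, 3, 6], [0, 1, 3, 6, 15]],
  [[], [16], [12], [9, 14], [9, 12, 14], [3], [3, 12], [1, 4, 8, 9, 10, 15], [1, 3, 4, 9, 15], [1, 3, 4, 9, 13, 15], [1, 3, 4, 9, 13, 14, 15], [1, 3, 4, 9, 10], [1, 3, 4, 5, 9, 15], [1, 2, 14], [1, 2, 12], [1, 2, 12, 15], [1, 2, 9], [1, 2, 6, 12], [1, 2, 6, 12, 14], [1, 2, 6, 11, 12], [1, 2, 6, 8], [1, 2, 6, 7], [1, 2, 4, 5, 6, 12], [1, 2, 3, 8, 10], [1, 2, 3, 8, 9, 10], [1, 2, 3, 6, 12], [0, 1, 3, 6]]]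

/-- the steps: good ones with a representative, a conjugating word and a remainder; bad ones with the
leading element and a remainder -/
def stepData : List (List (List (Bool × Nat × List Nat × List Nat))) := [
  [[(true, 0, [], []), (true, 1, [], [])]],
  [[(true, 0, [], []), (true, 1, [], [])], [(true, 2, [], []), (true, 3, [], [])]],
  [[(true, 0, [], []), (true, 1, [], [])], [(true, 2, [], []), (true, 3, [], [])], [(true, 4, [], []), (true, 5, [], [])], [(true, 6, [], []), (true, 7, [], [])]],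
  [[(true, 0, [], []), (true, 1, [], [])], [(true, 2, [], []), (true, 3, [], [])], [(true, 4, [], []), (true, 5, [], [])], [(true, 6, [], []), (true, 7, [], [])], [(true, 8, [], []), (true, 9, [], [])], [(true, 10, [], []), (true, 11, [], [])], [(true, 12, [], []), (true, 13, [], [])], [(true, 14, [], []), (true, 15, [], [])]],
  [[(true, 0, [], []), (true, 0, [0], [5, 7, 11, 12, 13, 16])], [(true, 1, [], []), (true, 1, [0], [9, 11, 15])], [(true, 2, [], []), (true, 2, [0], [11, 13, 14])], [(true, 3, [], []), (true, 3, [0], [5, 7, 9, 11, 12, 14, 15, 16])], [(true, 4, [], []), (true, 5, [], [])], [(true, 6, [], []), (true, 7, [], [])], [(true, 8, [], []), (true, 9, [], [])], [(true, 10, [], []), (true,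 11, [], [])], [(false, 4, [], [5, 7, 8, 10, 11, 13]), (false, 4, [], [5, 8, 11, 12])], [(false, 4, [], [7, 8, 10, 13, 14, 16]), (false, 4, [], [7, 8, 16])], [(false, 4, [], [6, 7, 8, 11, 12, 15, 16]), (false, 4, [], [6, 7, 10, 11, 12, 13])], [(false, 4, [], [5, 6, 8, 9, 12]), (false, 4, [], [5, 6, 7, 9, 10, 11, 13, 15])], [(true, 12, [], []), (true, 12, [1], [6, 7, 9, 10, 11, 15])], [(true, 13, [], []), (true, 13, [1], [6, 7, 9, 10, 15])], [(true, 14, [], []), (true, 14, [1], [7, 11, 13, 15, 16])], [(true, 15, [], []), (true, 15, [1], [7, 11, 13, 15, 16])]],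
  [[(true, 0, [], []), (true, 1, [], [])], [(true, 2, [], []), (true, 3, [], [])], [(true, 4, [], []), (true, 5, [], [])], [(true, 6, [], []), (true, 7, [], [])], [(true, 8, [], []), (true, 8, [0], [9, 10, 12, 13, 15, 16])], [(true, 9, [], []), (true, 9, [0], [9, 13, 14, 15, 16])], [(true, 10, [], []), (true, 11, [], [])], [(true, 12, [], []), (true, 13, [], [])], [(true, 14, [], []), (true, 15, [], [])], [(true, 16, [], []), (true, 17, [], [])], [(true, 18, [], []), (true, 18, [0], [8, 10, 11, 12, 15])], [(true, 19, [], []), (true, 19, [0], [8, 11, 12, 14])], [(false, 5, [], [8, 11]), (false, 5, [], [8, 14])], [(true, 20, [], []), (true, 20, [2], [9, 10, 11, 12, 15, 16])], [(true, 21, [], []), (true,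 21, [2], [7, 10, 12, 14])], [(false, 5, [], [7, 10, 12, 13]), (false, 5, [], [7, 9, 10, 13, 14])]],
  [[(true, 0, [], []), (true, 0, [1], [7, 8, 9, 10, 12, 13, 15, 16])], [(true, 1, [], []), (true, 1, [1], [8, 9, 10, 11, 14, 16])], [(true, 2, [], []), (true, 2, [1], [8, 9, 10, 11, 13, 14, 16])], [(true, 3, [], []), (true, 3, [1], [7, 8, 9, 10, 12, 15, 16])], [(false, 6, [], [10, 11, 12, 13, 14, 15, 16]), (false, 6, [], [10, 11, 12, 14, 15, 16])], [(false, 6, [], [7, 10, 11, 14]), (false, 6, [], [7, 10, 13])], [(false, 6, [], [7, 10, 11, 13, 14, 16]), (false, 6, [], [7, 10, 13])], [(false, 6, [], [10, 11, 12, 14, 15]), (false, 6, [], [10, 11, 12, 14, 15, 16])], [(true, 4, [], []), (true, 4, [1], [7,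 8, 9, 11])], [(true, 5, [], []), (true, 5, [1], [7, 10, 11, 13])], [(true, 6, [], []), (true, 6, [1], [8, 9, 12, 13, 16])], [(true, 7, [], []), (true, 7, [1], [7, 8, 9, 11])], [(true, 8, [], []), (true, 8, [1], [10, 12, 14, 15, 16])], [(true, 9, [], []), (true, 9, [1], [7, 10, 11, 12, 13, 14, 15])], [(true, 10, [], []), (true, 11, [], [])], [(true, 12, [], []), (true, 13, [], [])], [(true, 14, [], []), (true, 15, [], [])], [(true, 16, [], []), (true, 17, [], [])], [(true, 18, [], []), (true, 19, [], [])], [(true, 20, [], []), (true, 21, [], [])], [(true, 22, [], []), (true, 23, [], [])], [(true, 24, [], []), (true, 25, [], [])]],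
  [[(true, 0, [], []), (true, 0, [4], [9, 12, 13, 15, 16])], [(false, 7, [], [9, 12, 13, 15, 16]), (false, 7, [], [9, 12, 13, 15, 16])], [(true, 1, [], []), (true, 1, [5], [9, 12, 13, 15, 16])], [(false, 7, [], [9, 12, 13, 15, 16]), (false, 7, [], [9, 12, 13, 15, 16])], [(false, 7, [], [8, 9, 10, 12, 13, 15, 16]), (false, 7, [], [8, 9, 10, 11, 12, 14, 16])], [(true, 2, [], []), (true, 2, [2], [8, 10, 11, 12, 13, 14, 16])], [(true, 3, [], []), (true, 3, [2], [10, 11, 13, 16])], [(true, 4, [], []), (true, 4, [2], [9, 10, 13, 15, 16])], [(true, 5, [], []), (true, 6, [], [])], [(true, 7, [], []), (true, 8, [], [])], [(true, 9, [], []), (true, 10, [], [])], [(true, 11, [], []), (true, 12, [], [])], [(true,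 13, [], []), (true, 13, [1], [11, 13, 14, 15])], [(true, 14, [], []), (true, 14, [1], [11, 14])], [(true, 15, [], []), (true, 15, [2], [8, 10, 11, 12, 14])], [(true, 16, [], []), (true, 16, [2], [8, 13])], [(true, 17, [], []), (true, 17, [1], [8, 9, 11, 12, 16])], [(true, 18, [], []), (true, 18, [1], [8, 9, 11, 12, 13])], [(true, 19, [], []), (true, 19, [1], [12, 14, 15])], [(true, 20, [], []), (true, 20, [1], [12, 13, 14, 16])], [(false, 7, [], [9, 10, 11, 13, 14, 15, 16]), (false, 7, [], [9, 10, 11, 14])], [(false, 7, [], [9, 12, 15, 16]), (false, 7, [], [9, 12, 15])], [(true, 21, [], []), (true, 22, [], [])], [(true, 23, [], []), (true, 24, [], [])], [(true, 25, [], []), (true, 26, [], [])], [(true,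 27, [], []), (true, 28, [], [])]],
  [[(true, 0, [], []), (true, 1, [], [])], [(true, 2, [], []), (true, 3, [], [])], [(true, 4, [], []), (true, 5, [], [])], [(false, 8, [], [9, 10]), (false, 8, [], [9, 10, 12, 14])], [(false, 8, [], [10, 13, 14, 15]), (false, 8, [], [10, 13, 15])], [(true, 6, [], []), (true, 6, [2], [10, 12, 14])], [(true, 7, [], []), (true, 7, [2], [10, 11, 12, 14, 15, 16])], [(true, 8, [], []), (true, 8, [2], [9, 10, 11, 14, 15, 16])], [(true, 9, [], []), (true, 9, [2], [9, 10, 14])], [(true, 10, [], []), (true, 10, [0], [10, 11, 12, 13, 14])], [(true, 11, [], []), (true, 11, [0], [9, 10, 11, 12, 13])], [(true, 12, [], []), (true, 13, [], [])], [(true, 14, [], []), (true, 15, [],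 [])], [(true, 16, [], []), (true, 16, [0], [10, 13, 16])], [(true, 17, [], []), (true, 18, [], [])], [(true, 19, [], []), (true, 19, [0], [9, 11, 12, 14, 16])], [(true, 20, [], []), (true, 20, [1], [9, 10, 14, 15, 16])], [(true, 21, [], []), (true, 21, [0], [9, 14, 16])], [(true, 22, [], []), (true, 22, [1, 3, 7, 12, 13, 14, 15], [9, 10, 14, 15, 16])], [(true, 23, [], []), (true, 24, [], [])], [(true, 25, [], []), (true, 26, [], [])], [(false, 8, [], [11, 12, 13, 16]), (false, 8, [], [11, 13, 14, 16])], [(false, 8, [], [9, 14, 15]), (false, 8, [], [9, 12, 14, 16])], [(true, 27, [], []), (true, 27, [0], [9, 13, 14, 15, 16])], [(true, 28, [], []), (true, 28, [0], [13, 16])], [(true, 29, [], []), (true,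 29, [0], [15])], [(true, 30, [], []), (true, 30, [0], [9, 14])], [(false, 8, [], [9, 13, 14, 16]), (false, 8, [], [9, 13, 14])], [(false, 8, [], [13]), (false, 8, [], [13, 14, 15])]],
  [[(true, 0, [], []), (true, 1, [], [])], [(true, 2, [], []), (true, 3, [], [])], [(true, 4, [], []), (true, 4, [4], [14, 16])], [(true, 5, [], []), (true, 5, [4], [12, 16])], [(true, 6, [], []), (true, 7, [], [])], [(true, 8, [], []), (true, 9, [], [])], [(true, 10, [], []), (true, 11, [], [])], [(true, 12, [], []), (true, 12, [0], [11, 13, 14, 16])], [(true, 13, [], []), (true, 14, [], [])], [(true, 15, [], []), (true, 15, [0], [13, 14, 16])], [(true, 16, [], []), (true, 17, [], [])], [(true, 18, [], []), (true, 19,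 [], [])], [(true, 20, [], []), (true, 21, [], [])], [(true, 22, [], []), (true, 23, [], [])], [(true, 24, [], []), (true, 24, [0], [10, 11, 12, 13, 15, 16])], [(true, 25, [], []), (true, 25, [0], [10, 11, 12, 13])], [(true, 26, [], []), (true, 26, [2], [10, 13, 15, 16])], [(true, 27, [], []), (true, 27, [2], [11, 12, 13, 14])], [(true, 28, [], []), (true, 28, [2], [13])], [(false, 9, [], [10, 12, 15, 16]), (false, 9, [], [10, 12])], [(false, 9, [], [14, 15]), (false, 9, [], [14, 15])], [(true, 29, [], []), (true, 29, [4], [10, 12, 14, 15])], [(true, 30, [], []), (true, 30, [0], [15])], [(true, 31, [], []), (true, 32, [], [])], [(true, 33, [], []), (true, 34, [], [])], [(true, 35, [], []), (true, 36,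 [], [])], [(true, 37, [], []), (true, 38, [], [])], [(true, 39, [], []), (true, 39, [7], [11, 12, 14, 15])], [(false, 9, [], [11, 12, 14, 15]), (false, 9, [], [11, 14, 15, 16])], [(false, 9, [], [10, 11, 12, 15, 16]), (false, 9, [], [10, 11, 12, 14, 15, 16])], [(true, 40, [], []), (true, 40, [5], [12, 14])]],
  [[(true, 0, [], []), (true, 0, [6], [11, 12, 13, 14, 15])], [(true, 1, [], []), (true, 1, [6], [11, 12, 13, 14, 16])], [(false, 10, [], [11, 12, 13, 14, 15, 16]), (false, 10, [], [11, 12, 15, 16])], [(false, 10, [], [11, 12, 13, 14]), (false, 10, [], [11, 12])], [(true, 2, [], []), (true, 2, [6], [12, 13, 14, 15])], [(false, 10, [], [12, 15, 16]), (false, 10, [], [12, 15])], [(true, 3, [], []),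 (true, 4, [], [])], [(true, 5, [], []), (true, 6, [], [])], [(true, 7, [], []), (true, 8, [], [])], [(true, 9, [], []), (true, 10, [], [])], [(true, 11, [], []), (true, 12, [], [])], [(true, 13, [], []), (true, 14, [], [])], [(true, 15, [], []), (true, 16, [], [])], [(true, 17, [], []), (true, 18, [], [])], [(true, 19, [], []), (true, 20, [], [])], [(true, 21, [], []), (true, 22, [], [])], [(true, 23, [], []), (true, 23, [2], [11, 12])], [(true, 24, [], []), (true, 24, [2], [11, 14, 15, 16])], [(true, 25, [], []), (true, 25, [2], [12, 14, 16])], [(true, 26, [], []), (true, 26, [2], [15])], [(true, 27, [], []), (true, 27, [0], [11, 13, 16])], [(true, 28, [], []), (true, 28, [0], [11, 13, 14, 15])],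 [(true, 29, [], []), (true, 29, [0], [11, 13, 15, 16])], [(true, 30, [], []), (true, 30, [0], [11, 13, 14])], [(true, 31, [], []), (true, 32, [], [])], [(true, 33, [], []), (true, 33, [1], [11, 13, 14, 15, 16])], [(true, 34, [], []), (true, 35, [], [])], [(true, 36, [], []), (true, 36, [0], [12, 13, 14, 16])], [(true, 37, [], []), (true, 37, [0], [12, 13, 14, 15, 16])], [(false, 10, [], [11, 12, 14]), (false, 10, [], [11, 12, 15])], [(true, 38, [], []), (true, 38, [6], [11, 12, 14, 16])], [(true, 39, [], []), (true, 39, [1, 2, 6, 7, 8, 9, 11, 14, 15, 16], [12, 13, 16])], [(true, 40, [], []), (true, 40, [1, 2, 6, 7, 8, 9, 11, 14, 15, 16], [12, 13])], [(true, 41, [], []), (true, 42, [], [])], [(true,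 43, [], []), (true, 44, [], [])], [(true, 45, [], []), (true, 46, [], [])], [(true, 47, [], []), (true, 48, [], [])], [(true, 49, [], []), (true, 49, [1, 2, 6, 7, 8, 9, 11, 14, 15, 16], [12, 14, 15])], [(true, 50, [], []), (true, 50, [1, 2, 6, 7, 8, 9, 11, 14, 15, 16], [12, 14, 15, 16])], [(true, 51, [], []), (true, 51, [4, 6, 10, 12, 14, 16], [11, 12, 15])], [(false, 10, [], [11, 12, 13, 14, 15]), (false, 10, [], [11, 13, 14, 15, 16])]],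
  [[(true, 0, [], []), (true, 1, [], [])], [(true, 2, [], []), (true, 3, [], [])], [(true, 4, [], []), (true, 5, [], [])], [(false, 11, [], [12, 13, 14]), (false, 11, [], [12, 13, 14])], [(false, 11, [], [12, 15, 16]), (false, 11, [], [12, 15])], [(false, 11, [], [13]), (false, 11, [], [13])], [(false, 11, [], [14, 15, 16]), (false, 11, [], [14, 15])], [(true, 6, [], []), (true, 6, [3], [])], [(true, 7, [], []), (true, 7, [3], [13, 14, 16])], [(true, 8, [], []), (true, 8, [3], [])], [(true, 9, [], []), (true, 9, [3], [13, 14, 16])], [(true, 10, [], []), (true, 10, [0], [12, 13, 15])], [(true, 11, [], []), (true, 11, [0], [13, 14])], [(true, 12, [], []), (true, 12, [0], [12, 13, 14, 16])], [(true, 13,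 [], []), (true, 13, [0], [13, 15, 16])], [(false, 11, [], [12, 13, 14, 16]), (false, 11, [], [12, 13, 14, 16])], [(false, 11, [], [12, 13, 14, 15]), (false, 11, [], [12, 13, 14, 15, 16])], [(true, 14, [], []), (true, 14, [6], [14, 15])], [(true, 15, [], []), (true, 15, [6], [14, 15, 16])], [(true, 16, [], []), (true, 16, [6], [14, 16])], [(true, 17, [], []), (true, 17, [6], [14])], [(false, 11, [], [12, 13, 14, 16]), (false, 11, [], [12, 13, 14, 16])], [(false, 11, [], [12, 13, 15, 16]), (false, 11, [], [12, 13, 15])], [(true, 18, [], []), (true, 18, [3], [13, 14, 16])], [(true, 19, [], []), (true, 19, [3], [13, 14, 16])], [(true, 20, [], []), (true, 20, [1], [14, 15])], [(true, 21, [], []), (true,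 21, [1], [12, 16])], [(true, 22, [], []), (true, 23, [], [])], [(true, 24, [], []), (true, 25, [], [])], [(true, 26, [], []), (true, 26, [2], [12, 13])], [(true, 27, [], []), (true, 27, [2], [13, 14, 15, 16])], [(true, 28, [], []), (true, 28, [1], [14, 15])], [(true, 29, [], []), (true, 29, [1], [14, 15, 16])], [(true, 30, [], []), (true, 30, [3], [])], [(false, 11, [], [13, 14]), (false, 11, [], [13, 14, 16])], [(false, 11, [], [13, 16]), (false, 11, [], [13, 16])], [(true, 31, [], []), (true, 31, [6], [14, 16])], [(true, 32, [], []), (true, 32, [3], [])], [(true, 33, [], []), (true, 34, [], [])], [(false, 11, [], [13, 14]), (false, 11, [], [13, 14, 16])], [(false, 11, [], [13, 14, 16]), (false, 11,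 [], [13, 14])], [(true, 35, [], []), (true, 35, [5], [12, 13, 14])], [(true, 36, [], []), (true, 36, [5], [12, 13])], [(true, 37, [], []), (true, 37, [5], [12, 13, 14])], [(true, 38, [], []), (true, 38, [5], [12, 13])], [(true, 39, [], []), (true, 39, [6], [13, 14])], [(true, 40, [], []), (true, 40, [6], [13, 14, 16])], [(true, 41, [], []), (true, 41, [6], [13, 14, 15, 16])], [(true, 42, [], []), (true, 42, [6], [13, 14, 15])], [(false, 11, [], [16]), (false, 11, [], [16])], [(false, 11, [], [15]), (false, 11, [], [15])], [(true, 43, [], []), (true, 44, [], [])]],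
  [[(true, 0, [], []), (true, 1, [], [])], [(true, 2, [], []), (true, 3, [], [])], [(true, 4, [], []), (true, 5, [], [])], [(true, 6, [], []), (true, 7, [], [])], [(true, 8, [], []), (true, 9, [], [])], [(true, 10, [], []), (true, 11, [], [])], [(false, 12, [], [13, 15, 16]), (false, 12, [], [13, 15, 16])], [(false, 12, [], [14]), (false, 12, [], [14])], [(true, 12, [], []), (true, 12, [5], [])], [(true, 13, [], []), (true, 13, [5], [14, 16])], [(false, 12, [], [14, 16]), (false, 12, [], [14, 16])], [(false, 12, [], [14]), (false, 12, [], [14])], [(true, 14, [], []), (true, 14, [9], [14])], [(true, 15, [], []), (true, 15, [9], [14])], [(false, 12, [], [14, 16]), (false, 12, [], [14, 16])], [(false,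 12, [], [16]), (false, 12, [], [16])], [(true, 16, [], []), (true, 16, [8], [16])], [(true, 17, [], []), (true, 17, [0], [13, 15])], [(true, 18, [], []), (true, 19, [], [])], [(true, 20, [], []), (true, 20, [1], [13, 14, 16])], [(true, 21, [], []), (true, 22, [], [])], [(true, 23, [], []), (true, 23, [1, 3, 7, 12, 13, 14, 15], [14])], [(true, 24, [], []), (true, 25, [], [])], [(true, 26, [], []), (true, 27, [], [])], [(true, 28, [], []), (true, 28, [1], [13, 14, 16])], [(true, 29, [], []), (true, 29, [1], [14, 16])], [(true, 30, [], []), (true, 30, [4], [13, 14, 16])], [(true, 31, [], []), (true, 31, [4], [13, 14, 15, 16])], [(true, 32, [], []), (true, 33, [], [])], [(true, 34, [], []), (true, 35,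 [], [])], [(true, 36, [], []), (true, 36, [2], [13])], [(true, 37, [], []), (true, 37, [8], [])], [(false, 12, [], [13, 16]), (false, 12, [], [13])], [(true, 38, [], []), (true, 39, [], [])], [(true, 40, [], []), (true, 40, [0, 4, 9, 10, 13, 14, 15], [16])], [(true, 41, [], []), (true, 41, [5, 6, 11, 14], [16])], [(true, 42, [], []), (true, 42, [5, 6, 11, 14], [14, 16])], [(true, 43, [], []), (true, 43, [1, 4], [13, 16])], [(true, 44, [], []), (true, 44, [1, 4], [13, 15, 16])], [(true, 45, [], []), (true, 46, [], [])], [(true, 47, [], []), (true, 48, [], [])], [(true, 49, [], []), (true, 49, [1, 4], [13, 15, 16])], [(true, 50, [], []), (true, 50, [1, 4], [13, 16])], [(true, 51, [], []), (true, 51,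 [8], [14, 16])], [(false, 12, [], []), (false, 12, [], [])]],
  [[(true, 0, [], []), (true, 0, [10], [14, 16])], [(true, 1, [], []), (true, 1, [10], [14, 16])], [(false, 13, [], [14, 16]), (false, 13, [], [14, 15, 16])], [(false, 13, [], [14, 16]), (false, 13, [], [14, 15, 16])], [(true, 2, [], []), (true, 2, [10], [14, 16])], [(true, 3, [], []), (true, 3, [10], [14, 16])], [(false, 13, [], [14, 15, 16]), (false, 13, [], [14, 16])], [(false, 13, [], [14, 15, 16]), (false, 13, [], [14, 16])], [(true, 4, [], []), (true, 4, [11], [14, 16])], [(true, 5, [], []), (true, 5, [11], [14, 16])], [(false, 13, [], [14, 16]), (false, 13, [], [14, 15, 16])], [(false, 13, [], [14, 16]), (false, 13, [], [14, 15, 16])],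 [(false, 13, [], [14, 15]), (false, 13, [], [14, 15, 16])], [(true, 6, [], []), (true, 6, [10], [14, 15])], [(true, 7, [], []), (true, 8, [], [])], [(true, 9, [], []), (true, 9, [3], [14])], [(true, 10, [], []), (true, 10, [0], [16])], [(true, 11, [], []), (true, 11, [3], [14])], [(true, 12, [], []), (true, 12, [1], [15, 16])], [(true, 13, [], []), (true, 13, [1], [15, 16])], [(true, 14, [], []), (true, 14, [7], [15, 16])], [(false, 13, [], [15]), (false, 13, [], [15])], [(false, 13, [], [15, 16]), (false, 13, [], [15, 16])], [(false, 13, [], [15, 16]), (false, 13, [], [15, 16])], [(true, 15, [], []), (true, 15, [1], [15, 16])], [(true, 16, [], []), (true, 16, [1], [15, 16])], [(true, 17, [], []),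 (true, 17, [2], [14, 15, 16])], [(true, 18, [], []), (true, 18, [2], [14, 15])], [(true, 19, [], []), (true, 19, [4], [16])], [(true, 20, [], []), (true, 20, [4], [14, 15, 16])], [(true, 21, [], []), (true, 22, [], [])], [(true, 23, [], []), (true, 23, [2, 3, 7, 12], [15])], [(true, 24, [], []), (true, 24, [4], [16])], [(true, 25, [], []), (true, 25, [4], [16])], [(true, 26, [], []), (true, 26, [3], [14])], [(true, 27, [], []), (true, 27, [3], [14])], [(true, 28, [], []), (true, 28, [6], [15])], [(false, 13, [], []), (false, 13, [], [])], [(true, 29, [], []), (true, 30, [], [])], [(true, 31, [], []), (true, 32, [], [])], [(true, 33, [], []), (true, 33, [1, 2, 6, 7, 8, 9, 11, 14, 15, 16], [14])], [(false,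 13, [], [14]), (false, 13, [], [14, 16])], [(true, 34, [], []), (true, 34, [7], [14, 15, 16])], [(false, 13, [], [14]), (false, 13, [], [14, 16])], [(true, 35, [], []), (true, 35, [7], [14, 15, 16])], [(true, 36, [], []), (true, 36, [5], [16])], [(true, 37, [], []), (true, 37, [5], [16])], [(false, 13, [], [14]), (false, 13, [], [14])], [(false, 13, [], [14, 16]), (false, 13, [], [14, 16])], [(true, 38, [], []), (true, 38, [5], [16])], [(false, 13, [], [14, 15]), (false, 13, [], [14, 15])], [(true, 39, [], []), (true, 40, [], [])]],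
  [[(true, 0, [], []), (true, 1, [], [])], [(true, 2, [], []), (true, 3, [], [])], [(true, 4, [], []), (true, 5, [], [])], [(true, 6, [], []), (true, 7, [], [])], [(true, 8, [], []), (true, 9, [], [])], [(true, 10, [], []), (true, 11, [], [])], [(true, 12, [], []), (true, 12, [2, 4], [16])], [(true, 13, [], []), (true, 13, [0, 7, 9, 14, 15], [])], [(true, 14, [], []), (true, 15, [], [])], [(true, 16, [], []), (true, 16, [5], [16])], [(true, 17, [], []), (true, 17, [10], [16])], [(false, 14, [], [16]), (false, 14, [], [16])], [(true, 18, [], []), (true, 19, [], [])], [(true, 20, [], []), (true, 21, [], [])], [(true, 22, [], []), (true, 23, [], [])], [(true, 24, [], []), (true, 25, [], [])], [(true,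 26, [], []), (true, 27, [], [])], [(true, 28, [], []), (true, 28, [2, 5, 9, 11, 12, 14, 15], [16])], [(true, 29, [], []), (true, 29, [2, 5, 9, 11, 12, 14, 15], [])], [(true, 30, [], []), (true, 31, [], [])], [(true, 32, [], []), (true, 32, [4, 5, 9, 13, 14, 15], [])], [(true, 33, [], []), (true, 33, [7], [15])], [(true, 34, [], []), (true, 34, [7], [15])], [(true, 35, [], []), (true, 35, [7], [15])], [(true, 36, [], []), (true, 36, [8], [15, 16])], [(true, 37, [], []), (true, 37, [8], [15, 16])], [(true, 38, [], []), (true, 38, [8], [15])], [(true, 39, [], []), (true, 39, [8], [15])], [(false, 14, [], [15]), (false, 14, [], [15])], [(true, 40, [], []), (true, 40, [8], [])], [(true, 41, [], []), (true,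 41, [8], [16])], [(true, 42, [], []), (true, 42, [8], [])], [(true, 43, [], []), (true, 43, [8], [16])], [(false, 14, [], [15]), (false, 14, [], [15])], [(true, 44, [], []), (true, 45, [], [])], [(true, 46, [], []), (true, 47, [], [])], [(true, 48, [], []), (true, 48, [5, 10, 14, 16], [16])], [(true, 49, [], []), (true, 49, [5, 10, 14, 16], [16])], [(true, 50, [], []), (true, 50, [5, 10, 14, 16], [16])], [(true, 51, [], []), (true, 51, [13], [16])], [(false, 14, [], [16]), (false, 14, [], [16])]],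
  [[(true, 0, [], []), (true, 0, [9], [])], [(false, 15, [], []), (false, 15, [], [])], [(true, 1, [], []), (true, 1, [9], [])], [(false, 15, [], []), (false, 15, [], [])], [(false, 15, [], []), (false, 15, [], [])], [(true, 2, [], []), (true, 2, [9], [])], [(false, 15, [], []), (false, 15, [], [])], [(true, 3, [], []), (true, 3, [9], [])], [(true, 4, [], []), (true, 4, [9], [])], [(false, 15, [], []), (false, 15, [], [])], [(true, 5, [], []), (true, 5, [9], [])], [(false, 15, [], []), (false, 15, [], [])], [(true, 6, [], []), (true, 7, [], [])], [(true, 8, [], []), (true, 9, [], [])], [(true, 10, [], []), (true, 11, [], [])], [(true, 12, [], []), (true, 13, [], [])], [(true, 14, [], []), (true, 15,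 [], [])], [(true, 16, [], []), (true, 17, [], [])], [(true, 18, [], []), (true, 19, [], [])], [(true, 20, [], []), (true, 20, [1, 7, 11, 13, 14, 15], [])], [(true, 21, [], []), (true, 22, [], [])], [(true, 23, [], []), (true, 23, [1, 7, 11, 13, 14, 15], [])], [(true, 24, [], []), (true, 24, [6], [16])], [(true, 25, [], []), (true, 25, [6], [])], [(true, 26, [], []), (true, 26, [9], [])], [(true, 27, [], []), (true, 27, [9], [])], [(true, 28, [], []), (true, 28, [9], [])], [(true, 29, [], []), (true, 29, [9], [])], [(true, 30, [], []), (true, 30, [1], [16])], [(true, 31, [], []), (true, 31, [1], [16])], [(false, 15, [], [16]), (false, 15, [], [16])], [(false, 15, [], [16]), (false, 15, [], [16])], [(false,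 15, [], [16]), (false, 15, [], [16])], [(true, 32, [], []), (true, 32, [9], [16])], [(true, 33, [], []), (true, 33, [9], [16])], [(false, 15, [], [16]), (false, 15, [], [16])], [(true, 34, [], []), (true, 34, [9], [])], [(true, 35, [], []), (true, 35, [9], [])], [(false, 15, [], []), (false, 15, [], [])], [(false, 15, [], [16]), (false, 15, [], [16])], [(true, 36, [], []), (true, 36, [13], [])], [(false, 15, [], [16]), (false, 15, [], [16])], [(true, 37, [], []), (true, 37, [13], [])], [(false, 15, [], []), (false, 15, [], [])], [(true, 38, [], []), (true, 38, [7, 10, 15], [])], [(true, 39, [], []), (true, 39, [7, 10, 15], [])], [(true, 40, [], []), (true, 40, [7, 10, 15], [])], [(true, 41, [], []),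 (true, 41, [7, 10, 15], [])], [(true, 42, [], []), (true, 42, [9], [])], [(true, 43, [], []), (true, 43, [9], [])], [(false, 15, [], [16]), (false, 15, [], [16])], [(true, 44, [], []), (true, 45, [], [])]],
  [[(true, 0, [], []), (true, 1, [], [])], [(true, 2, [], []), (true, 2, [1, 2, 6, 7, 9, 10, 11, 14, 15], [])], [(true, 3, [], []), (true, 3, [6, 8, 9, 13, 14], [])], [(true, 4, [], []), (true, 4, [6, 8, 9, 13, 14], [])], [(true, 5, [], []), (true, 5, [10], [])], [(true, 6, [], []), (true, 6, [10], [])], [(false, 16, [], []), (false, 16, [], [])], [(true, 7, [], []), (true, 7, [11], [])], [(false, 16, [], []), (false, 16, [], [])], [(true, 8, [], []), (true, 8, [8], [])], [(false, 16, [], []), (false,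 16, [], [])], [(true, 9, [], []), (true, 9, [15], [])], [(false, 16, [], []), (false, 16, [], [])], [(true, 10, [], []), (true, 10, [6], [])], [(true, 11, [], []), (true, 11, [11], [])], [(false, 16, [], []), (false, 16, [], [])], [(false, 16, [], []), (false, 16, [], [])], [(true, 12, [], []), (true, 12, [15], [])], [(false, 16, [], []), (false, 16, [], [])], [(false, 16, [], []), (false, 16, [], [])], [(true, 13, [], []), (true, 13, [6], [])], [(true, 14, [], []), (true, 14, [8], [])], [(true, 15, [], []), (true, 15, [8], [])], [(false, 16, [], []), (false, 16, [], [])], [(true, 16, [], []), (true, 16, [9], [])], [(false, 16, [], []), (false, 16, [], [])], [(false, 16, [], []), (false, 16, [], [])],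 [(false, 16, [], []), (false, 16, [], [])], [(true, 17, [], []), (true, 17, [7], [])], [(true, 18, [], []), (true, 18, [6], [])], [(false, 16, [], []), (false, 16, [], [])], [(true, 19, [], []), (true, 19, [6], [])], [(true, 20, [], []), (true, 20, [6], [])], [(false, 16, [], []), (false, 16, [], [])], [(true, 21, [], []), (true, 21, [7], [])], [(false, 16, [], []), (false, 16, [], [])], [(false, 16, [], []), (false, 16, [], [])], [(true, 22, [], []), (true, 22, [7], [])], [(true, 23, [], []), (true, 23, [12], [])], [(false, 16, [], []), (false, 16, [], [])], [(true, 24, [], []), (true, 24, [12], [])], [(false, 16, [], []), (false, 16, [], [])], [(false, 16, [], []), (false, 16, [], [])], [(true, 25,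 [], []), (true, 25, [7], [])], [(true, 26, [], []), (true, 26, [15], [])], [(false, 16, [], []), (false, 16, [], [])]]]

/-- the final conjugating words -/
def finData : List (Nat × List Nat) := [
  (0, [5, 3, 4, 1, 2, 3, 7, 8, 4, 1, 2, 3, 7, 6, 5, 4, 3, 2, 1, 0, 1, 2, 3, 4, 5, 6, 7, 3, 2, 1, 4, 8, 7, 3, 2, 1, 4, 3, 5, 6, 5, 4, 3, 7, 8, 3, 7, 4, 5, 3, 4, 2, 3, 7, 6, 5, 4, 3, 2, 0, 1, 0, 1, 0, 2, 3, 4, 5, 6, 7, 3, 2, 4, 3, 5, 4, 7, 3, 8, 7, 3, 4, 5, 6, 7, 8, 7, 3, 4, 2, 3, 7, 5, 4, 3, 2, 1, 0, 1, 2, 3, 4, 5, 7, 3, 2, 4, 3, 7, 8, 7, 8, 7, 6, 4, 5, 2, 3, 4, 1, 2, 3, 7, 8, 4, 5, 2, 3, 4, 1, 2, 3, 7, 6, 5, 4, 3, 2, 1, 0, 1, 2, 3, 4, 5, 6, 7, 3, 2, 1, 4, 3, 2, 5, 4, 8, 7, 3, 2, 1, 4, 3, 2, 5, 4, 6, 3, 4,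 2, 3, 7, 8, 7, 5, 3, 4, 2, 3, 7, 6, 5, 4, 3, 2, 1, 0, 1, 2, 3, 4, 5, 6, 7, 3, 2, 4, 3, 5, 7, 8, 7, 3, 2, 4, 3, 7, 8, 6, 4, 5, 2, 3, 4, 1, 2, 3, 7, 8, 5, 4, 1, 2, 3, 7, 6, 5, 4, 3, 2, 1, 0, 1, 2, 3, 4, 5, 6, 7, 3, 2, 1, 4, 5, 8, 7, 3, 2, 1, 4, 3, 2, 5, 4, 6, 5, 4, 3, 7, 8, 3, 4, 2, 3, 7, 6, 5, 4, 3, 2, 1, 0, 1, 2, 3, 4, 5, 6, 7, 3, 2, 4, 3, 8, 7, 3, 4, 5, 2, 3, 7, 8, 3, 7, 2, 3, 4, 1, 2, 3, 7, 5, 4, 3, 2, 1, 0, 1, 2, 3, 4, 5, 7, 3, 2, 1, 4, 3, 2, 7, 3, 1, 2, 3, 7, 4, 3, 2, 1, 0, 1, 2, 3, 4, 7, 3, 2, 1, 8, 7, 3, 2, 5, 4, 0, 1, 2, 3, 7, 8, 4, 2, 3, 7, 6, 5, 4, 3, 2, 0, 1, 0, 1, 0, 2, 3, 4, 5, 6, 7, 3, 2, 4, 8, 7, 3, 2, 1, 0, 4, 5, 0, 1, 2, 3, 7, 8, 3, 4, 5, 2, 3, 4, 1, 2, 3, 7, 6, 5, 4, 3, 2, 1, 0, 1,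 2, 3, 4, 5, 6, 7, 3, 2, 1, 4, 3, 2, 5, 4, 3, 8, 7, 3, 2, 1, 0, 5, 4, 0, 1, 2, 3, 7, 8, 4, 2, 3, 7, 6, 5, 4, 3, 2, 1, 0, 1, 2, 3, 4, 5, 6, 7, 3, 2, 4, 8, 7, 3, 2, 1, 0, 4, 5, 2, 3, 7, 8, 4, 3, 7, 5, 2, 3, 4, 0, 1, 2, 3, 7, 8, 5, 2, 3, 4, 1, 2, 3, 7, 6, 5, 4, 3, 2, 1, 0, 1, 2, 3, 4, 5, 6, 7, 3, 2, 1, 4, 3, 2, 5, 8, 7, 3, 2, 1, 0, 4, 3, 2, 5, 7, 3, 4, 8, 7, 3, 2, 6, 5, 4, 3, 7, 8, 1, 2, 3, 7, 4, 3, 2, 1, 0, 1, 2, 3, 4, 7, 3, 2, 1, 8, 7, 3, 4, 5, 4, 5, 2, 3, 4, 1, 2, 3, 7, 8, 5, 4, 1, 2, 3, 7, 6, 5, 4, 3, 2, 1, 0, 1, 2, 3, 4, 5, 6, 7, 3, 2, 1, 4, 5, 8, 7, 3, 2, 1, 4, 3, 2, 5, 4, 6]),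
  (2, [5, 2, 3, 4, 1, 2, 3, 7, 8, 7, 5, 3, 4, 2, 3, 7, 6, 5, 4, 3, 2, 1, 0, 1, 2, 3, 4, 5, 6, 7, 3, 2, 4, 3, 5, 7, 8, 7, 3, 2, 1, 4, 3, 2, 5, 8, 3, 7, 5, 2, 3, 4, 1, 2, 3, 7, 8, 5, 3, 4, 1, 2, 3, 7, 6, 5, 4, 3, 2, 1, 0, 1, 2, 3, 4, 5, 6, 7, 3, 2, 1, 4, 3, 5, 8, 7, 3, 2, 1, 4, 3, 2, 5, 7, 3, 8, 3, 7, 5, 2, 3, 4, 1, 2, 3, 7, 8, 7, 5, 2, 3, 4, 1, 2, 3, 7, 6, 5, 4, 3, 2, 1, 0, 1, 2, 3, 4, 5, 6, 7, 3, 2, 1, 4, 3, 2, 5, 7, 8, 7, 3, 2, 1, 4, 3, 2, 5, 7, 3, 5, 3, 4, 1, 2, 3, 7, 8, 4, 1, 2, 3, 7, 6, 5, 4, 3, 2, 1, 0, 1, 2, 3, 4, 5, 6, 7, 3, 2, 1, 4, 8, 7, 3, 2, 1, 4, 3, 5, 6, 4, 5, 2, 3, 4, 1, 2, 3, 7, 8, 5, 4, 1, 2, 3, 7, 6, 5, 4, 3, 2, 1, 0, 1, 2, 3, 4, 5, 6, 7, 3, 2, 1, 4, 5, 8, 7, 3, 2, 1, 4, 3, 2, 5, 4,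 6, 2, 3, 7, 1, 2, 3, 4, 0, 1, 2, 3, 7, 8, 4, 5, 2, 3, 4, 1, 2, 3, 7, 6, 5, 4, 3, 2, 1, 0, 1, 2, 3, 4, 5, 6, 7, 3, 2, 1, 4, 3, 2, 5, 4, 8, 7, 3, 2, 1, 0, 4, 3, 2, 1, 7, 3, 2, 8, 7, 5, 3, 4, 2, 3, 7, 8, 7, 5, 3, 4, 1, 2, 3, 7, 6, 5, 4, 3, 2, 1, 0, 1, 2, 3, 4, 5, 6, 7, 3, 2, 1, 4, 3, 5, 7, 8, 7, 3, 2, 4, 3, 5, 7, 8, 7, 8, 3, 7, 5, 4, 3, 2, 1, 0, 1, 2, 3, 4, 5, 6, 5, 4, 3, 1, 2, 0, 1, 0, 1, 0, 2, 1, 3, 4, 5, 6, 7, 3, 8, 7, 5, 4, 0, 1, 2, 3, 7, 8, 4, 2, 3, 7, 6, 5, 4, 3, 2, 0, 1, 0, 1, 0, 2, 3, 4, 5, 6, 7, 3, 2, 4, 8, 7, 3, 2, 1, 0, 4, 5, 7, 8, 3, 7, 6, 5, 4, 3, 1, 2, 0, 1, 0, 1, 0, 2, 1, 3, 4, 5, 6, 7, 3, 8, 7, 4, 3, 1, 2, 0, 1, 0, 1, 0, 2, 1, 3, 4, 6, 5, 4, 1, 2, 3, 7, 8, 4, 2, 3, 7, 6, 5, 4, 3, 2, 1,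 0, 1, 2, 3, 4, 5, 6, 7, 3, 2, 4, 8, 7, 3, 2, 1, 0, 1, 2, 3, 7, 8, 4, 2, 3, 7, 5, 4, 3, 2, 0, 1, 0, 1, 0, 2, 3, 4, 5, 7, 3, 2, 4, 8, 7, 3, 2, 1, 0, 4, 5, 6, 0, 1, 2, 3, 7, 8, 3, 4, 5, 2, 3, 4, 1, 2, 3, 7, 6, 5, 4, 3, 2, 1, 0, 1, 2, 3, 4, 5, 6, 7, 3, 2, 1, 4, 3, 2, 5, 4, 3, 8, 7, 3, 2, 1, 0, 4, 5, 2, 3, 4, 0, 1, 2, 3, 7, 8, 5, 4, 1, 2, 3, 7, 6, 5, 4, 3, 2, 1, 0, 1, 2, 3, 4, 5, 6, 7, 3, 2, 1, 4, 5, 8, 7, 3, 2, 1, 0, 4, 3, 2, 5, 4, 6, 4, 5, 2, 3, 4, 1, 2, 3, 7, 8, 5, 4, 1, 2, 3, 7, 6, 5, 4, 3, 2, 1, 0, 1, 2, 3, 4, 5, 6, 7, 3, 2, 1, 4, 5, 8, 7, 3, 2, 1, 4, 3, 2, 5, 4, 6]),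
  (1, [7, 8, 7, 3, 4, 2, 3, 7, 5, 4, 3, 2, 1, 0, 1, 2, 3, 4, 5, 7, 3, 2, 4, 3, 7, 8, 7, 5, 2, 3, 4, 1, 2, 3, 7, 8, 7, 5, 3, 4, 2, 3, 7, 6, 5, 4, 3, 2, 1, 0, 1, 2, 3, 4, 5, 6, 7, 3, 2, 4, 3, 5, 7, 8, 7, 3, 2, 1, 4, 3, 2, 5, 8, 3, 7, 5, 2, 3, 4, 1, 2, 3, 7, 8, 5, 3, 4, 1, 2, 3, 7, 6, 5, 4, 3, 2, 1, 0, 1, 2, 3, 4, 5, 6, 7, 3, 2, 1, 4, 3, 5, 8, 7, 3, 2, 1, 4, 3, 2, 5, 7, 3, 7, 6, 4, 5, 2, 3, 4, 1, 2, 3, 7, 8, 4, 5, 2, 3, 4, 1, 2, 3, 7, 6, 5, 4, 3, 2, 1, 0, 1, 2, 3, 4, 5, 6, 7, 3, 2, 1, 4, 3, 2, 5, 4, 8, 7, 3, 2, 1, 4, 3, 2, 5, 4, 6, 7, 6, 5, 4, 2, 3, 7, 4, 5, 2, 3, 4, 1, 2, 3, 7, 8, 5, 2, 3, 4, 1, 2, 3, 7, 6, 5, 4, 3, 2, 1, 0, 1, 2, 3, 4, 5, 6, 7, 3, 2, 1, 4, 3, 2, 5, 8, 7, 3, 2, 1, 4, 3, 2, 5, 4, 7, 3,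 2, 4, 5, 6, 8, 7, 3, 4, 1, 2, 3, 7, 5, 4, 3, 2, 1, 0, 1, 2, 3, 4, 5, 7, 3, 2, 1, 4, 3, 7, 8, 7, 5, 3, 4, 2, 3, 7, 8, 7, 5, 3, 4, 1, 2, 3, 7, 6, 5, 4, 3, 2, 1, 0, 1, 2, 3, 4, 5, 6, 7, 3, 2, 1, 4, 3, 5, 7, 8, 7, 3, 2, 4, 3, 5, 7, 8, 6, 5, 4, 0, 1, 2, 3, 7, 8, 4, 2, 3, 7, 6, 5, 4, 3, 2, 0, 1, 0, 1, 0, 2, 3, 4, 5, 6, 7, 3, 2, 4, 8, 7, 3, 2, 1, 0, 4, 5, 6, 5, 4, 0, 1, 2, 3, 7, 8, 4, 2, 3, 7, 6, 5, 4, 3, 2, 0, 1, 0, 1, 0, 2, 3, 4, 5, 6, 7, 3, 2, 4, 8, 7, 3, 2, 1, 0, 4, 5, 4, 1, 2, 3, 7, 8, 4, 2, 3, 7, 6, 5, 4, 3, 2, 1, 0, 1, 2, 3, 4, 5, 6, 7, 3, 2, 4, 8, 7, 3, 2, 1, 4, 6, 4, 5, 3, 4, 2, 3, 7, 8, 3, 4, 5, 2, 3, 4, 1, 2, 3, 7, 6, 5, 4, 3, 2, 1, 0, 1, 2, 3, 4, 5, 6, 7, 3, 2, 1, 4, 3, 2, 5, 4, 3, 8, 7, 3, 2,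 4, 3, 5, 4, 6, 7, 8, 3, 7, 6, 5, 4, 3, 1, 2, 0, 1, 0, 1, 0, 2, 1, 3, 4, 5, 6, 7, 3, 8, 7, 6, 5, 4, 1, 2, 3, 7, 8, 4, 2, 3, 7, 6, 5, 4, 3, 2, 1, 0, 1, 2, 3, 4, 5, 6, 7, 3, 2, 4, 8, 7, 3, 2, 1, 4, 5, 6, 0, 1, 2, 3, 7, 8, 3, 4, 5, 2, 3, 4, 1, 2, 3, 7, 6, 5, 4, 3, 2, 1, 0, 1, 2, 3, 4, 5, 6, 7, 3, 2, 1, 4, 3, 2, 5, 4, 3, 8, 7, 3, 2, 1, 0, 6, 5, 4, 3, 7, 8, 3, 4, 5, 2, 3, 4, 1, 2, 3, 7, 6, 5, 4, 3, 2, 1, 0, 1, 2, 3, 4, 5, 6, 7, 3, 2, 1, 4, 3, 2, 5, 4, 3, 8, 7, 3, 4, 5, 6, 4, 5, 2, 3, 4, 0, 1, 2, 3, 7, 8, 5, 4, 1, 2, 3, 7, 6, 5, 4, 3, 2, 1, 0, 1, 2, 3, 4, 5, 6, 7, 3, 2, 1, 4, 5, 8, 7, 3, 2, 1, 0, 4, 3, 2, 5, 4]),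
  (2, [2, 3, 7, 8, 4, 1, 2, 3, 7, 5, 4, 3, 2, 1, 0, 1, 2, 3, 4, 5, 7, 3, 2, 1, 3, 7, 4, 5, 2, 3, 4, 1, 2, 3, 7, 8, 5, 2, 3, 4, 1, 2, 3, 7, 6, 5, 4, 3, 2, 1, 0, 1, 2, 3, 4, 5, 6, 7, 3, 2, 1, 4, 3, 2, 5, 8, 7, 3, 2, 1, 4, 3, 2, 5, 4, 7, 3, 4, 8, 7, 3, 2, 7, 8, 7, 3, 4, 2, 3, 7, 5, 4, 3, 2, 1, 0, 1, 2, 3, 4, 5, 7, 3, 2, 4, 3, 7, 8, 7, 8, 7, 5, 3, 4, 2, 3, 7, 8, 7, 5, 3, 4, 1, 2, 3, 7, 6, 5, 4, 3, 2, 1, 0, 1, 2, 3, 4, 5, 6, 7, 3, 2, 1, 4, 3, 5, 7, 8, 7, 3, 2, 4, 3, 5, 7, 8, 5, 4, 1, 2, 3, 7, 8, 4, 1, 2, 3, 7, 5, 4, 3, 2, 1, 0, 1, 2, 3, 4, 5, 7, 3, 2, 1, 4, 8, 7, 3, 2, 1, 4, 5, 6, 4, 5, 2, 3, 4, 1, 2, 3, 7, 8, 5, 4, 1, 2, 3, 7, 6, 5, 4, 3, 2, 1, 0, 1, 2, 3, 4, 5, 6, 7, 3, 2, 1, 4, 5, 8, 7, 3, 2, 1, 4, 3,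 2, 5, 4, 6, 2, 3, 7, 1, 2, 3, 4, 0, 1, 2, 3, 7, 8, 3, 4, 5, 2, 3, 4, 1, 2, 3, 7, 6, 5, 4, 3, 2, 1, 0, 1, 2, 3, 4, 5, 6, 7, 3, 2, 1, 4, 3, 2, 5, 4, 3, 8, 7, 3, 2, 1, 0, 4, 3, 2, 1, 7, 3, 2, 7, 3, 4, 1, 2, 3, 7, 5, 4, 3, 2, 1, 0, 1, 2, 3, 4, 5, 7, 3, 2, 1, 4, 3, 7, 4, 2, 3, 7, 8, 4, 2, 3, 7, 6, 5, 4, 3, 2, 1, 0, 1, 2, 3, 4, 5, 6, 7, 3, 2, 4, 8, 7, 3, 2, 4, 7, 8, 3, 7, 4, 5, 2, 3, 4, 0, 1, 2, 3, 7, 8, 5, 4, 1, 2, 3, 7, 6, 5, 4, 3, 2, 1, 0, 1, 2, 3, 4, 5, 6, 7, 3, 2, 1, 4, 5, 8, 7, 3, 2, 1, 0, 4, 3, 2, 5, 4, 6, 5, 4, 3, 1, 2, 0, 1, 0, 1, 0, 2, 1, 3, 4, 5, 6, 7, 3, 8, 7, 5, 4, 0, 1, 2, 3, 7, 8, 4, 2, 3, 7, 6, 5, 4, 3, 2, 0, 1, 0, 1, 0, 2, 3, 4, 5, 6, 7, 3, 2, 4, 8, 7, 3, 2, 1, 0, 4, 5, 2, 3, 7, 8, 4, 1,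 2, 3, 7, 4, 5, 2, 3, 4, 1, 2, 3, 7, 8, 5, 4, 1, 2, 3, 7, 6, 5, 4, 3, 2, 1, 0, 1, 2, 3, 4, 5, 6, 7, 3, 2, 1, 4, 5, 8, 7, 3, 2, 1, 4, 3, 2, 5, 4, 7, 3, 2, 1, 3, 7, 5, 2, 3, 4, 0, 1, 2, 3, 7, 8, 5, 2, 3, 4, 1, 2, 3, 7, 6, 5, 4, 3, 2, 1, 0, 1, 2, 3, 4, 5, 6, 7, 3, 2, 1, 4, 3, 2, 5, 8, 7, 3, 2, 1, 0, 4, 3, 2, 5, 7, 3, 4, 8, 7, 3, 2, 0, 1, 2, 3, 7, 8, 5, 4, 3, 7, 6, 5, 4, 3, 1, 2, 0, 1, 0, 1, 0, 2, 1, 3, 4, 5, 6, 7, 3, 4, 5, 8, 7, 3, 2, 1, 0, 6, 5, 4, 3, 7, 8, 1, 2, 3, 7, 4, 3, 2, 1, 0, 1, 2, 3, 4, 7, 3, 2, 1, 8, 7, 3, 4, 5, 6, 4, 5, 2, 3, 4, 0, 1, 2, 3, 7, 8, 5, 4, 1, 2, 3, 7, 6, 5, 4, 3, 2, 1, 0, 1, 2, 3, 4, 5, 6, 7, 3, 2, 1, 4, 5, 8, 7, 3, 2, 1, 0, 4, 3, 2, 5, 4]),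
  (1, [8, 7, 6, 4, 5, 2, 3, 4, 1, 2, 3, 7, 8, 4, 5, 2, 3, 4, 1, 2, 3, 7, 6, 5, 4, 3, 2, 1, 0, 1, 2, 3, 4, 5, 6, 7, 3, 2, 1, 4, 3, 2, 5, 4, 8, 7, 3, 2, 1, 4, 3, 2, 5, 4, 6, 7, 8, 5, 4, 1, 2, 3, 7, 8, 4, 1, 2, 3, 7, 5, 4, 3, 2, 1, 0, 1, 2, 3, 4, 5, 7, 3, 2, 1, 4, 8, 7, 3, 2, 1, 4, 5, 2, 3, 7, 8, 4, 3, 7, 4, 5, 2, 3, 4, 1, 2, 3, 7, 8, 5, 2, 3, 4, 1, 2, 3, 7, 6, 5, 4, 3, 2, 1, 0, 1, 2, 3, 4, 5, 6, 7, 3, 2, 1, 4, 3, 2, 5, 8, 7, 3, 2, 1, 4, 3, 2, 5, 4, 7, 3, 4, 8, 7, 3, 2, 5, 4, 3, 7, 8, 3, 4, 2, 3, 7, 6, 5, 4, 3, 2, 1, 0, 1, 2, 3, 4, 5, 6, 7, 3, 2, 4, 3, 8, 7, 3, 4, 5, 2, 3, 7, 1, 2, 3, 4, 0, 1, 2, 3, 7, 8, 3, 4, 5, 2, 3, 4, 1, 2, 3, 7, 6, 5, 4, 3, 2, 1, 0, 1, 2, 3, 4, 5, 6, 7, 3, 2, 1, 4, 3, 2, 5, 4, 3,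 8, 7, 3, 2, 1, 0, 4, 3, 2, 1, 7, 3, 2, 7, 3, 4, 1, 2, 3, 7, 5, 4, 3, 2, 1, 0, 1, 2, 3, 4, 5, 7, 3, 2, 1, 4, 3, 7, 5, 6, 4, 5, 3, 4, 1, 2, 3, 7, 8, 4, 5, 3, 4, 1, 2, 3, 7, 6, 5, 4, 3, 2, 1, 0, 1, 2, 3, 4, 5, 6, 7, 3, 2, 1, 4, 3, 5, 4, 8, 7, 3, 2, 1, 4, 3, 5, 4, 6, 5, 7, 8, 3, 7, 4, 5, 2, 3, 4, 0, 1, 2, 3, 7, 8, 5, 4, 1, 2, 3, 7, 6, 5, 4, 3, 2, 1, 0, 1, 2, 3, 4, 5, 6, 7, 3, 2, 1, 4, 5, 8, 7, 3, 2, 1, 0, 4, 3, 2, 5, 4, 7, 3, 8, 7, 0, 1, 2, 3, 7, 8, 5, 4, 3, 7, 6, 5, 4, 3, 1, 2, 0, 1, 0, 1, 0, 2, 1, 3, 4, 5, 6, 7, 3, 4, 5, 8, 7, 3, 2, 1, 0, 1, 2, 3, 7, 8, 3, 4, 5, 2, 3, 4, 1, 2, 3, 7, 6, 5, 4, 3, 2, 1, 0, 1, 2, 3, 4, 5, 6, 7, 3, 2, 1, 4, 3, 2, 5, 4, 3, 8, 7, 3, 2, 1, 6, 5, 4, 1, 2, 3, 7, 8, 4, 2, 3, 7,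 6, 5, 4, 3, 2, 1, 0, 1, 2, 3, 4, 5, 6, 7, 3, 2, 4, 8, 7, 3, 2, 1, 4, 5, 4, 5, 3, 4, 2, 3, 7, 8, 3, 4, 5, 2, 3, 4, 1, 2, 3, 7, 6, 5, 4, 3, 2, 1, 0, 1, 2, 3, 4, 5, 6, 7, 3, 2, 1, 4, 3, 2, 5, 4, 3, 8, 7, 3, 2, 4, 3, 5, 4, 6, 2, 3, 7, 8, 4, 3, 7, 5, 2, 3, 4, 0, 1, 2, 3, 7, 8, 5, 2, 3, 4, 1, 2, 3, 7, 6, 5, 4, 3, 2, 1, 0, 1, 2, 3, 4, 5, 6, 7, 3, 2, 1, 4, 3, 2, 5, 8, 7, 3, 2, 1, 0, 4, 3, 2, 5, 7, 3, 4, 8, 7, 3, 2, 5, 4, 2, 3, 7, 8, 4, 2, 3, 7, 6, 5, 4, 3, 2, 1, 0, 1, 2, 3, 4, 5, 6, 7, 3, 2, 4, 8, 7, 3, 2, 4, 5, 0, 1, 2, 3, 7, 8, 3, 4, 5, 2, 3, 4, 1, 2, 3, 7, 6, 5, 4, 3, 2, 1, 0, 1, 2, 3, 4, 5, 6, 7, 3, 2, 1, 4, 3, 2, 5, 4, 3, 8, 7, 3, 2, 1, 0, 4, 5, 2, 3, 4, 0, 1, 2, 3, 7, 8, 5, 4, 1, 2, 3, 7, 6, 5, 4, 3,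 2, 1, 0, 1, 2, 3, 4, 5, 6, 7, 3, 2, 1, 4, 5, 8, 7, 3, 2, 1, 0, 4, 3, 2, 5, 4, 6, 4, 5, 2, 3, 4, 1, 2, 3, 7, 8, 5, 4, 1, 2, 3, 7, 6, 5, 4, 3, 2, 1, 0, 1, 2, 3, 4, 5, 6, 7, 3, 2, 1, 4, 5, 8, 7, 3, 2, 1, 4, 3, 2, 5, 4, 6]),
  (1, [4, 5, 3, 4, 2, 3, 1, 2, 0, 1, 0, 1, 0, 2, 1, 3, 2, 4, 3, 5, 4, 8, 6, 5, 4, 2, 3, 7, 4, 5, 2, 3, 4, 1, 2, 3, 7, 8, 5, 2, 3, 4, 1, 2, 3, 7, 6, 5, 4, 3, 2, 1, 0, 1, 2, 3, 4, 5, 6, 7, 3, 2, 1, 4, 3, 2, 5, 8, 7, 3, 2, 1, 4, 3, 2, 5, 4, 7, 3, 2, 4, 5, 6, 7, 5, 3, 4, 2, 3, 7, 8, 7, 5, 3, 4, 1, 2, 3, 7, 6, 5, 4, 3, 2, 1, 0, 1, 2, 3, 4, 5, 6, 7, 3, 2, 1, 4, 3, 5, 7, 8, 7, 3, 2, 4, 3, 5, 7, 8, 5, 6, 4, 5, 3, 4, 1, 2, 3, 7, 8, 4, 5, 3, 4, 1, 2, 3, 7, 6, 5, 4, 3, 2, 1, 0, 1, 2, 3, 4, 5,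 6, 7, 3, 2, 1, 4, 3, 5, 4, 8, 7, 3, 2, 1, 4, 3, 5, 4, 6, 5, 2, 3, 7, 8, 3, 7, 2, 3, 4, 1, 2, 3, 7, 5, 4, 3, 2, 1, 0, 1, 2, 3, 4, 5, 7, 3, 2, 1, 4, 3, 2, 7, 3, 8, 7, 3, 2, 7, 8, 3, 7, 4, 5, 2, 3, 4, 0, 1, 2, 3, 7, 8, 5, 4, 1, 2, 3, 7, 6, 5, 4, 3, 2, 1, 0, 1, 2, 3, 4, 5, 6, 7, 3, 2, 1, 4, 5, 8, 7, 3, 2, 1, 0, 4, 3, 2, 5, 4, 7, 3, 8, 7, 2, 3, 7, 8, 1, 2, 3, 7, 4, 3, 2, 1, 0, 1, 2, 3, 4, 7, 3, 2, 1, 8, 7, 3, 2, 6, 5, 4, 0, 1, 2, 3, 7, 8, 4, 2, 3, 7, 6, 5, 4, 3, 2, 0, 1, 0, 1, 0, 2, 3, 4, 5, 6, 7, 3, 2, 4, 8, 7, 3, 2, 1, 0, 4, 5, 6, 5, 4, 0, 1, 2, 3, 7, 8, 4, 2, 3, 7, 6, 5, 4, 3, 2, 1, 0, 1, 2, 3, 4, 5, 6, 7, 3, 2, 4, 8, 7, 3, 2, 1, 0, 4, 5, 4, 3, 7, 8, 2, 3, 7, 4, 3, 2, 1, 0, 1, 2, 3, 4, 7, 3, 2, 8, 7,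 3, 4, 6, 5, 4, 0, 1, 2, 3, 7, 8, 4, 2, 3, 7, 5, 4, 3, 2, 0, 1, 0, 1, 0, 2, 3, 4, 5, 7, 3, 2, 4, 8, 7, 3, 2, 1, 0, 4, 5, 6, 0, 1, 2, 3, 7, 8, 5, 4, 3, 7, 6, 5, 4, 3, 1, 2, 0, 1, 0, 1, 0, 2, 1, 3, 4, 5, 6, 7, 3, 4, 5, 8, 7, 3, 2, 1, 0, 6, 4, 5, 2, 3, 4, 1, 2, 3, 7, 8, 5, 4, 1, 2, 3, 7, 6, 5, 4, 3, 2, 1, 0, 1, 2, 3, 4, 5, 6, 7, 3, 2, 1, 4, 5, 8, 7, 3, 2, 1, 4, 3, 2, 5, 4, 6]),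
  (2, [3, 7, 4, 5, 3, 4, 1, 2, 3, 7, 8, 7, 4, 5, 2, 3, 4, 1, 2, 3, 7, 6, 5, 4, 3, 2, 1, 0, 1, 2, 3, 4, 5, 6, 7, 3, 2, 1, 4, 3, 2, 5, 4, 7, 8, 7, 3, 2, 1, 4, 3, 5, 4, 7, 3, 7, 8, 4, 3, 7, 6, 5, 4, 3, 1, 2, 0, 1, 0, 1, 0, 2, 1, 3, 4, 5, 6, 7, 3, 4, 8, 7, 5, 3, 4, 1, 2, 3, 7, 8, 4, 1, 2, 3, 7, 6, 5, 4, 3, 2, 1, 0, 1, 2, 3, 4, 5, 6, 7, 3, 2, 1, 4, 8, 7, 3, 2, 1, 4, 3, 5, 2, 3, 7, 1, 2, 3, 4, 0, 1, 2, 3, 7, 8, 4, 5, 2, 3, 4, 1, 2, 3, 7, 6, 5, 4, 3, 2, 1, 0, 1, 2, 3, 4, 5, 6, 7, 3, 2, 1, 4, 3, 2, 5, 4, 3, 4, 5, 2, 3, 4, 1, 2, 3, 7, 6, 5, 4, 3, 2, 1, 0, 1, 2, 3, 4, 5, 6, 7, 3, 2, 1, 4, 3, 2, 5, 4, 3, 8, 7, 3, 2, 1, 0, 4, 3, 2, 1, 7, 3, 2, 8, 7, 5, 3, 4, 2, 3, 7, 8, 7, 5, 3, 4, 1, 2, 3, 7, 6, 5, 4, 3, 2, 1,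 0, 1, 2, 3, 4, 5, 6, 7, 3, 2, 1, 4, 3, 5, 7, 8, 7, 3, 2, 4, 3, 5, 7, 8, 7, 8, 3, 7, 4, 5, 3, 4, 1, 2, 3, 7, 8, 3, 4, 5, 2, 3, 4, 1, 2, 3, 7, 6, 5, 4, 3, 2, 1, 0, 1, 2, 3, 4, 5, 6, 7, 3, 2, 1, 4, 3, 2, 5, 4, 3, 8, 7, 3, 2, 1, 4, 3, 5, 4, 7, 3, 8, 7, 1, 2, 3, 7, 8, 3, 4, 5, 2, 3, 4, 1, 2, 3, 7, 6, 5, 4, 3, 2, 1, 0, 1, 2, 3, 4, 5, 6, 7, 3, 2, 1, 4, 3, 2, 5, 4, 3, 8, 7, 3, 2, 1, 2, 3, 7, 8, 4, 1, 2, 3, 7, 4, 5, 2, 3, 4, 1, 2, 3, 7, 8, 5, 4, 1, 2, 3, 7, 6, 5, 4, 3, 2, 1, 0, 1, 2, 3, 4, 5, 6, 7, 3, 2, 1, 4, 5, 8, 7, 3, 2, 1, 4, 3, 2, 5, 4, 7, 3, 2, 1, 3, 7, 5, 2, 3, 4, 0, 1, 2, 3, 7, 8, 5, 2, 3, 4, 1, 2, 3, 7, 6, 5, 4, 3, 2, 1, 0, 1, 2, 3, 4, 5, 6, 7, 3, 2, 1, 4, 3, 2, 5, 8, 7, 3, 2, 1, 0, 4, 3, 2, 5, 7,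 3, 4, 8, 7, 3, 2, 7, 8, 3, 7, 6, 5, 4, 3, 1, 2, 0, 1, 0, 1, 0, 2, 1, 3, 4, 5, 6, 7, 3, 8, 7, 6, 5, 4, 0, 1, 2, 3, 7, 8, 4, 2, 3, 7, 5, 4, 3, 2, 0, 1, 0, 1, 0, 2, 3, 4, 5, 7, 3, 2, 4, 8, 7, 3, 2, 1, 0, 3, 7, 8, 1, 2, 3, 7, 4, 3, 2, 1, 0, 1, 2, 3, 4, 7, 3, 2, 1, 8, 7, 3, 4, 5, 4, 5, 2, 3, 4, 1, 2, 3, 7, 8, 5, 4, 1, 2, 3, 7, 6, 5, 4, 3, 2, 1, 0, 1, 2, 3, 4, 5, 6, 7, 3, 2, 1, 4, 5, 8, 7, 3, 2, 1, 4, 3, 2, 5, 4, 6]),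
  (1, [3, 7, 4, 5, 3, 4, 1, 2, 3, 7, 8, 7, 4, 5, 2, 3, 4, 1, 2, 3, 7, 6, 5, 4, 3, 2, 1, 0, 1, 2, 3, 4, 5, 6, 7, 3, 2, 1, 4, 3, 2, 5, 4, 7, 8, 7, 3, 2, 1, 4, 3, 5, 4, 7, 3, 5, 2, 3, 4, 1, 2, 3, 7, 8, 7, 5, 3, 4, 2, 3, 7, 6, 5, 4, 3, 2, 1, 0, 1, 2, 3, 4, 5, 6, 7, 3, 2, 4, 3, 5, 7, 8, 7, 3, 2, 1, 4, 3, 2, 5, 6, 5, 4, 3, 7, 8, 3, 7, 4, 5, 3, 4, 2, 3, 7, 6, 5, 4, 3, 2, 0, 1, 0, 1, 0, 2, 3, 4, 5, 6, 7, 3, 2, 4, 3, 5, 4, 7, 3, 8, 7, 3, 4, 5, 6, 7, 8, 7, 3, 4, 2, 3, 7, 5, 4, 3, 2, 1, 0, 1, 2, 3, 4, 5, 7, 3, 2, 4, 3, 7, 8, 7, 4, 5, 3, 4, 2, 3, 1, 2, 0, 1, 0, 1, 0, 2, 1, 3, 2, 4, 3, 5, 4, 8, 6, 5, 4, 2, 3, 7, 4, 5, 2, 3, 4, 1, 2, 3, 7, 8, 5, 2, 3, 4, 1, 2, 3, 7, 6, 5, 4, 3, 2, 1, 0, 1, 2, 3, 4, 5, 6, 7, 3, 2,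 1, 4, 3, 2, 5, 8, 7, 3, 2, 1, 4, 3, 2, 5, 4, 7, 3, 2, 4, 5, 6, 8, 7, 2, 3, 4, 1, 2, 3, 7, 8, 3, 4, 1, 2, 3, 7, 5, 4, 3, 2, 1, 0, 1, 2, 3, 4, 5, 7, 3, 2, 1, 4, 3, 8, 7, 3, 2, 1, 4, 3, 2, 7, 5, 6, 4, 5, 3, 4, 1, 2, 3, 7, 8, 4, 5, 3, 4, 1, 2, 3, 7, 6, 5, 4, 3, 2, 1, 0, 1, 2, 3, 4, 5, 6, 7, 3, 2, 1, 4, 3, 5, 4, 8, 7, 3, 2, 1, 4, 3, 5, 4, 6, 5, 6, 5, 4, 0, 1, 2, 3, 7, 8, 4, 2, 3, 7, 6, 5, 4, 3, 2, 0, 1, 0, 1, 0, 2, 3, 4, 5, 6, 7, 3, 2, 4, 8, 7, 3, 2, 1, 0, 4, 5, 6, 7, 8, 3, 7, 4, 5, 3, 4, 1, 2, 3, 7, 8, 3, 4, 5, 2, 3, 4, 1, 2, 3, 7, 6, 5, 4, 3, 2, 1, 0, 1, 2, 3, 4, 5, 6, 7, 3, 2, 1, 4, 3, 2, 5, 4, 3, 8, 7, 3, 2, 1, 4, 3, 5, 4, 6, 5, 4, 3, 1, 2, 0, 1, 0, 1, 0, 2, 1, 3, 4, 5, 6, 7, 3, 8, 7, 5, 4, 2, 3, 7,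 8, 4, 2, 3, 7, 6, 5, 4, 3, 2, 1, 0, 1, 2, 3, 4, 5, 6, 7, 3, 2, 4, 8, 7, 3, 2, 4, 5, 2, 3, 7, 8, 4, 3, 7, 5, 2, 3, 4, 0, 1, 2, 3, 7, 8, 5, 2, 3, 4, 1, 2, 3, 7, 6, 5, 4, 3, 2, 1, 0, 1, 2, 3, 4, 5, 6, 7, 3, 2, 1, 4, 3, 2, 5, 8, 7, 3, 2, 1, 0, 4, 3, 2, 5, 7, 3, 4, 8, 7, 3, 2, 6, 5, 4, 3, 7, 8, 3, 4, 5, 2, 3, 4, 1, 2, 3, 7, 6, 5, 4, 3, 2, 1, 0, 1, 2, 3, 4, 5, 6, 7, 3, 2, 1, 4, 3, 2, 5, 4, 3, 8, 7, 3, 4, 5, 6, 4, 5, 2, 3, 4, 0, 1, 2, 3, 7, 8, 5, 4, 1, 2, 3, 7, 6, 5, 4, 3, 2, 1, 0, 1, 2, 3, 4, 5, 6, 7, 3, 2, 1, 4, 5, 8, 7, 3, 2, 1, 0, 4, 3, 2, 5, 4, 6, 4, 5, 2, 3, 4, 1, 2, 3, 7, 8, 5, 4, 1, 2, 3, 7, 6, 5, 4, 3, 2, 1, 0, 1, 2, 3, 4, 5, 6, 7, 3, 2, 1, 4, 5, 8, 7, 3, 2, 1, 4, 3, 2, 5, 4, 6]),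
  (2, [8, 7, 5, 3, 4, 2, 3, 7, 8, 7, 5, 3, 4, 1, 2, 3, 7, 6, 5, 4, 3, 2, 1, 0, 1, 2, 3, 4, 5, 6, 7, 3, 2, 1, 4, 3, 5, 7, 8, 7, 3, 2, 4, 3, 5, 7, 8, 5, 3, 4, 1, 2, 3, 7, 8, 4, 1, 2, 3, 7, 6, 5, 4, 3, 2, 1, 0, 1, 2, 3, 4, 5, 6, 7, 3, 2, 1, 4, 8, 7, 3, 2, 1, 4, 3, 5, 3, 7, 4, 5, 3, 4, 1, 2, 3, 7, 8, 7, 4, 5, 2, 3, 4, 1, 2, 3, 7, 6, 5, 4, 3, 2, 1, 0, 1, 2, 3, 4, 5, 6, 7, 3, 2, 1, 4, 3, 2, 5, 4, 7, 8, 7, 3, 2, 1, 4, 3, 5, 4, 5, 2, 3, 4, 1, 2, 3, 7, 8, 7, 5, 2, 3, 4, 1, 2, 3, 7, 6, 5, 4, 3, 2, 1, 0, 1, 2, 3, 4, 5, 6, 7, 3, 2, 1, 4, 3, 2, 5, 7, 8, 7, 3, 2, 1, 4, 3, 2, 5, 7, 3, 8, 7, 3, 4, 2, 3, 7, 8, 7, 5, 3, 4, 2, 3, 7, 6, 5, 4, 3, 2, 1, 0, 1, 2, 3, 4, 5, 6, 7, 3, 2, 4, 3, 5, 7, 8, 7, 3, 2, 4, 3, 7, 8, 4,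 1, 2, 3, 7, 8, 4, 2, 3, 7, 5, 4, 3, 2, 0, 1, 0, 1, 0, 2, 3, 4, 5, 7, 3, 2, 4, 8, 7, 3, 2, 1, 4, 7, 2, 3, 4, 1, 2, 3, 7, 8, 3, 4, 1, 2, 3, 7, 5, 4, 3, 2, 1, 0, 1, 2, 3, 4, 5, 7, 3, 2, 1, 4, 3, 8, 7, 3, 2, 1, 4, 3, 2, 8, 3, 7, 5, 4, 3, 2, 1, 0, 1, 2, 3, 4, 5, 7, 3, 8, 7, 6, 5, 4, 3, 7, 8, 1, 2, 3, 7, 4, 3, 2, 1, 0, 1, 2, 3, 4, 7, 3, 2, 1, 8, 7, 3, 4, 5, 6, 4, 2, 3, 7, 8, 4, 2, 3, 7, 6, 5, 4, 3, 2, 1, 0, 1, 2, 3, 4, 5, 6, 7, 3, 2, 4, 8, 7, 3, 2, 4, 5, 4, 0, 1, 2, 3, 7, 8, 4, 2, 3, 7, 6, 5, 4, 3, 2, 0, 1, 0, 1, 0, 2, 3, 4, 5, 6, 7, 3, 2, 4, 8, 7, 3, 2, 1, 0, 4, 5, 6, 5, 4, 1, 2, 3, 7, 8, 4, 2, 3, 7, 6, 5, 4, 3, 2, 1, 0, 1, 2, 3, 4, 5, 6, 7, 3, 2, 4, 8, 7, 3, 2, 1, 4, 5, 6, 4, 3, 7, 8, 2, 3, 7, 4, 3, 2,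 1, 0, 1, 2, 3, 4, 7, 3, 2, 5, 4, 3, 7, 6, 5, 4, 3, 1, 2, 0, 1, 0, 1, 0, 2, 1, 3, 4, 5, 6, 7, 3, 4, 5, 8, 7, 3, 4, 6, 5, 4, 0, 1, 2, 3, 7, 8, 4, 2, 3, 7, 5, 4, 3, 2, 0, 1, 0, 1, 0, 2, 3, 4, 5, 7, 3, 2, 4, 8, 7, 3, 2, 1, 0, 1, 2, 3, 7, 8, 4, 2, 3, 7, 6, 5, 4, 3, 2, 1, 0, 1, 2, 3, 4, 5, 6, 7, 3, 2, 4, 8, 7, 3, 2, 1, 4, 5, 6, 0, 1, 2, 3, 7, 8, 5, 4, 3, 7, 6, 5, 4, 3, 1, 2, 0, 1, 0, 1, 0, 2, 1, 3, 4, 5, 6, 7, 3, 4, 5, 3, 4, 5, 2, 3, 4, 1, 2, 3, 7, 6, 5, 4, 3, 2, 1, 0, 1, 2, 3, 4, 5, 6, 7, 3, 2, 1, 4, 3, 2, 5, 4, 3, 8, 7, 3, 2, 1, 0, 4, 5, 2, 3, 4, 0, 1, 2, 3, 7, 8, 5, 4, 1, 2, 3, 7, 6, 5, 4, 3, 2, 1, 0, 1, 2, 3, 4, 5, 6, 7, 3, 2, 1, 4, 5, 8, 7, 3, 2, 1, 0, 4, 3, 2, 5, 4, 6, 4, 5, 2, 3, 4, 1, 2, 3, 7, 8,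 5, 4, 1, 2, 3, 7, 6, 5, 4, 3, 2, 1, 0, 1, 2, 3, 4, 5, 6, 7, 3, 2, 1, 4, 5, 8, 7, 3, 2, 1, 4, 3, 2, 5, 4, 6]),
  (2, [8, 7, 5, 3, 4, 2, 3, 7, 8, 7, 5, 3, 4, 1, 2, 3, 7, 6, 5, 4, 3, 2, 1, 0, 1, 2, 3, 4, 5, 6, 7, 3, 2, 1, 4, 3, 5, 7, 8, 7, 3, 2, 4, 3, 5, 7, 8, 5, 3, 4, 1, 2, 3, 7, 8, 4, 1, 2, 3, 7, 6, 5, 4, 3, 2, 1, 0, 1, 2, 3, 4, 5, 6, 7, 3, 2, 1, 4, 8, 7, 3, 2, 1, 4, 3, 4, 1, 2, 3, 7, 8, 4, 1, 2, 3, 7, 5, 4, 3, 2, 1, 0, 1, 2, 3, 4, 5, 7, 3, 2, 1, 4, 8, 7, 3, 2, 1, 4, 5, 2, 3, 7, 8, 4, 3, 7, 4, 5, 2, 3, 4, 1, 2, 3, 7, 8, 5, 2, 3, 4, 1, 2, 3, 7, 6, 5, 4, 3, 2, 1, 0, 1, 2, 3, 4, 5, 6, 7, 3, 2, 1, 4, 3, 2, 5, 8, 7, 3, 2, 1, 4, 3, 2, 5, 4, 7, 3, 4, 8, 7, 3, 2, 8, 7, 6, 4, 5, 2, 3, 4, 1, 2, 3, 7, 8, 4, 5,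 2, 3, 4, 1, 2, 3, 7, 6, 5, 4, 3, 2, 1, 0, 1, 2, 3, 4, 5, 6, 7, 3, 2, 1, 4, 3, 2, 5, 4, 8, 7, 3, 2, 1, 4, 3, 2, 5, 4, 6, 7, 8, 4, 5, 3, 4, 2, 3, 1, 2, 0, 1, 0, 1, 0, 2, 1, 3, 2, 4, 3, 5, 4, 6, 4, 5, 2, 3, 4, 1, 2, 3, 7, 8, 5, 4, 1, 2, 3, 7, 6, 5, 4, 3, 2, 1, 0, 1, 2, 3, 4, 5, 6, 7, 3, 2, 1, 4, 5, 8, 7, 3, 2, 1, 4, 3, 2, 5, 4, 6, 5, 4, 3, 7, 8, 3, 4, 2, 3, 7, 6, 5, 4, 3, 2, 1, 0, 1, 2, 3, 4, 5, 6, 7, 3, 2, 4, 3, 8, 7, 3, 4, 5, 7, 8, 3, 7, 5, 4, 3, 2, 1, 0, 1, 2, 3, 4, 5, 7, 3, 8, 7, 2, 3, 7, 8, 3, 7, 2, 3, 4, 1, 2, 3, 7, 5, 4, 3, 2, 1, 0, 1, 2, 3, 4, 5, 7, 3, 2, 1, 4, 3, 2, 7, 3, 8, 7, 3, 2, 0, 1, 2, 3, 7, 8, 5, 4, 3, 7, 6, 5, 4, 3, 1, 2, 0, 1, 0, 1, 0, 2, 1, 3, 4, 5, 6, 7, 3, 4, 5, 8, 7, 3, 2, 1, 0,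 5, 4, 0, 1, 2, 3, 7, 8, 4, 2, 3, 7, 6, 5, 4, 3, 2, 0, 1, 0, 1, 0, 2, 3, 4, 5, 6, 7, 3, 2, 4, 8, 7, 3, 2, 1, 0, 4, 5, 7, 8, 3, 7, 6, 4, 5, 2, 3, 4, 0, 1, 2, 3, 7, 8, 5, 4, 1, 2, 3, 7, 6, 5, 4, 3, 2, 1, 0, 1, 2, 3, 4, 5, 6, 7, 3, 2, 1, 4, 5, 8, 7, 3, 2, 1, 0, 4, 3, 2, 5, 4, 6, 7, 3, 8, 7, 6, 4, 5, 3, 4, 2, 3, 7, 8, 3, 4, 5, 2, 3, 4, 1, 2, 3, 7, 6, 5, 4, 3, 2, 1, 0, 1, 2, 3, 4, 5, 6, 7, 3, 2, 1, 4, 3, 2, 5, 4, 3, 8, 7, 3, 2, 4, 3, 5, 4, 5, 4, 1, 2, 3, 7, 8, 4, 2, 3, 7, 6, 5, 4, 3, 2, 1, 0, 1, 2, 3, 4, 5, 6, 7, 3, 2, 4, 8, 7, 3, 2, 1, 0, 1, 2, 3, 7, 8, 4, 2, 3, 7, 5, 4, 3, 2, 0, 1, 0, 1, 0, 2, 3, 4, 5, 7, 3, 2, 4, 8, 7, 3, 2, 1, 0, 3, 7, 8, 1, 2, 3, 7, 4, 3, 2, 1, 0, 1, 2, 3, 4, 7, 3, 2, 1, 3, 4, 5, 2,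 3, 4, 1, 2, 3, 7, 6, 5, 4, 3, 2, 1, 0, 1, 2, 3, 4, 5, 6, 7, 3, 2, 1, 4, 3, 2, 5, 4, 3, 8, 7, 3, 4, 5, 6]),
  (0, [8, 3, 7, 5, 2, 3, 4, 1, 2, 3, 7, 8, 5, 3, 4, 1, 2, 3, 7, 6, 5, 4, 3, 2, 1, 0, 1, 2, 3, 4, 5, 6, 7, 3, 2, 1, 4, 3, 5, 8, 7, 3, 2, 1, 4, 3, 2, 5, 7, 3, 8, 4, 2, 3, 7, 8, 3, 4, 2, 3, 7, 5, 4, 3, 2, 1, 0, 1, 2, 3, 4, 5, 7, 3, 2, 4, 3, 8, 7, 3, 2, 4, 2, 3, 7, 8, 4, 3, 7, 4, 5, 2, 3, 4, 1, 2, 3, 7, 8, 5, 2, 3, 4, 1, 2, 3, 7, 6, 5, 4, 3, 2, 1, 0, 1, 2, 3, 4, 5, 6, 7, 3, 2, 1, 4, 3, 2, 5, 8, 7, 3, 2, 1, 4, 3, 2, 5, 4, 7, 3, 4, 8, 7, 3, 2, 3, 7, 5, 2, 3, 4, 1, 2, 3, 7, 8, 7, 5, 2, 3, 4, 1, 2, 3, 7, 6, 5, 4, 3, 2, 1, 0, 1, 2, 3, 4, 5, 6, 7, 3, 2, 1, 4, 3, 2, 5, 7, 8, 7, 3, 2, 1, 4, 3, 2, 5, 7, 3,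 2, 3, 4, 1, 2, 3, 7, 8, 7, 2, 3, 4, 1, 2, 3, 7, 5, 4, 3, 2, 1, 0, 1, 2, 3, 4, 5, 7, 3, 2, 1, 4, 3, 2, 7, 8, 7, 3, 2, 1, 4, 7, 1, 2, 3, 4, 0, 1, 2, 3, 7, 8, 4, 5, 2, 3, 4, 1, 2, 3, 7, 6, 5, 4, 3, 2, 1, 0, 1, 2, 3, 4, 5, 6, 7, 3, 2, 1, 4, 3, 2, 5, 4, 8, 7, 3, 2, 1, 0, 4, 3, 2, 1, 7, 3, 2, 7, 5, 3, 4, 1, 2, 3, 7, 8, 7, 4, 5, 2, 3, 4, 1, 2, 3, 7, 6, 5, 4, 3, 2, 1, 0, 1, 2, 3, 4, 5, 6, 7, 3, 2, 1, 4, 3, 2, 5, 4, 7, 8, 7, 3, 2, 1, 4, 3, 5, 8, 3, 7, 4, 5, 3, 4, 1, 2, 3, 7, 8, 3, 4, 5, 2, 3, 4, 1, 2, 3, 7, 6, 5, 4, 3, 2, 1, 0, 1, 2, 3, 4, 5, 6, 7, 3, 2, 1, 4, 3, 2, 5, 4, 3, 8, 7, 3, 2, 1, 4, 3, 5, 4, 7, 3, 8, 7, 0, 1, 2, 3, 7, 8, 5, 4, 3, 7, 6, 5, 4, 3, 1, 2, 0, 1, 0, 1, 0, 2, 1, 3, 4, 5, 6, 7, 3, 4, 5, 8,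 7, 3, 2, 1, 0, 7, 8, 3, 7, 6, 5, 4, 3, 1, 2, 0, 1, 0, 1, 0, 2, 1, 3, 4, 5, 6, 7, 3, 8, 7, 4, 2, 3, 7, 8, 4, 2, 3, 7, 6, 5, 4, 3, 2, 1, 0, 1, 2, 3, 4, 5, 6, 7, 3, 2, 4, 8, 7, 3, 2, 4, 7, 8, 3, 7, 6, 4, 5, 2, 3, 4, 0, 1, 2, 3, 7, 8, 5, 4, 1, 2, 3, 7, 6, 5, 4, 3, 2, 1, 0, 1, 2, 3, 4, 5, 6, 7, 3, 2, 1, 4, 5, 8, 7, 3, 2, 1, 0, 4, 3, 2, 5, 4, 6, 7, 3, 8, 7, 6, 5, 4, 0, 1, 2, 3, 7, 8, 4, 2, 3, 7, 5, 4, 3, 2, 0, 1, 0, 1, 0, 2, 3, 4, 5, 7, 3, 2, 4, 8, 7, 3, 2, 1, 0, 4, 5, 6, 4, 1, 2, 3, 7, 8, 4, 2, 3, 7, 6, 5, 4, 3, 2, 1, 0, 1, 2, 3, 4, 5, 6, 7, 3, 2, 4, 8, 7, 3, 2, 1, 4, 6, 5, 4, 1, 2, 3, 7, 8, 4, 2, 3, 7, 6, 5, 4, 3, 2, 1, 0, 1, 2, 3, 4, 5, 6, 7, 3, 2, 4, 8, 7, 3, 2, 1, 4, 5, 6, 0, 1, 2, 3, 7, 8, 3, 4, 5,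 2, 3, 4, 1, 2, 3, 7, 6, 5, 4, 3, 2, 1, 0, 1, 2, 3, 4, 5, 6, 7, 3, 2, 1, 4, 3, 2, 5, 4, 3, 8, 7, 3, 2, 1, 0, 6, 4, 5, 2, 3, 4, 1, 2, 3, 7, 8, 5, 4, 1, 2, 3, 7, 6, 5, 4, 3, 2, 1, 0, 1, 2, 3, 4, 5, 6, 7, 3, 2, 1, 4, 5, 8, 7, 3, 2, 1, 4, 3, 2, 5, 4, 6]),
  (2, [2, 3, 7, 8, 4, 3, 7, 4, 5, 2, 3, 4, 1, 2, 3, 7, 8, 5, 2, 3, 4, 1, 2, 3, 7, 6, 5, 4, 3, 2, 1, 0, 1, 2, 3, 4, 5, 6, 7, 3, 2, 1, 4, 3, 2, 5, 8, 7, 3, 2, 1, 4, 3, 2, 5, 4, 7, 3, 4, 8, 7, 3, 2, 8, 7, 6, 4, 5, 2, 3, 4, 1, 2, 3, 7, 8, 4, 5, 2, 3, 4, 1, 2, 3, 7, 6, 5, 4, 3, 2, 1, 0, 1, 2, 3, 4, 5, 6, 7, 3, 2, 1, 4, 3, 2, 5, 4, 8, 7, 3, 2, 1, 4, 3, 2, 5, 4, 6, 7, 8, 2, 3, 7, 8, 4, 1, 2, 3, 7, 5, 4, 3, 2, 1, 0, 1, 2, 3, 4, 5, 7, 3, 2, 1, 4, 8, 7, 3, 2, 3,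 7, 5, 2, 3, 4, 1, 2, 3, 7, 8, 7, 5, 2, 3, 4, 1, 2, 3, 7, 6, 5, 4, 3, 2, 1, 0, 1, 2, 3, 4, 5, 6, 7, 3, 2, 1, 4, 3, 2, 5, 7, 8, 7, 3, 2, 1, 4, 3, 2, 5, 7, 3, 2, 3, 4, 1, 2, 3, 7, 8, 7, 2, 3, 4, 1, 2, 3, 7, 5, 4, 3, 2, 1, 0, 1, 2, 3, 4, 5, 7, 3, 2, 1, 4, 3, 2, 7, 8, 7, 3, 2, 1, 4, 3, 2, 4, 1, 2, 3, 7, 8, 4, 2, 3, 7, 5, 4, 3, 2, 0, 1, 0, 1, 0, 2, 3, 4, 5, 7, 3, 2, 4, 8, 7, 3, 2, 1, 4, 5, 4, 3, 7, 8, 3, 4, 2, 3, 7, 6, 5, 4, 3, 2, 1, 0, 1, 2, 3, 4, 5, 6, 7, 3, 2, 4, 3, 8, 7, 3, 4, 5, 2, 3, 7, 8, 1, 2, 3, 7, 4, 3, 2, 1, 0, 1, 2, 3, 4, 7, 3, 2, 1, 8, 7, 3, 2, 6, 5, 4, 3, 7, 8, 1, 2, 3, 7, 4, 3, 2, 1, 0, 1, 2, 3, 4, 7, 3, 2, 1, 8, 7, 3, 4, 5, 6, 7, 8, 3, 7, 5, 4, 3, 2, 1, 0, 1, 2, 3, 4, 5, 7, 3, 8, 7, 5, 4,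 2, 3, 7, 8, 4, 2, 3, 7, 6, 5, 4, 3, 2, 1, 0, 1, 2, 3, 4, 5, 6, 7, 3, 2, 4, 8, 7, 3, 2, 4, 5, 0, 1, 2, 3, 7, 8, 3, 4, 5, 2, 3, 4, 1, 2, 3, 7, 6, 5, 4, 3, 2, 1, 0, 1, 2, 3, 4, 5, 6, 7, 3, 2, 1, 4, 3, 2, 5, 4, 3, 8, 7, 3, 2, 1, 0, 7, 8, 3, 7, 6, 5, 4, 3, 1, 2, 0, 1, 0, 1, 0, 2, 1, 3, 4, 5, 6, 7, 3, 8, 7, 6, 5, 4, 1, 2, 3, 7, 8, 4, 2, 3, 7, 6, 5, 4, 3, 2, 1, 0, 1, 2, 3, 4, 5, 6, 7, 3, 2, 4, 8, 7, 3, 2, 1, 4, 5, 6, 0, 1, 2, 3, 7, 8, 5, 4, 3, 7, 6, 5, 4, 3, 1, 2, 0, 1, 0, 1, 0, 2, 1, 3, 4, 5, 6, 7, 3, 4, 5, 8, 7, 3, 2, 1, 0, 6, 5, 4, 3, 7, 8, 1, 2, 3, 7, 4, 3, 2, 1, 0, 1, 2, 3, 4, 7, 3, 2, 1, 8, 7, 3, 4, 5, 6, 4, 5, 2, 3, 4, 0, 1, 2, 3, 7, 8, 5, 4, 1, 2, 3, 7, 6, 5, 4, 3, 2, 1, 0, 1, 2, 3, 4, 5, 6, 7, 3,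 2, 1, 4, 5, 8, 7, 3, 2, 1, 0, 4, 3, 2, 5, 4, 6, 4, 5, 2, 3, 4, 1, 2, 3, 7, 8, 5, 4, 1, 2, 3, 7, 6, 5, 4, 3, 2, 1, 0, 1, 2, 3, 4, 5, 6, 7, 3, 2, 1, 4, 5, 8, 7, 3, 2, 1, 4, 3, 2, 5, 4, 6]),
  (2, [3, 7, 4, 5, 3, 4, 1, 2, 3, 7, 8, 7, 4, 5, 2, 3, 4, 1, 2, 3, 7, 6, 5, 4, 3, 2, 1, 0, 1, 2, 3, 4, 5, 6, 7, 3, 2, 1, 4, 3, 2, 5, 4, 7, 8, 7, 3, 2, 1, 4, 3, 5, 4, 7, 3, 7, 8, 7, 3, 4, 2, 3, 7, 5, 4, 3, 2, 1, 0, 1, 2, 3, 4, 5, 7, 3, 2, 4, 3, 7, 8, 7, 2, 3, 7, 8, 4, 1, 2, 3, 7, 5, 4, 3, 2, 1, 0, 1, 2, 3, 4, 5, 7, 3, 2, 1, 4, 8, 7, 3, 2, 7, 8, 4, 3, 7, 6, 5, 4, 3, 1, 2, 0, 1, 0, 1, 0, 2, 1, 3, 4, 5, 6, 7, 3, 4, 8, 7, 5, 4, 1, 2, 3, 7, 8, 4, 1, 2, 3, 7, 5, 4, 3, 2, 1, 0, 1, 2, 3, 4, 5, 7, 3, 2, 1, 4, 8, 7, 3, 2, 1,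 4, 5, 2, 3, 7, 1, 2, 3, 4, 0, 1, 2, 3, 7, 8, 4, 5, 2, 3, 4, 1, 2, 3, 7, 6, 5, 4, 3, 2, 1, 0, 1, 2, 3, 4, 5, 6, 7, 3, 2, 1, 4, 3, 2, 5, 4, 8, 7, 3, 2, 1, 0, 4, 3, 2, 1, 7, 3, 2, 4, 5, 3, 4, 2, 3, 1, 2, 0, 1, 0, 1, 0, 2, 1, 3, 2, 4, 3, 5, 4, 5, 6, 4, 5, 3, 4, 1, 2, 3, 7, 8, 4, 5, 3, 4, 1, 2, 3, 7, 6, 5, 4, 3, 2, 1, 0, 1, 2, 3, 4, 5, 6, 7, 3, 2, 1, 4, 3, 5, 4, 8, 7, 3, 2, 1, 4, 3, 5, 4, 6, 5, 7, 8, 3, 7, 5, 4, 3, 2, 1, 0, 1, 2, 3, 4, 5, 7, 3, 8, 7, 0, 1, 2, 3, 7, 8, 5, 4, 3, 7, 6, 5, 4, 3, 1, 2, 0, 1, 0, 1, 0, 2, 1, 3, 4, 5, 6, 7, 3, 4, 5, 8, 7, 3, 2, 1, 0, 1, 2, 3, 7, 8, 3, 4, 5, 2, 3, 4, 1, 2, 3, 7, 6, 5, 4, 3, 2, 1, 0, 1, 2, 3, 4, 5, 6, 7, 3, 2, 1, 4, 3, 2, 5, 4, 3, 8, 7, 3, 2, 1, 5, 4, 0, 1, 2, 3,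 7, 8, 4, 2, 3, 7, 6, 5, 4, 3, 2, 0, 1, 0, 1, 0, 2, 3, 4, 5, 6, 7, 3, 2, 4, 8, 7, 3, 2, 1, 0, 4, 5, 4, 1, 2, 3, 7, 8, 4, 2, 3, 7, 6, 5, 4, 3, 2, 1, 0, 1, 2, 3, 4, 5, 6, 7, 3, 2, 4, 8, 7, 3, 2, 1, 4, 6, 5, 4, 1, 2, 3, 7, 8, 4, 2, 3, 7, 6, 5, 4, 3, 2, 1, 0, 1, 2, 3, 4, 5, 6, 7, 3, 2, 4, 8, 7, 3, 2, 1, 4, 5, 6, 4, 3, 7, 8, 2, 3, 7, 4, 3, 2, 1, 0, 1, 2, 3, 4, 7, 3, 2, 8, 7, 3, 4, 6, 5, 4, 1, 2, 3, 7, 8, 4, 2, 3, 7, 6, 5, 4, 3, 2, 1, 0, 1, 2, 3, 4, 5, 6, 7, 3, 2, 4, 8, 7, 3, 2, 1, 4, 5, 6, 0, 1, 2, 3, 7, 8, 5, 4, 3, 7, 6, 5, 4, 3, 1, 2, 0, 1, 0, 1, 0, 2, 1, 3, 4, 5, 6, 7, 3, 4, 5, 8, 7, 3, 2, 1, 0, 6, 5, 4, 3, 7, 8, 1, 2, 3, 7, 4, 3, 2, 1, 0, 1, 2, 3, 4, 7, 3, 2, 1, 8, 7, 3, 4, 5, 6, 4, 5, 2, 3, 4, 0, 1,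 2, 3, 7, 8, 5, 4, 1, 2, 3, 7, 6, 5, 4, 3, 2, 1, 0, 1, 2, 3, 4, 5, 6, 7, 3, 2, 1, 4, 5, 8, 7, 3, 2, 1, 0, 4, 3, 2, 5, 4]),
  (2, [5, 3, 4, 1, 2, 3, 7, 8, 4, 1, 2, 3, 7, 6, 5, 4, 3, 2, 1, 0, 1, 2, 3, 4, 5, 6, 7, 3, 2, 1, 4, 8, 7, 3, 2, 1, 4, 3, 5, 3, 7, 5, 2, 3, 4, 1, 2, 3, 7, 8, 7, 5, 2, 3, 4, 1, 2, 3, 7, 6, 5, 4, 3, 2, 1, 0, 1, 2, 3, 4, 5, 6, 7, 3, 2, 1, 4, 3, 2, 5, 7, 8, 7, 3, 2, 1, 4, 3, 2, 5, 7, 3, 7, 8, 4, 3, 7, 6, 5, 4, 3, 1, 2, 0, 1, 0, 1, 0, 2, 1, 3, 4, 5, 6, 7, 3, 4, 8, 7, 5, 4, 1, 2, 3, 7, 8, 4, 1, 2, 3, 7, 5, 4, 3, 2, 1, 0, 1, 2, 3, 4, 5, 7, 3, 2, 1, 4, 8, 7, 3, 2, 1, 4, 6, 4, 5, 3, 4, 1, 2, 3, 7, 8, 4, 5, 3, 4, 1, 2, 3, 7, 6, 5, 4, 3, 2, 1, 0, 1, 2, 3, 4, 5, 6, 7, 3, 2, 1, 4, 3, 5, 4, 8,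 7, 3, 2, 1, 4, 3, 5, 4, 6, 5, 7, 3, 4, 1, 2, 3, 7, 5, 4, 3, 2, 1, 0, 1, 2, 3, 4, 5, 7, 3, 2, 1, 4, 3, 7, 4, 5, 3, 4, 2, 3, 1, 2, 0, 1, 0, 1, 0, 2, 1, 3, 2, 4, 3, 5, 4, 5, 6, 4, 5, 3, 4, 1, 2, 3, 7, 8, 4, 5, 3, 4, 1, 2, 3, 7, 6, 5, 4, 3, 2, 1, 0, 1, 2, 3, 4, 5, 6, 7, 3, 2, 1, 4, 3, 5, 4, 8, 7, 3, 2, 1, 4, 3, 5, 4, 6, 5, 7, 8, 3, 7, 4, 5, 2, 3, 4, 0, 1, 2, 3, 7, 8, 5, 4, 1, 2, 3, 7, 6, 5, 4, 3, 2, 1, 0, 1, 2, 3, 4, 5, 6, 7, 3, 2, 1, 4, 5, 8, 7, 3, 2, 1, 0, 4, 3, 2, 5, 4, 7, 3, 8, 7, 6, 5, 4, 0, 1, 2, 3, 7, 8, 4, 2, 3, 7, 6, 5, 4, 3, 2, 0, 1, 0, 1, 0, 2, 3, 4, 5, 6, 7, 3, 2, 4, 8, 7, 3, 2, 1, 0, 4, 5, 6, 1, 2, 3, 7, 8, 3, 4, 5, 2, 3, 4, 1, 2, 3, 7, 6, 5, 4, 3, 2, 1, 0, 1, 2, 3, 4, 5, 6, 7, 3, 2, 1, 4,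 3, 2, 5, 4, 3, 8, 7, 3, 2, 1, 5, 4, 0, 1, 2, 3, 7, 8, 4, 2, 3, 7, 6, 5, 4, 3, 2, 0, 1, 0, 1, 0, 2, 3, 4, 5, 6, 7, 3, 2, 4, 8, 7, 3, 2, 1, 0, 2, 3, 7, 8, 4, 2, 3, 7, 6, 5, 4, 3, 2, 1, 0, 1, 2, 3, 4, 5, 6, 7, 3, 2, 4, 8, 7, 3, 2, 4, 5, 7, 8, 3, 7, 6, 4, 5, 2, 3, 4, 0, 1, 2, 3, 7, 8, 5, 4, 1, 2, 3, 7, 6, 5, 4, 3, 2, 1, 0, 1, 2, 3, 4, 5, 6, 7, 3, 2, 1, 4, 5, 8, 7, 3, 2, 1, 0, 4, 3, 2, 5, 4, 6, 7, 3, 8, 7, 6, 4, 5, 3, 4, 2, 3, 7, 8, 3, 4, 5, 2, 3, 4, 1, 2, 3, 7, 6, 5, 4, 3, 2, 1, 0, 1, 2, 3, 4, 5, 6, 7, 3, 2, 1, 4, 3, 2, 5, 4, 3, 8, 7, 3, 2, 4, 3, 5, 4, 6, 4, 3, 7, 8, 2, 3, 7, 4, 3, 2, 1, 0, 1, 2, 3, 4, 7, 3, 2, 8, 7, 3, 4, 6, 5, 4, 1, 2, 3, 7, 8, 4, 2, 3, 7, 6, 5, 4, 3, 2, 1, 0, 1, 2, 3, 4, 5, 6, 7, 3,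 2, 4, 8, 7, 3, 2, 1, 4, 5, 6, 0, 1, 2, 3, 7, 8, 5, 4, 3, 7, 6, 5, 4, 3, 1, 2, 0, 1, 0, 1, 0, 2, 1, 3, 4, 5, 6, 7, 3, 4, 5, 8, 7, 3, 2, 1, 0, 6, 5, 4, 3, 7, 8, 1, 2, 3, 7, 4, 3, 2, 1, 0, 1, 2, 3, 4, 7, 3, 2, 1, 8, 7, 3, 4, 5, 4, 5, 2, 3, 4, 1, 2, 3, 7, 8, 5, 4, 1, 2, 3, 7, 6, 5, 4, 3, 2, 1, 0, 1, 2, 3, 4, 5, 6, 7, 3, 2, 1, 4, 5, 8, 7, 3, 2, 1, 4, 3, 2, 5, 4, 6]),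
  (2, [5, 2, 3, 4, 1, 2, 3, 7, 8, 7, 5, 3, 4, 2, 3, 7, 6, 5, 4, 3, 2, 1, 0, 1, 2, 3, 4, 5, 6, 7, 3, 2, 4, 3, 5, 7, 8, 7, 3, 2, 1, 4, 3, 2, 5, 3, 7, 5, 2, 3, 4, 1, 2, 3, 7, 8, 7, 5, 2, 3, 4, 1, 2, 3, 7, 6, 5, 4, 3, 2, 1, 0, 1, 2, 3, 4, 5, 6, 7, 3, 2, 1, 4, 3, 2, 5, 7, 8, 7, 3, 2, 1, 4, 3, 2, 5, 7, 3, 5, 4, 1, 2, 3, 7, 8, 4, 1, 2, 3, 7, 5, 4, 3, 2, 1, 0, 1, 2, 3, 4, 5, 7, 3, 2, 1, 4, 8, 7, 3, 2, 1, 4, 5, 2, 3, 7, 8, 4, 3, 7, 4, 5, 2, 3, 4, 1, 2, 3, 7, 8, 5, 2, 3, 4, 1, 2, 3, 7, 6, 5, 4, 3, 2, 1, 0, 1, 2, 3, 4, 5, 6, 7, 3, 2, 1, 4, 3, 2, 5, 8, 7, 3, 2, 1, 4, 3, 2, 5, 4, 7, 3, 4, 8, 7, 3, 2, 7, 2, 3, 4, 1, 2, 3, 7, 8, 3, 4, 1, 2, 3, 7, 5, 4, 3, 2, 1, 0, 1, 2, 3, 4, 5, 7, 3, 2, 1, 4, 3, 8, 7, 3, 2, 1, 4,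 3, 2, 7, 2, 3, 7, 1, 2, 3, 4, 0, 1, 2, 3, 7, 8, 4, 5, 2, 3, 4, 1, 2, 3, 7, 6, 5, 4, 3, 2, 1, 0, 1, 2, 3, 4, 5, 6, 7, 3, 2, 1, 4, 3, 2, 5, 4, 8, 7, 3, 2, 1, 0, 4, 3, 2, 1, 7, 3, 2, 5, 4, 3, 7, 8, 3, 4, 2, 3, 7, 6, 5, 4, 3, 2, 1, 0, 1, 2, 3, 4, 5, 6, 7, 3, 2, 4, 3, 8, 7, 3, 4, 5, 7, 8, 3, 7, 4, 5, 3, 4, 1, 2, 3, 7, 8, 3, 4, 5, 2, 3, 4, 1, 2, 3, 7, 6, 5, 4, 3, 2, 1, 0, 1, 2, 3, 4, 5, 6, 7, 3, 2, 1, 4, 3, 2, 5, 4, 3, 8, 7, 3, 2, 1, 4, 3, 5, 4, 7, 3, 8, 7, 0, 1, 2, 3, 7, 8, 5, 4, 3, 7, 6, 5, 4, 3, 1, 2, 0, 1, 0, 1, 0, 2, 1, 3, 4, 5, 6, 7, 3, 4, 5, 8, 7, 3, 2, 1, 0, 1, 2, 3, 7, 8, 3, 4, 5, 2, 3, 4, 1, 2, 3, 7, 6, 5, 4, 3, 2, 1, 0, 1, 2, 3, 4, 5, 6, 7, 3, 2, 1, 4, 3, 2, 5, 4, 3, 8, 7, 3, 2, 1, 2, 3, 7, 8,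 4, 1, 2, 3, 7, 4, 5, 2, 3, 4, 1, 2, 3, 7, 8, 5, 4, 1, 2, 3, 7, 6, 5, 4, 3, 2, 1, 0, 1, 2, 3, 4, 5, 6, 7, 3, 2, 1, 4, 5, 8, 7, 3, 2, 1, 4, 3, 2, 5, 4, 7, 3, 2, 1, 3, 7, 5, 2, 3, 4, 0, 1, 2, 3, 7, 8, 5, 2, 3, 4, 1, 2, 3, 7, 6, 5, 4, 3, 2, 1, 0, 1, 2, 3, 4, 5, 6, 7, 3, 2, 1, 4, 3, 2, 5, 8, 7, 3, 2, 1, 0, 4, 3, 2, 5, 7, 3, 4, 8, 7, 3, 2, 4, 3, 7, 8, 2, 3, 7, 4, 3, 2, 1, 0, 1, 2, 3, 4, 7, 3, 2, 8, 7, 3, 4, 0, 1, 2, 3, 7, 8, 3, 4, 5, 2, 3, 4, 1, 2, 3, 7, 6, 5, 4, 3, 2, 1, 0, 1, 2, 3, 4, 5, 6, 7, 3, 2, 1, 4, 3, 2, 5, 4, 3, 8, 7, 3, 2, 1, 0, 6, 5, 4, 3, 7, 8, 3, 4, 5, 2, 3, 4, 1, 2, 3, 7, 6, 5, 4, 3, 2, 1, 0, 1, 2, 3, 4, 5, 6, 7, 3, 2, 1, 4, 3, 2, 5, 4, 3, 8, 7, 3, 4, 5, 6]),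
  (0, [6, 5, 4, 3, 7, 8, 3, 7, 4, 5, 3, 4, 2, 3, 7, 6, 5, 4, 3, 2, 0, 1, 0, 1, 0, 2, 3, 4, 5, 6, 7, 3, 2, 4, 3, 5, 4, 7, 3, 8, 7, 3, 4, 5, 6, 5, 2, 3, 4, 1, 2, 3, 7, 8, 7, 5, 3, 4, 2, 3, 7, 6, 5, 4, 3, 2, 1, 0, 1, 2, 3, 4, 5, 6, 7, 3, 2, 4, 3, 5, 7, 8, 7, 3, 2, 1, 4, 3, 2, 5, 2, 3, 7, 8, 4, 1, 2, 3, 7, 5, 4, 3, 2, 1, 0, 1, 2, 3, 4, 5, 7, 3, 2, 1, 4, 8, 7, 3, 2, 8, 7, 6, 4, 5, 2, 3, 4, 1, 2, 3, 7, 8, 4, 5, 2, 3, 4, 1, 2, 3, 7, 6, 5, 4, 3, 2, 1, 0, 1, 2, 3, 4, 5, 6, 7, 3, 2, 1, 4, 3, 2, 5, 4, 8, 7, 3, 2, 1, 4, 3, 2, 5, 4, 6, 7, 8, 2, 3, 7, 1, 2, 3, 4, 0, 1, 2, 3, 7, 8, 3, 4, 5, 2, 3, 4, 1, 2, 3, 7, 6, 5, 4, 3, 2, 1, 0, 1, 2, 3, 4, 5, 6, 7, 3, 2, 1, 4, 3, 2, 5, 4, 3, 8, 7, 3, 2, 1, 0, 4, 3, 2, 1, 7, 3,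 2, 4, 1, 2, 3, 7, 8, 4, 2, 3, 7, 5, 4, 3, 2, 0, 1, 0, 1, 0, 2, 3, 4, 5, 7, 3, 2, 4, 8, 7, 3, 2, 1, 4, 5, 6, 4, 5, 3, 4, 1, 2, 3, 7, 8, 4, 5, 3, 4, 1, 2, 3, 7, 6, 5, 4, 3, 2, 1, 0, 1, 2, 3, 4, 5, 6, 7, 3, 2, 1, 4, 3, 5, 4, 8, 7, 3, 2, 1, 4, 3, 5, 4, 6, 5, 0, 1, 2, 3, 7, 8, 5, 4, 3, 7, 6, 5, 4, 3, 1, 2, 0, 1, 0, 1, 0, 2, 1, 3, 4, 5, 6, 7, 3, 4, 5, 8, 7, 3, 2, 1, 0, 5, 4, 0, 1, 2, 3, 7, 8, 4, 2, 3, 7, 6, 5, 4, 3, 2, 0, 1, 0, 1, 0, 2, 3, 4, 5, 6, 7, 3, 2, 4, 8, 7, 3, 2, 1, 0, 4, 5, 1, 2, 3, 7, 8, 3, 4, 5, 2, 3, 4, 1, 2, 3, 7, 6, 5, 4, 3, 2, 1, 0, 1, 2, 3, 4, 5, 6, 7, 3, 2, 1, 4, 3, 2, 5, 4, 3, 8, 7, 3, 2, 1, 7, 8, 3, 7, 6, 5, 4, 3, 1, 2, 0, 1, 0, 1, 0, 2, 1, 3, 4, 5, 6, 7, 3, 8, 7, 6, 5, 4, 0, 1, 2, 3,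 7, 8, 4, 2, 3, 7, 5, 4, 3, 2, 0, 1, 0, 1, 0, 2, 3, 4, 5, 7, 3, 2, 4, 8, 7, 3, 2, 1, 0, 4, 5, 6, 0, 1, 2, 3, 7, 8, 3, 4, 5, 2, 3, 4, 1, 2, 3, 7, 6, 5, 4, 3, 2, 1, 0, 1, 2, 3, 4, 5, 6, 7, 3, 2, 1, 4, 3, 2, 5, 4, 3, 8, 7, 3, 2, 1, 0, 6, 5, 4, 1, 2, 3, 7, 8, 4, 2, 3, 7, 6, 5, 4, 3, 2, 1, 0, 1, 2, 3, 4, 5, 6, 7, 3, 2, 4, 8, 7, 3, 2, 1, 4, 5, 6, 0, 1, 2, 3, 7, 8, 3, 4, 5, 2, 3, 4, 1, 2, 3, 7, 6, 5, 4, 3, 2, 1, 0, 1, 2, 3, 4, 5, 6, 7, 3, 2, 1, 4, 3, 2, 5, 4, 3, 8, 7, 3, 2, 1, 0, 6, 5, 4, 3, 7, 8, 3, 4, 5, 2, 3, 4, 1, 2, 3, 7, 6, 5, 4, 3, 2, 1, 0, 1, 2, 3, 4, 5, 6, 7, 3, 2, 1, 4, 3, 2, 5, 4, 3, 8, 7, 3, 4, 5, 6, 4, 5, 2, 3, 4, 0, 1, 2, 3, 7, 8, 5, 4, 1, 2, 3, 7, 6, 5, 4, 3, 2, 1, 0, 1, 2, 3, 4, 5, 6, 7, 3,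 2, 1, 4, 5, 8, 7, 3, 2, 1, 0, 4, 3, 2, 5, 4, 6, 4, 5, 2, 3, 4, 1, 2, 3, 7, 8, 5, 4, 1, 2, 3, 7, 6, 5, 4, 3, 2, 1, 0, 1, 2, 3, 4, 5, 6, 7, 3, 2, 1, 4, 5, 8, 7, 3, 2, 1, 4, 3, 2, 5, 4, 6]),
  (1, [8, 7, 6, 4, 5, 2, 3, 4, 1, 2, 3, 7, 8, 4, 5, 2, 3, 4, 1, 2, 3, 7, 6, 5, 4, 3, 2, 1, 0, 1, 2, 3, 4, 5, 6, 7, 3, 2, 1, 4, 3, 2, 5, 4, 8, 7, 3, 2, 1, 4, 3, 2, 5, 4, 6, 7, 8, 5, 4, 1, 2, 3, 7, 8, 4, 1, 2, 3, 7, 5, 4, 3, 2, 1, 0, 1, 2, 3, 4, 5, 7, 3, 2, 1, 4, 8, 7, 3, 2, 1, 4, 5, 2, 3, 7, 8, 4, 3, 7, 4, 5, 2, 3, 4, 1, 2, 3, 7, 8, 5, 2, 3, 4, 1, 2, 3, 7, 6, 5, 4, 3, 2, 1, 0, 1, 2, 3, 4, 5, 6, 7, 3, 2, 1, 4, 3, 2, 5, 8, 7, 3, 2, 1, 4, 3, 2, 5, 4, 7, 3, 4, 8, 7, 3, 2, 8, 7, 3, 4, 2, 3, 7, 8, 7, 5, 3, 4, 2, 3, 7, 6,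 5, 4, 3, 2, 1, 0, 1, 2, 3, 4, 5, 6, 7, 3, 2, 4, 3, 5, 7, 8, 7, 3, 2, 4, 3, 7, 8, 7, 5, 3, 4, 1, 2, 3, 7, 8, 7, 4, 5, 2, 3, 4, 1, 2, 3, 7, 6, 5, 4, 3, 2, 1, 0, 1, 2, 3, 4, 5, 6, 7, 3, 2, 1, 4, 3, 2, 5, 4, 7, 8, 7, 3, 2, 1, 4, 3, 5, 7, 6, 4, 5, 2, 3, 4, 1, 2, 3, 7, 8, 5, 4, 1, 2, 3, 7, 6, 5, 4, 3, 2, 1, 0, 1, 2, 3, 4, 5, 6, 7, 3, 2, 1, 4, 5, 8, 7, 3, 2, 1, 4, 3, 2, 5, 4, 6, 5, 6, 4, 5, 3, 4, 1, 2, 3, 7, 8, 4, 5, 3, 4, 1, 2, 3, 7, 6, 5, 4, 3, 2, 1, 0, 1, 2, 3, 4, 5, 6, 7, 3, 2, 1, 4, 3, 5, 4, 8, 7, 3, 2, 1, 4, 3, 5, 4, 6, 5, 4, 3, 7, 8, 5, 4, 3, 7, 6, 5, 4, 3, 1, 2, 0, 1, 0, 1, 0, 2, 1, 3, 4, 5, 6, 7, 3, 4, 5, 8, 7, 3, 4, 0, 1, 2, 3, 7, 8, 5, 4, 3, 7, 6, 5, 4, 3, 1, 2, 0, 1, 0, 1, 0, 2, 1, 3, 4, 5, 6,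 7, 3, 4, 5, 8, 7, 3, 2, 1, 0, 6, 5, 4, 3, 7, 8, 1, 2, 3, 7, 4, 3, 2, 1, 0, 1, 2, 3, 4, 7, 3, 2, 1, 8, 7, 3, 4, 5, 6, 7, 8, 3, 7, 5, 4, 3, 2, 1, 0, 1, 2, 3, 4, 5, 7, 3, 8, 7, 6, 5, 4, 1, 2, 3, 7, 8, 4, 2, 3, 7, 6, 5, 4, 3, 2, 1, 0, 1, 2, 3, 4, 5, 6, 7, 3, 2, 4, 8, 7, 3, 2, 1, 4, 5, 6, 2, 3, 7, 8, 4, 1, 2, 3, 7, 4, 5, 2, 3, 4, 1, 2, 3, 7, 8, 5, 4, 1, 2, 3, 7, 6, 5, 4, 3, 2, 1, 0, 1, 2, 3, 4, 5, 6, 7, 3, 2, 1, 4, 5, 8, 7, 3, 2, 1, 4, 3, 2, 5, 4, 7, 3, 2, 1, 4, 8, 7, 3, 2, 7, 8, 3, 7, 6, 4, 5, 2, 3, 4, 0, 1, 2, 3, 7, 8, 5, 4, 1, 2, 3, 7, 6, 5, 4, 3, 2, 1, 0, 1, 2, 3, 4, 5, 6, 7, 3, 2, 1, 4, 5, 8, 7, 3, 2, 1, 0, 4, 3, 2, 5, 4, 6, 7, 3, 8, 7, 6, 5, 4, 0, 1, 2, 3, 7, 8, 4, 2, 3, 7, 5, 4, 3, 2, 0, 1, 0, 1,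 0, 2, 3, 4, 5, 7, 3, 2, 4, 8, 7, 3, 2, 1, 0, 1, 2, 3, 7, 8, 4, 2, 3, 7, 6, 5, 4, 3, 2, 1, 0, 1, 2, 3, 4, 5, 6, 7, 3, 2, 4, 8, 7, 3, 2, 1, 4, 5, 6, 0, 1, 2, 3, 7, 8, 3, 4, 5, 2, 3, 4, 1, 2, 3, 7, 6, 5, 4, 3, 2, 1, 0, 1, 2, 3, 4, 5, 6, 7, 3, 2, 1, 4, 3, 2, 5, 4, 3, 8, 7, 3, 2, 1, 0, 6, 5, 4, 3, 7, 8, 3, 4, 5, 2, 3, 4, 1, 2, 3, 7, 6, 5, 4, 3, 2, 1, 0, 1, 2, 3, 4, 5, 6, 7, 3, 2, 1, 4, 3, 2, 5, 4, 3, 8, 7, 3, 4, 5, 6]),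
  (0, [8, 7, 6, 4, 5, 2, 3, 4, 1, 2, 3, 7, 8, 4, 5, 2, 3, 4, 1, 2, 3, 7, 6, 5, 4, 3, 2, 1, 0, 1, 2, 3, 4, 5, 6, 7, 3, 2, 1, 4, 3, 2, 5, 4, 8, 7, 3, 2, 1, 4, 3, 2, 5, 4, 6, 7, 3, 7, 5, 2, 3, 4, 1, 2, 3, 7, 8, 5, 3, 4, 1, 2, 3, 7, 6, 5, 4, 3, 2, 1, 0, 1, 2, 3, 4, 5, 6, 7, 3, 2, 1, 4, 3, 5, 8, 7, 3, 2, 1, 4, 3, 2, 5, 7, 3, 8, 2, 3, 7, 8, 4, 3, 7, 4, 5, 2, 3, 4, 1, 2, 3, 7, 8, 5, 2, 3, 4, 1, 2, 3, 7, 6, 5, 4, 3, 2, 1, 0, 1, 2, 3, 4, 5, 6, 7, 3, 2, 1, 4, 3, 2, 5, 8, 7, 3, 2, 1, 4, 3, 2, 5, 4, 7, 3, 4, 8, 7, 3, 2, 8, 7, 6, 4, 5, 2, 3, 4, 1, 2, 3, 7, 8, 4, 5, 2, 3, 4, 1, 2, 3, 7, 6, 5, 4, 3, 2, 1, 0, 1, 2, 3, 4, 5, 6, 7, 3, 2, 1, 4, 3, 2, 5, 4, 8, 7, 3, 2, 1, 4, 3, 2, 5, 4, 6, 7, 8, 4, 5, 3, 4, 2, 3, 1, 2,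 0, 1, 0, 1, 0, 2, 1, 3, 2, 4, 3, 5, 4, 2, 3, 7, 1, 2, 3, 4, 0, 1, 2, 3, 7, 8, 4, 5, 2, 3, 4, 1, 2, 3, 7, 6, 5, 4, 3, 2, 1, 0, 1, 2, 3, 4, 5, 6, 7, 3, 2, 1, 4, 3, 2, 5, 4, 8, 7, 3, 2, 1, 0, 4, 3, 2, 1, 7, 3, 2, 8, 7, 5, 3, 4, 2, 3, 7, 8, 7, 5, 3, 4, 1, 2, 3, 7, 6, 5, 4, 3, 2, 1, 0, 1, 2, 3, 4, 5, 6, 7, 3, 2, 1, 4, 3, 5, 7, 8, 7, 3, 2, 4, 3, 5, 7, 8, 1, 2, 3, 7, 8, 3, 4, 5, 2, 3, 4, 1, 2, 3, 7, 6, 5, 4, 3, 2, 1, 0, 1, 2, 3, 4, 5, 6, 7, 3, 2, 1, 4, 3, 2, 5, 4, 3, 8, 7, 3, 2, 1, 4, 2, 3, 7, 8, 4, 2, 3, 7, 6, 5, 4, 3, 2, 1, 0, 1, 2, 3, 4, 5, 6, 7, 3, 2, 4, 8, 7, 3, 2, 4, 5, 4, 0, 1, 2, 3, 7, 8, 4, 2, 3, 7, 6, 5, 4, 3, 2, 0, 1, 0, 1, 0, 2, 3, 4, 5, 6, 7, 3, 2, 4, 8, 7, 3, 2, 1, 0, 4, 5, 6, 4, 5, 3, 4, 2,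 3, 7, 8, 3, 4, 5, 2, 3, 4, 1, 2, 3, 7, 6, 5, 4, 3, 2, 1, 0, 1, 2, 3, 4, 5, 6, 7, 3, 2, 1, 4, 3, 2, 5, 4, 3, 8, 7, 3, 2, 4, 3, 5, 4, 6, 7, 8, 3, 7, 6, 4, 5, 2, 3, 4, 0, 1, 2, 3, 7, 8, 5, 4, 1, 2, 3, 7, 6, 5, 4, 3, 2, 1, 0, 1, 2, 3, 4, 5, 6, 7, 3, 2, 1, 4, 5, 8, 7, 3, 2, 1, 0, 4, 3, 2, 5, 4, 6, 7, 3, 8, 7, 6, 5, 4, 1, 2, 3, 7, 8, 4, 2, 3, 7, 6, 5, 4, 3, 2, 1, 0, 1, 2, 3, 4, 5, 6, 7, 3, 2, 4, 8, 7, 3, 2, 1, 0, 1, 2, 3, 7, 8, 4, 2, 3, 7, 5, 4, 3, 2, 0, 1, 0, 1, 0, 2, 3, 4, 5, 7, 3, 2, 4, 8, 7, 3, 2, 1, 0, 4, 5, 6, 0, 1, 2, 3, 7, 8, 5, 4, 3, 7, 6, 5, 4, 3, 1, 2, 0, 1, 0, 1, 0, 2, 1, 3, 4, 5, 6, 7, 3, 4, 5, 8, 7, 3, 2, 1, 0, 6, 5, 4, 3, 7, 8, 1, 2, 3, 7, 4, 3, 2, 1, 0, 1, 2, 3, 4, 7, 3, 2, 1, 8, 7, 3, 4,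 5, 6]),
  (2, [5, 4, 1, 2, 3, 7, 8, 4, 1, 2, 3, 7, 5, 4, 3, 2, 1, 0, 1, 2, 3, 4, 5, 7, 3, 2, 1, 4, 8, 7, 3, 2, 1, 4, 5, 3, 7, 5, 2, 3, 4, 1, 2, 3, 7, 8, 7, 5, 2, 3, 4, 1, 2, 3, 7, 6, 5, 4, 3, 2, 1, 0, 1, 2, 3, 4, 5, 6, 7, 3, 2, 1, 4, 3, 2, 5, 7, 8, 7, 3, 2, 1, 4, 3, 2, 5, 7, 3, 8, 7, 6, 4, 5, 2, 3, 4, 1, 2, 3, 7, 8, 4, 5, 2, 3, 4, 1, 2, 3, 7, 6, 5, 4, 3, 2, 1, 0, 1, 2, 3, 4, 5, 6, 7, 3, 2, 1, 4, 3, 2, 5, 4, 8, 7, 3, 2, 1, 4, 3, 2, 5, 4, 6, 7, 8, 7, 8, 4, 3, 7, 6, 5, 4, 3, 1, 2, 0, 1, 0, 1, 0, 2, 1, 3, 4, 5, 6, 7, 3, 4, 8, 7, 8, 7, 5, 3, 4, 2, 3, 7, 8, 7, 5, 3, 4, 1, 2, 3, 7, 6, 5, 4, 3, 2, 1, 0, 1, 2, 3, 4, 5, 6, 7, 3, 2, 1, 4, 3, 5, 7, 8, 7, 3, 2, 4, 3, 5, 7, 8, 2, 3, 4, 1, 2, 3, 7, 8, 7, 2, 3, 4,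 1, 2, 3, 7, 5, 4, 3, 2, 1, 0, 1, 2, 3, 4, 5, 7, 3, 2, 1, 4, 3, 2, 7, 8, 7, 3, 2, 1, 4, 3, 2, 8, 7, 5, 3, 4, 2, 3, 7, 8, 7, 5, 3, 4, 1, 2, 3, 7, 6, 5, 4, 3, 2, 1, 0, 1, 2, 3, 4, 5, 6, 7, 3, 2, 1, 4, 3, 5, 7, 8, 7, 3, 2, 4, 3, 5, 7, 8, 2, 3, 7, 8, 1, 2, 3, 7, 4, 3, 2, 1, 0, 1, 2, 3, 4, 7, 3, 2, 1, 8, 7, 3, 2, 5, 4, 0, 1, 2, 3, 7, 8, 4, 2, 3, 7, 6, 5, 4, 3, 2, 0, 1, 0, 1, 0, 2, 3, 4, 5, 6, 7, 3, 2, 4, 8, 7, 3, 2, 1, 0, 4, 5, 0, 1, 2, 3, 7, 8, 5, 4, 3, 7, 6, 5, 4, 3, 1, 2, 0, 1, 0, 1, 0, 2, 1, 3, 4, 5, 6, 7, 3, 4, 5, 8, 7, 3, 2, 1, 0, 2, 3, 7, 8, 3, 7, 2, 3, 4, 1, 2, 3, 7, 5, 4, 3, 2, 1, 0, 1, 2, 3, 4, 5, 7, 3, 2, 1, 4, 3, 2, 7, 3, 4, 3, 7, 5, 2, 3, 4, 0, 1, 2, 3, 7, 8, 5, 2, 3, 4, 1, 2, 3, 7, 6, 5, 4,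 3, 2, 1, 0, 1, 2, 3, 4, 5, 6, 7, 3, 2, 1, 4, 3, 2, 5, 8, 7, 3, 2, 1, 0, 4, 3, 2, 5, 7, 3, 4, 8, 7, 3, 2, 6, 4, 5, 3, 4, 2, 3, 7, 8, 3, 4, 5, 2, 3, 4, 1, 2, 3, 7, 6, 5, 4, 3, 2, 1, 0, 1, 2, 3, 4, 5, 6, 7, 3, 2, 1, 4, 3, 2, 5, 4, 3, 8, 7, 3, 2, 4, 3, 5, 4, 6, 0, 1, 2, 3, 7, 8, 3, 4, 5, 2, 3, 4, 1, 2, 3, 7, 6, 5, 4, 3, 2, 1, 0, 1, 2, 3, 4, 5, 6, 7, 3, 2, 1, 4, 3, 2, 5, 4, 3, 8, 7, 3, 2, 1, 0, 4, 3, 7, 8, 5, 4, 3, 7, 6, 5, 4, 3, 1, 2, 0, 1, 0, 1, 0, 2, 1, 3, 4, 5, 6, 7, 3, 4, 5, 8, 7, 3, 4, 0, 1, 2, 3, 7, 8, 5, 4, 3, 7, 6, 5, 4, 3, 1, 2, 0, 1, 0, 1, 0, 2, 1, 3, 4, 5, 6, 7, 3, 4, 5, 8, 7, 3, 2, 1, 0, 6, 5, 4, 3, 7, 8, 1, 2, 3, 7, 4, 3, 2, 1, 0, 1, 2, 3, 4, 7, 3, 2, 1, 8, 7, 3, 4, 5, 6, 4, 5, 2, 3, 4, 0,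 1, 2, 3, 7, 8, 5, 4, 1, 2, 3, 7, 6, 5, 4, 3, 2, 1, 0, 1, 2, 3, 4, 5, 6, 7, 3, 2, 1, 4, 5, 8, 7, 3, 2, 1, 0, 4, 3, 2, 5, 4]),
  (2, [6, 5, 4, 3, 7, 8, 3, 7, 4, 5, 3, 4, 2, 3, 7, 6, 5, 4, 3, 2, 0, 1, 0, 1, 0, 2, 3, 4, 5, 6, 7, 3, 2, 4, 3, 5, 4, 7, 3, 8, 7, 3, 4, 5, 6, 8, 7, 5, 3, 4, 2, 3, 7, 8, 7, 5, 3, 4, 1, 2, 3, 7, 6, 5, 4, 3, 2, 1, 0, 1, 2, 3, 4, 5, 6, 7, 3, 2, 1, 4, 3, 5, 7, 8, 7, 3, 2, 4, 3, 5, 7, 8, 7, 8, 7, 3, 4, 2, 3, 7, 5, 4, 3, 2, 1, 0, 1, 2, 3, 4, 5, 7, 3, 2, 4, 3, 7, 8, 7, 2, 3, 7, 8, 4, 3, 7, 4, 5, 2, 3, 4, 1, 2, 3, 7, 8, 5, 2, 3, 4, 1, 2, 3, 7, 6, 5, 4, 3, 2, 1, 0, 1, 2, 3, 4, 5, 6, 7, 3, 2, 1, 4, 3, 2, 5, 8, 7, 3, 2, 1, 4, 3, 2, 5, 4, 7, 3, 4, 8, 1, 2, 3, 4, 0, 1, 2, 3, 7, 8, 3, 4, 5,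 2, 3, 4, 1, 2, 3, 7, 6, 5, 4, 3, 2, 1, 0, 1, 2, 3, 4, 5, 6, 7, 3, 2, 1, 4, 3, 2, 5, 4, 3, 8, 7, 3, 2, 1, 0, 4, 3, 2, 1, 7, 3, 2, 7, 3, 4, 1, 2, 3, 7, 5, 4, 3, 2, 1, 0, 1, 2, 3, 4, 5, 7, 3, 2, 1, 4, 3, 7, 2, 3, 4, 1, 2, 3, 7, 8, 7, 2, 3, 4, 1, 2, 3, 7, 5, 4, 3, 2, 1, 0, 1, 2, 3, 4, 5, 7, 3, 2, 1, 4, 3, 2, 7, 8, 7, 3, 2, 1, 4, 3, 2, 1, 2, 3, 7, 8, 3, 4, 5, 2, 3, 4, 1, 2, 3, 7, 6, 5, 4, 3, 2, 1, 0, 1, 2, 3, 4, 5, 6, 7, 3, 2, 1, 4, 3, 2, 5, 4, 3, 8, 7, 3, 2, 1, 6, 5, 4, 3, 7, 8, 1, 2, 3, 7, 4, 3, 2, 1, 0, 1, 2, 3, 4, 7, 3, 2, 1, 8, 7, 3, 4, 5, 6, 7, 8, 3, 7, 5, 4, 3, 2, 1, 0, 1, 2, 3, 4, 5, 7, 3, 8, 7, 5, 4, 0, 1, 2, 3, 7, 8, 4, 2, 3, 7, 6, 5, 4, 3, 2, 0, 1, 0, 1, 0, 2, 3, 4, 5, 6, 7, 3, 2, 4, 8, 7, 3,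 2, 1, 0, 4, 5, 6, 4, 5, 3, 4, 2, 3, 7, 8, 3, 4, 5, 2, 3, 4, 1, 2, 3, 7, 6, 5, 4, 3, 2, 1, 0, 1, 2, 3, 4, 5, 6, 7, 3, 2, 1, 4, 3, 2, 5, 4, 3, 8, 7, 3, 2, 4, 3, 5, 4, 6, 4, 3, 1, 2, 0, 1, 0, 1, 0, 2, 1, 3, 4, 6, 5, 4, 1, 2, 3, 7, 8, 4, 2, 3, 7, 6, 5, 4, 3, 2, 1, 0, 1, 2, 3, 4, 5, 6, 7, 3, 2, 4, 8, 7, 3, 2, 1, 0, 1, 2, 3, 7, 8, 4, 2, 3, 7, 5, 4, 3, 2, 0, 1, 0, 1, 0, 2, 3, 4, 5, 7, 3, 2, 4, 8, 7, 3, 2, 1, 0, 4, 5, 6, 0, 1, 2, 3, 7, 8, 3, 4, 5, 2, 3, 4, 1, 2, 3, 7, 6, 5, 4, 3, 2, 1, 0, 1, 2, 3, 4, 5, 6, 7, 3, 2, 1, 4, 3, 2, 5, 4, 3, 8, 7, 3, 2, 1, 0, 6, 4, 5, 2, 3, 4, 1, 2, 3, 7, 8, 5, 4, 1, 2, 3, 7, 6, 5, 4, 3, 2, 1, 0, 1, 2, 3, 4, 5, 6, 7, 3, 2, 1, 4, 5, 8, 7, 3, 2, 1, 4, 3, 2, 5, 4, 6]),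
  (2, [2, 3, 7, 8, 4, 3, 7, 4, 5, 2, 3, 4, 1, 2, 3, 7, 8, 5, 2, 3, 4, 1, 2, 3, 7, 6, 5, 4, 3, 2, 1, 0, 1, 2, 3, 4, 5, 6, 7, 3, 2, 1, 4, 3, 2, 5, 8, 7, 3, 2, 1, 4, 3, 2, 5, 4, 7, 3, 4, 8, 7, 3, 2, 3, 7, 5, 2, 3, 4, 1, 2, 3, 7, 8, 7, 5, 2, 3, 4, 1, 2, 3, 7, 6, 5, 4, 3, 2, 1, 0, 1, 2, 3, 4, 5, 6, 7, 3, 2, 1, 4, 3, 2, 5, 7, 8, 7, 3, 2, 1, 4, 3, 2, 5, 7, 3, 6, 5, 4, 3, 7, 8, 3, 7, 4, 5, 3, 4, 2, 3, 7, 6, 5, 4, 3, 2, 0, 1, 0, 1, 0, 2, 3, 4, 5, 6, 7, 3, 2, 4, 3, 5, 4, 7, 3, 8, 7, 3, 4, 5, 6, 5, 4, 1, 2, 3, 7, 8, 4, 1, 2, 3, 7, 5, 4, 3, 2, 1, 0, 1, 2, 3, 4, 5, 7, 3, 2, 1, 4, 8, 7, 3, 2, 1, 4, 5, 7, 2, 3, 4, 1, 2, 3, 7, 8, 3, 4, 1, 2, 3, 7, 5, 4, 3, 2, 1, 0, 1, 2, 3, 4, 5, 7, 3, 2, 1, 4, 3, 8, 7, 3, 2, 1, 4,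 3, 2, 7, 6, 4, 5, 2, 3, 4, 1, 2, 3, 7, 8, 5, 4, 1, 2, 3, 7, 6, 5, 4, 3, 2, 1, 0, 1, 2, 3, 4, 5, 6, 7, 3, 2, 1, 4, 5, 8, 7, 3, 2, 1, 4, 3, 2, 5, 4, 6, 5, 6, 4, 5, 3, 4, 1, 2, 3, 7, 8, 4, 5, 3, 4, 1, 2, 3, 7, 6, 5, 4, 3, 2, 1, 0, 1, 2, 3, 4, 5, 6, 7, 3, 2, 1, 4, 3, 5, 4, 8, 7, 3, 2, 1, 4, 3, 5, 4, 6, 5, 6, 5, 4, 3, 7, 8, 1, 2, 3, 7, 4, 3, 2, 1, 0, 1, 2, 3, 4, 7, 3, 2, 1, 8, 7, 3, 4, 5, 6, 1, 2, 3, 7, 8, 3, 4, 5, 2, 3, 4, 1, 2, 3, 7, 6, 5, 4, 3, 2, 1, 0, 1, 2, 3, 4, 5, 6, 7, 3, 2, 1, 4, 3, 2, 5, 4, 3, 8, 7, 3, 2, 1, 2, 3, 7, 8, 4, 3, 7, 5, 2, 3, 4, 0, 1, 2, 3, 7, 8, 5, 2, 3, 4, 1, 2, 3, 7, 6, 5, 4, 3, 2, 1, 0, 1, 2, 3, 4, 5, 6, 7, 3, 2, 1, 4, 3, 2, 5, 8, 7, 3, 2, 1, 0, 4, 3, 2, 5, 7, 3, 4, 8, 7, 3, 2,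 6, 5, 4, 0, 1, 2, 3, 7, 8, 4, 2, 3, 7, 5, 4, 3, 2, 0, 1, 0, 1, 0, 2, 3, 4, 5, 7, 3, 2, 4, 8, 7, 3, 2, 1, 0, 4, 5, 4, 5, 3, 4, 2, 3, 7, 8, 3, 4, 5, 2, 3, 4, 1, 2, 3, 7, 6, 5, 4, 3, 2, 1, 0, 1, 2, 3, 4, 5, 6, 7, 3, 2, 1, 4, 3, 2, 5, 4, 3, 8, 7, 3, 2, 4, 3, 5, 4, 6, 5, 4, 2, 3, 7, 8, 4, 2, 3, 7, 6, 5, 4, 3, 2, 1, 0, 1, 2, 3, 4, 5, 6, 7, 3, 2, 4, 8, 7, 3, 2, 4, 5, 6, 5, 4, 3, 7, 8, 1, 2, 3, 7, 4, 3, 2, 1, 0, 1, 2, 3, 4, 7, 3, 2, 1, 3, 4, 5, 2, 3, 4, 1, 2, 3, 7, 6, 5, 4, 3, 2, 1, 0, 1, 2, 3, 4, 5, 6, 7, 3, 2, 1, 4, 3, 2, 5, 4, 3, 8, 7, 3, 4, 5, 6, 4, 5, 2, 3, 4, 0, 1, 2, 3, 7, 8, 5, 4, 1, 2, 3, 7, 6, 5, 4, 3, 2, 1, 0, 1, 2, 3, 4, 5, 6, 7, 3, 2, 1, 4, 5, 8, 7, 3, 2, 1, 0, 4, 3, 2, 5, 4]),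
  (2, [8, 3, 7, 5, 2, 3, 4, 1, 2, 3, 7, 8, 5, 3, 4, 1, 2, 3, 7, 6, 5, 4, 3, 2, 1, 0, 1, 2, 3, 4, 5, 6, 7, 3, 2, 1, 4, 3, 5, 8, 7, 3, 2, 1, 4, 3, 2, 5, 7, 3, 8, 7, 8, 7, 3, 4, 2, 3, 7, 5, 4, 3, 2, 1, 0, 1, 2, 3, 4, 5, 7, 3, 2, 4, 3, 7, 8, 7, 2, 3, 7, 8, 4, 1, 2, 3, 7, 5, 4, 3, 2, 1, 0, 1, 2, 3, 4, 5, 7, 3, 2, 1, 4, 8, 7, 3, 2, 5, 2, 3, 4, 1, 2, 3, 7, 8, 7, 5, 3, 4, 2, 3, 7, 6, 5, 4, 3, 2, 1, 0, 1, 2, 3, 4, 5, 6, 7, 3, 2, 4, 3, 5, 7, 8, 7, 3, 2, 1, 4, 3, 2, 5, 4, 1, 2, 3, 7, 8, 4, 2, 3, 7, 5, 4, 3, 2, 0, 1, 0, 1, 0, 2, 3, 4, 5, 7, 3, 2, 4, 8, 7, 3, 2, 1, 4, 8, 7, 5, 3, 4, 2, 3, 7, 8, 7, 5, 3, 4, 1, 2, 3, 7, 6, 5, 4, 3, 2, 1, 0, 1, 2, 3, 4, 5, 6, 7, 3, 2, 1, 4, 3, 5, 7, 8, 7, 3, 2, 4, 3, 5, 7, 6, 5, 4,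 2, 3, 7, 4, 5, 2, 3, 4, 1, 2, 3, 7, 8, 5, 2, 3, 4, 1, 2, 3, 7, 6, 5, 4, 3, 2, 1, 0, 1, 2, 3, 4, 5, 6, 7, 3, 2, 1, 4, 3, 2, 5, 8, 7, 3, 2, 1, 4, 3, 2, 5, 4, 7, 3, 2, 4, 5, 6, 8, 6, 5, 4, 0, 1, 2, 3, 7, 8, 4, 2, 3, 7, 6, 5, 4, 3, 2, 0, 1, 0, 1, 0, 2, 3, 4, 5, 6, 7, 3, 2, 4, 8, 7, 3, 2, 1, 0, 4, 5, 6, 0, 1, 2, 3, 7, 8, 5, 4, 3, 7, 6, 5, 4, 3, 1, 2, 0, 1, 0, 1, 0, 2, 1, 3, 4, 5, 6, 7, 3, 4, 5, 8, 7, 3, 2, 1, 0, 7, 8, 3, 7, 5, 4, 3, 2, 1, 0, 1, 2, 3, 4, 5, 7, 3, 8, 7, 5, 4, 0, 1, 2, 3, 7, 8, 4, 2, 3, 7, 6, 5, 4, 3, 2, 0, 1, 0, 1, 0, 2, 3, 4, 5, 6, 7, 3, 2, 4, 8, 7, 3, 2, 1, 0, 4, 5, 7, 8, 3, 7, 6, 5, 4, 3, 1, 2, 0, 1, 0, 1, 0, 2, 1, 3, 4, 5, 6, 7, 3, 8, 7, 6, 4, 5, 3, 4, 2, 3, 7, 8, 3, 4, 5, 2, 3, 4, 1,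 2, 3, 7, 6, 5, 4, 3, 2, 1, 0, 1, 2, 3, 4, 5, 6, 7, 3, 2, 1, 4, 3, 2, 5, 4, 3, 8, 7, 3, 2, 4, 3, 5, 4, 5, 4, 0, 1, 2, 3, 7, 8, 4, 2, 3, 7, 5, 4, 3, 2, 0, 1, 0, 1, 0, 2, 3, 4, 5, 7, 3, 2, 4, 8, 7, 3, 2, 1, 0, 4, 5, 6, 0, 1, 2, 3, 7, 8, 3, 4, 5, 2, 3, 4, 1, 2, 3, 7, 6, 5, 4, 3, 2, 1, 0, 1, 2, 3, 4, 5, 6, 7, 3, 2, 1, 4, 3, 2, 5, 4, 3, 8, 7, 3, 2, 1, 0, 6, 5, 4, 3, 7, 8, 3, 4, 5, 2, 3, 4, 1, 2, 3, 7, 6, 5, 4, 3, 2, 1, 0, 1, 2, 3, 4, 5, 6, 7, 3, 2, 1, 4, 3, 2, 5, 4, 3, 8, 7, 3, 4, 5, 4, 5, 2, 3, 4, 1, 2, 3, 7, 8, 5, 4, 1, 2, 3, 7, 6, 5, 4, 3, 2, 1, 0, 1, 2, 3, 4, 5, 6, 7, 3, 2, 1, 4, 5, 8, 7, 3, 2, 1, 4, 3, 2, 5, 4, 6]),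
  (2, [4, 2, 3, 7, 8, 3, 4, 2, 3, 7, 5, 4, 3, 2, 1, 0, 1, 2, 3, 4, 5, 7, 3, 2, 4, 3, 8, 7, 3, 2, 4, 8, 7, 6, 4, 5, 2, 3, 4, 1, 2, 3, 7, 8, 4, 5, 2, 3, 4, 1, 2, 3, 7, 6, 5, 4, 3, 2, 1, 0, 1, 2, 3, 4, 5, 6, 7, 3, 2, 1, 4, 3, 2, 5, 4, 8, 7, 3, 2, 1, 4, 3, 2, 5, 4, 6, 7, 8, 3, 7, 5, 2, 3, 4, 1, 2, 3, 7, 8, 7, 5, 2, 3, 4, 1, 2, 3, 7, 6, 5, 4, 3, 2, 1, 0, 1, 2, 3, 4, 5, 6, 7, 3, 2, 1, 4, 3, 2, 5, 7, 8, 7, 3, 2, 1, 4, 3, 2, 5, 7, 3, 8, 7, 5, 3, 4, 2, 3, 7, 8, 7, 5, 3, 4, 1, 2, 3, 7, 6, 5, 4, 3, 2, 1, 0, 1, 2, 3, 4, 5, 6, 7, 3, 2, 1, 4, 3, 5, 7, 8, 7, 3, 2, 4, 3, 5, 7, 8, 7, 3, 4, 1, 2, 3, 7, 5, 4, 3, 2, 1, 0, 1, 2, 3, 4, 5, 7, 3, 2, 1, 4, 3, 7, 2, 3, 4, 1, 2, 3, 7, 8, 7, 2, 3, 4, 1, 2, 3, 7, 5, 4, 3, 2, 1,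 0, 1, 2, 3, 4, 5, 7, 3, 2, 1, 4, 3, 2, 7, 8, 7, 3, 2, 1, 4, 3, 2, 6, 5, 4, 0, 1, 2, 3, 7, 8, 4, 2, 3, 7, 6, 5, 4, 3, 2, 0, 1, 0, 1, 0, 2, 3, 4, 5, 6, 7, 3, 2, 4, 8, 7, 3, 2, 1, 0, 4, 5, 6, 0, 1, 2, 3, 7, 8, 5, 4, 3, 7, 6, 5, 4, 3, 1, 2, 0, 1, 0, 1, 0, 2, 1, 3, 4, 5, 6, 7, 3, 4, 5, 8, 7, 3, 2, 1, 0, 5, 4, 0, 1, 2, 3, 7, 8, 4, 2, 3, 7, 6, 5, 4, 3, 2, 0, 1, 0, 1, 0, 2, 3, 4, 5, 6, 7, 3, 2, 4, 8, 7, 3, 2, 1, 0, 4, 5, 0, 1, 2, 3, 7, 8, 3, 4, 5, 2, 3, 4, 1, 2, 3, 7, 6, 5, 4, 3, 2, 1, 0, 1, 2, 3, 4, 5, 6, 7, 3, 2, 1, 4, 3, 2, 5, 4, 3, 8, 7, 3, 2, 1, 0, 4, 3, 7, 8, 5, 4, 3, 7, 6, 5, 4, 3, 1, 2, 0, 1, 0, 1, 0, 2, 1, 3, 4, 5, 6, 7, 3, 4, 5, 2, 3, 7, 4, 3, 2, 1, 0, 1, 2, 3, 4, 7, 3, 2, 8, 7, 3, 4, 6, 5, 4, 1,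 2, 3, 7, 8, 4, 2, 3, 7, 6, 5, 4, 3, 2, 1, 0, 1, 2, 3, 4, 5, 6, 7, 3, 2, 4, 8, 7, 3, 2, 1, 4, 5, 6, 0, 1, 2, 3, 7, 8, 5, 4, 3, 7, 6, 5, 4, 3, 1, 2, 0, 1, 0, 1, 0, 2, 1, 3, 4, 5, 6, 7, 3, 4, 5, 3, 4, 5, 2, 3, 4, 1, 2, 3, 7, 6, 5, 4, 3, 2, 1, 0, 1, 2, 3, 4, 5, 6, 7, 3, 2, 1, 4, 3, 2, 5, 4, 3, 8, 7, 3, 2, 1, 0, 6, 4, 5, 2, 3, 4, 1, 2, 3, 7, 8, 5, 4, 1, 2, 3, 7, 6, 5, 4, 3, 2, 1, 0, 1, 2, 3, 4, 5, 6, 7, 3, 2, 1, 4, 5, 8, 7, 3, 2, 1, 4, 3, 2, 5, 4, 6]),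
  (1, [7, 5, 3, 4, 1, 2, 3, 7, 8, 7, 4, 5, 2, 3, 4, 1, 2, 3, 7, 6, 5, 4, 3, 2, 1, 0, 1, 2, 3, 4, 5, 6, 7, 3, 2, 1, 4, 3, 2, 5, 4, 7, 8, 7, 3, 2, 1, 4, 3, 5, 7, 5, 6, 4, 5, 3, 4, 1, 2, 3, 7, 8, 4, 5, 3, 4, 1, 2, 3, 7, 6, 5, 4, 3, 2, 1, 0, 1, 2, 3, 4, 5, 6, 7, 3, 2, 1, 4, 3, 5, 4, 8, 7, 3, 2, 1, 4, 3, 5, 4, 6, 5, 8, 7, 3, 4, 2, 3, 7, 8, 7, 5, 3, 4, 2, 3, 7, 6, 5, 4, 3, 2, 1, 0, 1, 2, 3, 4, 5, 6, 7, 3, 2, 4, 3, 5, 7, 8, 7, 3, 2, 4, 3, 7, 8, 5, 4, 3, 7, 8, 3, 4, 2, 3, 7, 6, 5, 4, 3, 2, 1, 0, 1, 2, 3, 4, 5, 6, 7, 3, 2, 4, 3, 8, 7, 3, 4, 5, 0, 1, 2, 3, 7, 8, 5, 4, 3, 7, 6, 5, 4, 3, 1, 2, 0, 1, 0, 1, 0, 2, 1, 3, 4, 5, 6, 7, 3, 4, 5, 8, 7, 3, 2, 1, 0, 2, 3, 7, 8, 1, 2, 3, 7, 4, 3, 2, 1, 0, 1, 2, 3, 4, 7, 3,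 2, 1, 3, 7, 2, 3, 4, 1, 2, 3, 7, 5, 4, 3, 2, 1, 0, 1, 2, 3, 4, 5, 7, 3, 2, 1, 4, 3, 2, 7, 3, 8, 7, 3, 2, 6, 5, 4, 1, 2, 3, 7, 8, 4, 2, 3, 7, 6, 5, 4, 3, 2, 1, 0, 1, 2, 3, 4, 5, 6, 7, 3, 2, 4, 8, 7, 3, 2, 1, 4, 5, 4, 5, 3, 4, 2, 3, 7, 8, 3, 4, 5, 2, 3, 4, 1, 2, 3, 7, 6, 5, 4, 3, 2, 1, 0, 1, 2, 3, 4, 5, 6, 7, 3, 2, 1, 4, 3, 2, 5, 4, 3, 8, 7, 3, 2, 4, 3, 5, 4, 6, 5, 4, 0, 1, 2, 3, 7, 8, 4, 2, 3, 7, 6, 5, 4, 3, 2, 1, 0, 1, 2, 3, 4, 5, 6, 7, 3, 2, 4, 8, 7, 3, 2, 1, 0, 4, 5, 6, 5, 4, 0, 1, 2, 3, 7, 8, 4, 2, 3, 7, 5, 4, 3, 2, 0, 1, 0, 1, 0, 2, 3, 4, 5, 7, 3, 2, 4, 8, 7, 3, 2, 1, 0, 3, 7, 8, 1, 2, 3, 7, 4, 3, 2, 1, 0, 1, 2, 3, 4, 7, 3, 2, 1, 3, 4, 5, 2, 3, 4, 1, 2, 3, 7, 6, 5, 4, 3, 2, 1, 0, 1, 2, 3, 4, 5,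 6, 7, 3, 2, 1, 4, 3, 2, 5, 4, 3, 8, 7, 3, 4, 5, 6, 4, 5, 2, 3, 4, 0, 1, 2, 3, 7, 8, 5, 4, 1, 2, 3, 7, 6, 5, 4, 3, 2, 1, 0, 1, 2, 3, 4, 5, 6, 7, 3, 2, 1, 4, 5, 8, 7, 3, 2, 1, 0, 4, 3, 2, 5, 4]),
  (2, [5, 2, 3, 4, 1, 2, 3, 7, 8, 7, 5, 3, 4, 2, 3, 7, 6, 5, 4, 3, 2, 1, 0, 1, 2, 3, 4, 5, 6, 7, 3, 2, 4, 3, 5, 7, 8, 7, 3, 2, 1, 4, 3, 2, 3, 4, 1, 2, 3, 7, 8, 4, 1, 2, 3, 7, 6, 5, 4, 3, 2, 1, 0, 1, 2, 3, 4, 5, 6, 7, 3, 2, 1, 4, 8, 7, 3, 2, 1, 4, 3, 5, 3, 7, 4, 5, 3, 4, 1, 2, 3, 7, 8, 7, 4, 5, 2, 3, 4, 1, 2, 3, 7, 6, 5, 4, 3, 2, 1, 0, 1, 2, 3, 4, 5, 6, 7, 3, 2, 1, 4, 3, 2, 5, 4, 7, 8, 7, 3, 2, 1, 4, 3, 5, 4, 7, 3, 5, 4, 1, 2, 3, 7, 8, 4, 1, 2, 3, 7, 5, 4, 3, 2, 1, 0, 1, 2, 3, 4, 5, 7, 3, 2, 1, 4, 8, 7, 3, 2,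 1, 4, 5, 4, 1, 2, 3, 7, 8, 4, 2, 3, 7, 5, 4, 3, 2, 0, 1, 0, 1, 0, 2, 3, 4, 5, 7, 3, 2, 4, 8, 7, 3, 2, 1, 4, 6, 4, 5, 2, 3, 4, 1, 2, 3, 7, 8, 5, 4, 1, 2, 3, 7, 6, 5, 4, 3, 2, 1, 0, 1, 2, 3, 4, 5, 6, 7, 3, 2, 1, 4, 5, 8, 7, 3, 2, 1, 4, 3, 2, 5, 4, 6, 5, 6, 4, 5, 3, 4, 1, 2, 3, 7, 8, 4, 5, 3, 4, 1, 2, 3, 7, 6, 5, 4, 3, 2, 1, 0, 1, 2, 3, 4, 5, 6, 7, 3, 2, 1, 4, 3, 5, 4, 8, 7, 3, 2, 1, 4, 3, 5, 4, 6, 5, 6, 5, 4, 3, 7, 8, 1, 2, 3, 7, 4, 3, 2, 1, 0, 1, 2, 3, 4, 7, 3, 2, 1, 8, 7, 3, 4, 5, 6, 4, 2, 3, 7, 8, 4, 2, 3, 7, 6, 5, 4, 3, 2, 1, 0, 1, 2, 3, 4, 5, 6, 7, 3, 2, 4, 8, 7, 3, 2, 4, 1, 2, 3, 7, 8, 3, 4, 5, 2, 3, 4, 1, 2, 3, 7, 6, 5, 4, 3, 2, 1, 0, 1, 2, 3, 4, 5, 6, 7, 3, 2, 1, 4, 3, 2, 5, 4, 3, 8, 7, 3, 2,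 1, 5, 4, 0, 1, 2, 3, 7, 8, 4, 2, 3, 7, 6, 5, 4, 3, 2, 0, 1, 0, 1, 0, 2, 3, 4, 5, 6, 7, 3, 2, 4, 8, 7, 3, 2, 1, 0, 4, 5, 0, 1, 2, 3, 7, 8, 3, 4, 5, 2, 3, 4, 1, 2, 3, 7, 6, 5, 4, 3, 2, 1, 0, 1, 2, 3, 4, 5, 6, 7, 3, 2, 1, 4, 3, 2, 5, 4, 3, 8, 7, 3, 2, 1, 0, 6, 4, 5, 3, 4, 2, 3, 7, 8, 3, 4, 5, 2, 3, 4, 1, 2, 3, 7, 6, 5, 4, 3, 2, 1, 0, 1, 2, 3, 4, 5, 6, 7, 3, 2, 1, 4, 3, 2, 5, 4, 3, 8, 7, 3, 2, 4, 3, 5, 4, 6, 2, 3, 7, 8, 4, 3, 7, 5, 2, 3, 4, 0, 1, 2, 3, 7, 8, 5, 2, 3, 4, 1, 2, 3, 7, 6, 5, 4, 3, 2, 1, 0, 1, 2, 3, 4, 5, 6, 7, 3, 2, 1, 4, 3, 2, 5, 8, 7, 3, 2, 1, 0, 4, 3, 2, 5, 7, 3, 4, 8, 7, 3, 2, 5, 4, 2, 3, 7, 8, 4, 2, 3, 7, 6, 5, 4, 3, 2, 1, 0, 1, 2, 3, 4, 5, 6, 7, 3, 2, 4, 8, 7, 3, 2, 4, 5, 4, 5, 2, 3,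 4, 0, 1, 2, 3, 7, 8, 5, 4, 1, 2, 3, 7, 6, 5, 4, 3, 2, 1, 0, 1, 2, 3, 4, 5, 6, 7, 3, 2, 1, 4, 5, 8, 7, 3, 2, 1, 0, 4, 3, 2, 5, 4]),
  (1, [2, 3, 7, 8, 4, 1, 2, 3, 7, 5, 4, 3, 2, 1, 0, 1, 2, 3, 4, 5, 7, 3, 2, 1, 4, 8, 7, 3, 2, 8, 7, 6, 4, 5, 2, 3, 4, 1, 2, 3, 7, 8, 4, 5, 2, 3, 4, 1, 2, 3, 7, 6, 5, 4, 3, 2, 1, 0, 1, 2, 3, 4, 5, 6, 7, 3, 2, 1, 4, 3, 2, 5, 4, 8, 7, 3, 2, 1, 4, 3, 2, 5, 4, 6, 7, 8, 5, 3, 4, 1, 2, 3, 7, 8, 4, 1, 2, 3, 7, 6, 5, 4, 3, 2, 1, 0, 1, 2, 3, 4, 5, 6, 7, 3, 2, 1, 4, 8, 7, 3, 2, 1, 4, 3, 5, 2, 3, 7, 8, 4, 3, 7, 4, 5, 2, 3, 4, 1, 2, 3, 7, 8, 5, 2, 3, 4, 1, 2, 3, 7, 6, 5, 4, 3, 2, 1, 0, 1, 2, 3, 4, 5, 6, 7, 3, 2, 1, 4, 3, 2, 5, 8, 7, 3, 2, 1, 4, 3, 2, 5, 4, 7, 3, 4, 8, 1, 2, 3, 4, 0,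 1, 2, 3, 7, 8, 3, 4, 5, 2, 3, 4, 1, 2, 3, 7, 6, 5, 4, 3, 2, 1, 0, 1, 2, 3, 4, 5, 6, 7, 3, 2, 1, 4, 3, 2, 5, 4, 3, 8, 7, 3, 2, 1, 0, 4, 3, 2, 1, 7, 3, 2, 8, 7, 5, 3, 4, 2, 3, 7, 8, 7, 5, 3, 4, 1, 2, 3, 7, 6, 5, 4, 3, 2, 1, 0, 1, 2, 3, 4, 5, 6, 7, 3, 2, 1, 4, 3, 5, 7, 8, 7, 3, 2, 4, 3, 5, 7, 8, 2, 3, 4, 1, 2, 3, 7, 8, 7, 2, 3, 4, 1, 2, 3, 7, 5, 4, 3, 2, 1, 0, 1, 2, 3, 4, 5, 7, 3, 2, 1, 4, 3, 2, 7, 8, 7, 3, 2, 1, 4, 3, 2, 5, 4, 0, 1, 2, 3, 7, 8, 4, 2, 3, 7, 6, 5, 4, 3, 2, 0, 1, 0, 1, 0, 2, 3, 4, 5, 6, 7, 3, 2, 4, 8, 7, 3, 2, 1, 0, 4, 5, 0, 1, 2, 3, 7, 8, 5, 4, 3, 7, 6, 5, 4, 3, 1, 2, 0, 1, 0, 1, 0, 2, 1, 3, 4, 5, 6, 7, 3, 4, 5, 8, 7, 3, 2, 1, 0, 7, 8, 3, 7, 5, 4, 3, 2, 1, 0, 1, 2, 3, 4, 5, 7, 3, 8, 7,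 2, 3, 7, 8, 4, 3, 7, 5, 2, 3, 4, 0, 1, 2, 3, 7, 8, 5, 2, 3, 4, 1, 2, 3, 7, 6, 5, 4, 3, 2, 1, 0, 1, 2, 3, 4, 5, 6, 7, 3, 2, 1, 4, 3, 2, 5, 8, 7, 3, 2, 1, 0, 4, 3, 2, 5, 7, 3, 4, 8, 7, 3, 2, 6, 4, 5, 3, 4, 2, 3, 7, 8, 3, 4, 5, 2, 3, 4, 1, 2, 3, 7, 6, 5, 4, 3, 2, 1, 0, 1, 2, 3, 4, 5, 6, 7, 3, 2, 1, 4, 3, 2, 5, 4, 3, 8, 7, 3, 2, 4, 3, 5, 4, 6, 5, 4, 2, 3, 7, 8, 4, 2, 3, 7, 6, 5, 4, 3, 2, 1, 0, 1, 2, 3, 4, 5, 6, 7, 3, 2, 4, 8, 7, 3, 2, 4, 5, 6, 5, 4, 3, 7, 8, 3, 4, 5, 2, 3, 4, 1, 2, 3, 7, 6, 5, 4, 3, 2, 1, 0, 1, 2, 3, 4, 5, 6, 7, 3, 2, 1, 4, 3, 2, 5, 4, 3, 8, 7, 3, 4, 5, 6]),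
  (2, [6, 5, 4, 3, 7, 8, 3, 7, 4, 5, 3, 4, 2, 3, 7, 6, 5, 4, 3, 2, 0, 1, 0, 1, 0, 2, 3, 4, 5, 6, 7, 3, 2, 4, 3, 5, 4, 7, 3, 8, 7, 3, 4, 5, 6, 3, 7, 4, 5, 3, 4, 1, 2, 3, 7, 8, 7, 4, 5, 2, 3, 4, 1, 2, 3, 7, 6, 5, 4, 3, 2, 1, 0, 1, 2, 3, 4, 5, 6, 7, 3, 2, 1, 4, 3, 2, 5, 4, 7, 8, 7, 3, 2, 1, 4, 3, 5, 4, 7, 3, 6, 5, 4, 3, 7, 8, 3, 7, 4, 5, 3, 4, 2, 3, 7, 6, 5, 4, 3, 2, 0, 1, 0, 1, 0, 2, 3, 4, 5, 6, 7, 3, 2, 4, 3, 5, 4, 7, 3, 8, 7, 3, 4, 5, 6, 7, 8, 4, 3, 7, 6, 5, 4, 3, 1, 2, 0, 1, 0, 1, 0, 2, 1, 3, 4, 5, 6, 7, 3, 4, 8, 7, 8, 7, 3, 4, 2, 3, 7, 8, 7, 5, 3, 4, 2, 3, 7, 6, 5, 4, 3, 2, 1, 0, 1, 2, 3, 4, 5, 6, 7, 3, 2, 4, 3, 5, 7, 8, 7, 3, 2, 4, 3, 5, 3, 4, 2, 3, 7, 8, 7, 5, 3, 4, 1, 2, 3, 7, 6, 5, 4, 3, 2, 1,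 0, 1, 2, 3, 4, 5, 6, 7, 3, 2, 1, 4, 3, 5, 7, 8, 7, 3, 2, 4, 3, 5, 7, 8, 7, 3, 4, 1, 2, 3, 7, 5, 4, 3, 2, 1, 0, 1, 2, 3, 4, 5, 7, 3, 2, 1, 4, 3, 7, 5, 4, 0, 1, 2, 3, 7, 8, 4, 2, 3, 7, 6, 5, 4, 3, 2, 0, 1, 0, 1, 0, 2, 3, 4, 5, 6, 7, 3, 2, 4, 8, 7, 3, 2, 1, 0, 4, 5, 2, 3, 7, 8, 1, 2, 3, 7, 4, 3, 2, 1, 0, 1, 2, 3, 4, 7, 3, 2, 1, 8, 7, 3, 2, 6, 5, 4, 0, 1, 2, 3, 7, 8, 4, 2, 3, 7, 6, 5, 4, 3, 2, 0, 1, 0, 1, 0, 2, 3, 4, 5, 6, 7, 3, 2, 4, 8, 7, 3, 2, 1, 0, 4, 5, 6, 1, 2, 3, 7, 8, 3, 4, 5, 2, 3, 4, 1, 2, 3, 7, 6, 5, 4, 3, 2, 1, 0, 1, 2, 3, 4, 5, 6, 7, 3, 2, 1, 4, 3, 2, 5, 4, 3, 8, 7, 3, 2, 1, 4, 1, 2, 3, 7, 8, 4, 2, 3, 7, 6, 5, 4, 3, 2, 1, 0, 1, 2, 3, 4, 5, 6, 7, 3, 2, 4, 8, 7, 3, 2, 1, 4, 7, 8, 3, 7, 6, 4,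 5, 2, 3, 4, 0, 1, 2, 3, 7, 8, 5, 4, 1, 2, 3, 7, 6, 5, 4, 3, 2, 1, 0, 1, 2, 3, 4, 5, 6, 7, 3, 2, 1, 4, 5, 8, 7, 3, 2, 1, 0, 4, 3, 2, 5, 4, 6, 7, 3, 8, 7, 6, 5, 4, 0, 1, 2, 3, 7, 8, 4, 2, 3, 7, 5, 4, 3, 2, 0, 1, 0, 1, 0, 2, 3, 4, 5, 7, 3, 2, 4, 8, 7, 3, 2, 1, 0, 1, 2, 3, 7, 8, 4, 2, 3, 7, 6, 5, 4, 3, 2, 1, 0, 1, 2, 3, 4, 5, 6, 7, 3, 2, 4, 8, 7, 3, 2, 1, 4, 5, 6, 0, 1, 2, 3, 7, 8, 3, 4, 5, 2, 3, 4, 1, 2, 3, 7, 6, 5, 4, 3, 2, 1, 0, 1, 2, 3, 4, 5, 6, 7, 3, 2, 1, 4, 3, 2, 5, 4, 3, 8, 7, 3, 2, 1, 0, 4, 5, 2, 3, 4, 0, 1, 2, 3, 7, 8, 5, 4, 1, 2, 3, 7, 6, 5, 4, 3, 2, 1, 0, 1, 2, 3, 4, 5, 6, 7, 3, 2, 1, 4, 5, 8, 7, 3, 2, 1, 0, 4, 3, 2, 5, 4])]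

end CfsgLib.Presented.Fi22Outer
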