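import Cfsg.Agent.Lib.Presented.Fi22Outer.Tables
import Cfsg.Agent.Lib.Presented.Fi22Outer.Sigma
import Cfsg.Agent.Lib.Presented.Fi22Outer.SylowData
import Cfsg.Agent.Lib.Presented.Fi22Order

/-! A subgroup of order 2^17 invariant under the diagram symmetry, with a series of normal subgroups. -/
set_option autoImplicit false
set_option maxRecDepth 100000

namespace CfsgLib.Presented.Fi22Outer

open CfsgLib.ThreeTrans.Inst.FiTwentyTwo (P)
open Fi22UCert (rep)
open Fi22Pts (G pt lookup allLt allLt_spec pt_val)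

/-- the series -/
noncomputable def Nser (i : ℕ) : Subgroup G := Subgroup.closure (el '' {j | i ≤ j ∧ j < 17})

theorem el_mem {i j : ℕ} (h : i ≤ j) (hj : j < 17) : el j ∈ Nser i :=
  Subgroup.subset_closure ⟨j, ⟨h, hj⟩, rfl⟩

theorem Nser_anti {i i' : ℕ} (h : i ≤ i') : Nser i' ≤ Nser i :=
  Subgroup.closure_mono (Set.image_mono fun _ hj => ⟨h.trans hj.1, hj.2⟩)

theorem Nser_last : Nser 17 = ⊥ := by
  rw [Nser, show {j | 17 ≤ j ∧ j < 17} = (∅ : Set ℕ) from Set.eq_empty_of_forall_notMem fun j hj => by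
    obtain ⟨h1, h2⟩ := hj; omega, Set.image_empty, Subgroup.closure_empty]

/-- all letters are at least `i` -/
def geW (i : ℕ) (w : List ℕ) : Bool := okE w && w.all fun j => Nat.ble i j

theorem mem_Nser : ∀ {w : List ℕ} {i : ℕ}, geW i w = true → evW el w ∈ Nser i
  | [], i, _ => by rw [evW_nil]; exact one_mem _
  | j :: w, i, h => by
    simp only [geW, okE, List.all_cons, Bool.and_eq_true, Nat.blt_eq, Nat.ble_eq] at h
    rw [evW_cons]
    refine mul_mem (el_mem h.2.1 h.1.1) (mem_Nser ?_)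
    simp only [geW, okE, Bool.and_eq_true]
    exact ⟨h.1.2, h.2.2⟩

theorem okE_of_geW {i : ℕ} {w : List ℕ} (h : geW i w = true) : okE w = true := by
  rw [geW, Bool.and_eq_true] at h
  exact h.1

/-- the relations -/
noncomputable def relOK : Bool :=
  allLt (fun j => geW (j + 1) (sqW.getD j []) && sameG (elT [j, j]) (elT (sqW.getD j [])) &&
    geW j (sW.getD j []) && sameG (fun p => sg (elT [j] (sg p))) (elT (sW.getD j [])) &&
    allLt (fun k => geW j ((cjW.getD j []).getD k []) &&
      sameG (elT [j, k]) (elT (k :: (cjW.getD j []).getD k []))) 17) 17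

theorem rel_ok : relOK = true := by decide +kernel

theorem okE_of_lt {j : ℕ} (h : j < 17) : okE [j] = true := by simp [okE, Nat.blt_eq, h]

theorem okE_pair {j k : ℕ} (h : j < 17) (h' : k < 17) : okE [j, k] = true := by simp [okE, Nat.blt_eq, h, h']

theorem rels {j : ℕ} (hj : j < 17) :
    el j * el j ∈ Nser (j + 1) ∧ sAut (el j) ∈ Nser j ∧ ∀ k, k < 17 → (el k)⁻¹ * el j * el k ∈ Nser j := by
  have h := allLt_spec rel_ok j hj
  simp only [Bool.and_eq_true] at h
  obtain ⟨⟨⟨⟨h1, h2⟩, h3⟩, h4⟩, h5⟩ := h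
  refine ⟨?_, ?_, fun k hk => ?_⟩
  · have e := (Im.elem (okE_pair hj hj)).eq (Im.elem (okE_of_geW h1)) h2
    rw [evW_cons, evW_cons, evW_nil, mul_one] at e
    rw [e]
    exact mem_Nser h1
  · have hi := (Im.elem (okE_of_lt hj)).sAut
    rw [evW_cons, evW_nil, mul_one] at hi
    rw [hi.eq (Im.elem (okE_of_geW h3)) h4]
    exact mem_Nser h3
  · have h6 := allLt_spec h5 k hk
    simp only [Bool.and_eq_true] at h6
    obtain ⟨h7, h8⟩ := h6
    have hok : okE (k :: (cjW.getD j []).getD k []) = true := by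
      have := okE_of_geW h7
      simp only [okE, List.all_cons, Bool.and_eq_true, Nat.blt_eq] at this ⊢
      exact ⟨hk, this⟩
    have e := (Im.elem (okE_pair hj hk)).eq (Im.elem hok) h8
    rw [evW_cons, evW_cons, evW_cons, evW_nil, mul_one] at e
    rw [mul_assoc, e, inv_mul_cancel_left]
    exact mem_Nser h7

instance finiteG : Finite G := Nat.finite_of_card_ne_zero (by rw [Fi22Order.card_eq]; norm_num)

theorem el_conj {i k : ℕ} (hk : k < 17) {n : G} (hn : n ∈ Nser i) : (el k)⁻¹ * n * el k ∈ Nser i := by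
  refine Subgroup.closure_induction (fun x hx => ?_) (by simp) (fun x y _ _ hx hy => ?_) (fun x _ hx => ?_) hn
  · obtain ⟨j, ⟨h1, h2⟩, rfl⟩ := hx
    exact Nser_anti h1 ((rels h2).2.2 k hk)
  · rw [show (el k)⁻¹ * (x * y) * el k = (el k)⁻¹ * x * el k * ((el k)⁻¹ * y * el k) by group]
    exact mul_mem hx hy
  · rw [show (el k)⁻¹ * x⁻¹ * el k = ((el k)⁻¹ * x * el k)⁻¹ by group]
    exact inv_mem hx

theorem Nser_normalized {i : ℕ} {g : G} (hg : g ∈ Nser 0) {n : G} (hn : n ∈ Nser i) : g⁻¹ * n * g ∈ Nser i := by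
  have hle : Nser 0 ≤ Subgroup.normalizer (Nser i : Set G) := by
    refine (Subgroup.closure_le _).2 ?_
    rintro _ ⟨k, ⟨-, hk⟩, rfl⟩
    refine inv_inv (el k) ▸ inv_mem ?_
    refine Subgroup.mem_normalizer_fintype fun n hn => ?_
    rw [inv_inv]
    exact el_conj hk hn
  have := (Subgroup.mem_normalizer_iff.1 (inv_mem (hle hg)) n).1 hn
  rwa [inv_inv] at this

theorem sAut_mem {i : ℕ} {n : G} (hn : n ∈ Nser i) : sAut n ∈ Nser i := by
  refine Subgroup.closure_induction (fun x hx => ?_) (by simp) (fun x y _ _ hx hy => ?_) (fun x _ hx => ?_) hn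
  · obtain ⟨j, ⟨h1, h2⟩, rfl⟩ := hx
    exact Nser_anti h1 (rels h2).2.1
  · rw [map_mul]; exact mul_mem hx hy
  · rw [map_inv]; exact inv_mem hx

theorem Nser_split {i : ℕ} (hi : i < 17) {n : G} (hn : n ∈ Nser i) :
    n ∈ Nser (i + 1) ∨ ∃ m ∈ Nser (i + 1), n = el i * m := by
  refine Subgroup.closure_induction (p := fun n _ => n ∈ Nser (i + 1) ∨ ∃ m ∈ Nser (i + 1), n = el i * m)
    (fun x hx => ?_) (Or.inl (one_mem _)) (fun x y _ _ hx hy => ?_) (fun x _ hx => ?_) hn
  · obtain ⟨j, ⟨h1, h2⟩, rfl⟩ := hx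
    rcases h1.lt_or_eq with h | h
    · exact Or.inl (el_mem h h2)
    · exact Or.inr ⟨1, one_mem _, by rw [h, mul_one]⟩
  · rcases hx with hx | ⟨u, hu, rfl⟩ <;> rcases hy with hy | ⟨v, hv, rfl⟩
    · exact Or.inl (mul_mem hx hy)
    · exact Or.inr ⟨(el i)⁻¹ * x * el i * v, mul_mem (el_conj hi hx) hv, by group⟩
    · exact Or.inr ⟨u * y, mul_mem hu hy, by group⟩
    · refine Or.inl ?_
      rw [show el i * u * (el i * v) = el i * el i * ((el i)⁻¹ * u * el i * v) by group]
      exact mul_mem (rels hi).1 (mul_mem (el_conj hi hu) hv)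
  · rcases hx with hx | ⟨u, hu, rfl⟩
    · exact Or.inl (inv_mem hx)
    · refine Or.inr ⟨(el i)⁻¹ * u⁻¹ * el i * (el i * el i)⁻¹, mul_mem (el_conj hi (inv_mem hu))
        (inv_mem (rels hi).1), by group⟩

theorem card_step {i : ℕ} (hi : i < 17) : Nat.card (Nser i) ≤ 2 * Nat.card (Nser (i + 1)) := by
  classical
  have h : (Nser i : Set G) ⊆ (Nser (i + 1) : Set G) ∪ (fun m => el i * m) '' (Nser (i + 1) : Set G) := by
    intro n hn
    rcases Nser_split hi hn with h | ⟨m, hm, rfl⟩
    · exact Or.inl h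
    · exact Or.inr ⟨m, hm, rfl⟩
  have h1 := (Set.ncard_le_ncard h (Set.toFinite _)).trans (Set.ncard_union_le _ _)
  have h2 := Set.ncard_image_le (f := fun m => el i * m) (s := (Nser (i + 1) : Set G)) (Set.toFinite _)
  rw [← Nat.card_coe_set_eq] at h1
  simp only [← Nat.card_coe_set_eq] at h2
  rw [← Nat.card_coe_set_eq] at h1
  simp only [← Nat.card_coe_set_eq] at h1
  show Nat.card ((Nser i : Set G)) ≤ 2 * Nat.card ((Nser (i + 1) : Set G))
  omega

/-! ### The lower bound -/

/-- pairwise different -/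
def distinctN : List ℕ → Bool
  | [] => true
  | x :: l => (l.all fun y => !Nat.beq x y) && distinctN l

theorem distinctN_spec : ∀ {l : List ℕ}, distinctN l = true → l.Nodup
  | [], _ => List.nodup_nil
  | x :: l, h => by
    simp only [distinctN, Bool.and_eq_true, List.all_eq_true] at h
    refine List.nodup_cons.2 ⟨fun hx => ?_, distinctN_spec h.2⟩
    have := h.1 x hx
    simp [Nat.beq_refl] at this

/-- the check of the orbits -/
noncomputable def lbOK : List ℕ → List (ℕ × List (List ℕ)) → Bool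
  | _, [] => true
  | fixd, (b, ws) :: r => Nat.blt b 3510 && (ws.all fun w => okE w && fixd.all fun q => Nat.beq (elT w q) q) &&
      distinctN (ws.map fun w => elT w b) && lbOK (b :: fixd) r

/-- the product of the lengths -/
def lbTotal : List (ℕ × List (List ℕ)) → ℕ
  | [] => 1
  | (_, ws) :: r => ws.length * lbTotal r

theorem lb_le : ∀ {L : List (ℕ × List (List ℕ))} {fixd : List ℕ} (K : Subgroup G),
    lbOK fixd L = true → (∀ q ∈ fixd, q < rep.N) →
      (∀ g ∈ Nser 0, (∀ q ∈ fixd, P.φ g (pt q) = pt q) → g ∈ K) → lbTotal L ≤ Nat.card K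
  | [], _, K, _, _, _ => Nat.card_pos
  | (b, ws) :: r, fixd, K, h, hlt, hK => by
    simp only [lbOK, Bool.and_eq_true, Nat.blt_eq, List.all_eq_true] at h
    obtain ⟨⟨⟨hb, hws⟩, hd⟩, hr⟩ := h
    let inst : MulAction K (Fin rep.N) := MulAction.compHom _ ((P.φ).comp K.subtype)
    set K' := (MulAction.stabilizer K (pt b)).map K.subtype with hK'
    have ih : lbTotal r ≤ Nat.card K' := by
      refine lb_le K' hr (fun q hq => ?_) fun g hg hfix => ?_
      · rcases List.mem_cons.1 hq with rfl | hq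
        exacts [hb, hlt q hq]
      · exact ⟨⟨g, hK g hg fun q hq => hfix q (List.mem_cons_of_mem _ hq)⟩, hfix b List.mem_cons_self, rfl⟩
    have horb : ws.length ≤ (MulAction.orbit K (pt b)).ncard := by
      have himg : ∀ w ∈ ws, pt (elT w b) ∈ MulAction.orbit K (pt b) := by
        intro w hw
        obtain ⟨hokw, hfw⟩ := hws w hw
        have hg : evW el w ∈ Nser 0 := mem_Nser (by
          simp only [geW, Bool.and_eq_true, hokw, List.all_eq_true, Nat.ble_eq, true_and]
          exact fun _ _ => Nat.zero_le _)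
        have hk : evW el w ∈ K := hK _ hg fun q hq => by
          rw [(Im.elem hokw q (hlt q hq)).2, Nat.eq_of_beq_eq_true (hfw q hq)]
        exact ⟨⟨_, hk⟩, (Im.elem hokw b hb).2⟩
      have hnd : (ws.map fun w => pt (elT w b)).Nodup := by
        rw [show (ws.map fun w => pt (elT w b)) = (ws.map fun w => elT w b).map pt by rw [List.map_map]; rfl]
        refine (distinctN_spec hd).map_on fun x hx y hy e => ?_
        obtain ⟨w, hw, rfl⟩ := List.mem_map.1 hx
        obtain ⟨w', hw', rfl⟩ := List.mem_map.1 hy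
        have := congrArg Fin.val e
        rwa [pt_val (Im.elem (hws w hw).1 b hb).1, pt_val (Im.elem (hws w' hw').1 b hb).1] at this
      calc ws.length = ((ws.map fun w => pt (elT w b)).toFinset : Set (Fin rep.N)).ncard := by
            rw [Set.ncard_coe_finset, List.toFinset_card_of_nodup hnd, List.length_map]
        _ ≤ _ := by
          refine Set.ncard_le_ncard (fun x hx => ?_) (Set.toFinite _)
          obtain ⟨w, hw, rfl⟩ := List.mem_map.1 (List.mem_toFinset.1 hx)
          exact himg w hw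
    have hcard : Nat.card K = Nat.card K' * (MulAction.orbit K (pt b)).ncard := by
      rw [← MulAction.index_stabilizer, hK', Subgroup.card_map_of_injective K.subtype_injective]
      exact (Subgroup.card_mul_index _).symm
    rw [lbTotal, hcard, mul_comm (Nat.card K')]
    exact Nat.mul_le_mul horb ih

theorem lb_ok : (lbOK [] lbData && Nat.beq (lbTotal lbData) (2 ^ 17)) = true := by decide +kernel

theorem card_zero_ge : 2 ^ 17 ≤ Nat.card (Nser 0) := by
  have h := lb_ok
  rw [Bool.and_eq_true] at h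
  rw [← Nat.eq_of_beq_eq_true h.2]
  exact lb_le (Nser 0) h.1 (fun q hq => by simp at hq) fun g hg _ => hg

theorem card_le_pow : ∀ (k i : ℕ), i + k = 17 → Nat.card (Nser i) ≤ 2 ^ k
  | 0, i, h => by
    obtain rfl : i = 17 := by omega
    simp [Nser_last]
  | k + 1, i, h => (card_step (by omega)).trans (by
    rw [pow_succ, mul_comm (2 ^ k)]
    exact Nat.mul_le_mul_left _ (card_le_pow k (i + 1) (by omega)))

theorem pow_le_card : ∀ i, i ≤ 17 → 2 ^ (17 - i) ≤ Nat.card (Nser i)
  | 0, _ => card_zero_ge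
  | i + 1, h => by
    have h1 := pow_le_card i (by omega)
    have h2 := card_step (i := i) (by omega)
    rw [show 17 - i = (17 - (i + 1)) + 1 by omega, pow_succ] at h1
    omega

theorem card_Nser {i : ℕ} (h : i ≤ 17) : Nat.card (Nser i) = 2 ^ (17 - i) :=
  le_antisymm (card_le_pow (17 - i) i (by omega)) (pow_le_card i h)

theorem el_notMem {i : ℕ} (hi : i < 17) : el i ∉ Nser (i + 1) := by
  intro h
  have hle : Nser i ≤ Nser (i + 1) := fun n hn => by
    rcases Nser_split hi hn with h' | ⟨m, hm, rfl⟩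
    exacts [h', mul_mem h hm]
  have h1 := Subgroup.card_le_of_le hle
  rw [card_Nser hi.le, card_Nser (by omega)] at h1
  have h2 : 2 ^ (17 - (i + 1)) < 2 ^ (17 - i) := Nat.pow_lt_pow_right (by norm_num) (by omega)
  omega

end CfsgLib.Presented.Fi22Outer
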