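import Cfsg.Agent.Lib.Presented.Fi22Outer.Eval

/-! The tables of the seventeen elements are correct. -/
set_option autoImplicit false
set_option maxRecDepth 100000

namespace CfsgLib.Presented.Fi22Outer

open Fi22UCosets (ev)
open Fi22UCert (rep)
open Fi22Pts (lookup allLt allLt_spec)

/-- the checks of the elements below `n` and at least `k` -/
noncomputable def tblRange (k n : ℕ) : Bool :=
  allLt (fun j => cond (Nat.ble k j) (tblOK (EW.getD j []) (ET.getD j 0)) true) n

theorem tables_a : tblRange 0 4 = true := by decide +kernel

theorem tables_b : tblRange 4 8 = true := by decide +kernel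

theorem tables_c : tblRange 8 13 = true := by decide +kernel

theorem tables_d : tblRange 13 17 = true := by decide +kernel

theorem range_spec {k n j : ℕ} (h : tblRange k n = true) (hk : k ≤ j) (hn : j < n) :
    Im (el j) (lookup (ET.getD j 0)) := by
  have h1 := allLt_spec h j hn
  rw [show Nat.ble k j = true by rw [Nat.ble_eq]; exact hk] at h1
  exact tblOK_spec h1

theorem el_im {j : ℕ} (hj : j < 17) : Im (el j) (lookup (ET.getD j 0)) := by
  rcases Nat.lt_or_ge j 4 with h | h
  · exact range_spec tables_a (Nat.zero_le _) h
  rcases Nat.lt_or_ge j 8 with h' | h'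
  · exact range_spec tables_b h h'
  rcases Nat.lt_or_ge j 13 with h'' | h''
  · exact range_spec tables_c h' h''
  · exact range_spec tables_d h'' hj

theorem Im.elem : ∀ {w : List ℕ}, okE w = true → Im (evW el w) (elT w)
  | [], _ => by
    rw [evW_nil]
    exact Im.one
  | j :: w, h => by
    obtain ⟨hj, hw⟩ := okE_cons h
    rw [evW_cons]
    intro p hp
    have := ((el_im hj).mul (Im.elem hw)) p hp
    show (Vec.force (elT w p) fun q => lookup (ET.getD j 0) q) < rep.N ∧ _ = Fi22Pts.pt (Vec.force (elT w p) fun q => lookup (ET.getD j 0) q)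
    rw [Vec.force_eq]
    exact this

end CfsgLib.Presented.Fi22Outer
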